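import Cfsg.Agent.TwoPointFour.Affine

/-!
Doubly transitive groups with two-point stabiliser `A₄` (row 3219).
-/

set_option autoImplicit false
set_option linter.unusedSectionVars false
set_option linter.style.haveILetI false

namespace Cfsg.Lib.TwoPointFour

open MulAction Subgroup Equiv Cfsg.Lib.TwoPointFive

universe u v

variable {G : Type u} {Ω : Type v} [Group G] [Finite G] [Finite Ω] [MulAction G Ω]

theorem TwoA4.main (h : TwoA4 G Ω) : (Nat.card Ω = 6 ∧ Nonempty (G ≃* alternatingGroup (Fin 6))) ∨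
    (Nat.card Ω = 15 ∧ Nonempty (G ≃* alternatingGroup (Fin 7))) ∨
    (Nat.card Ω = 16 ∧ ∃ (F : Type) (_ : Field F) (_ : Fintype F), Fintype.card F = 4 ∧
      Nonempty (G ≃* ((Fin 2 → F) ≃ᵃ[F] (Fin 2 → F)))) ∨
    (∃ J : G, orderOf J = 2 ∧ centralizer ({J} : Set G) ⊔ Cfsg.oddCore G = ⊤) := by
  obtain ⟨i, hi2, hin, hi⟩ := h.exists_i
  rcases h.reduce hi2 hin hi with e | e | e | ⟨hn, hpow, A, hA, hsq, hAc, hAfree⟩
  · exact Or.inl e
  · exact Or.inr (Or.inl e)
  · exact Or.inr (Or.inr (Or.inr e))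
  · exact Or.inr (Or.inr (Or.inl (h.affine_end hi2 hin hi hn hpow A hA hsq hAc hAfree)))

end Cfsg.Lib.TwoPointFour
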