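import Cfsg.Agent.SolvStruct.AltAut

/-!
Facts on the alternating and symmetric groups of degree four (row 3219).
-/

set_option autoImplicit false
set_option linter.unusedSectionVars false
set_option linter.style.haveILetI false

namespace Cfsg.Lib.TwoPointFour

open Equiv

/-- The involutions of `S₄` of sign one. -/
def evenInv : Finset (Perm (Fin 4)) := Finset.univ.filter fun x => x * x = 1 ∧ x ≠ 1 ∧ Perm.sign x = 1

/-- The involutions of `S₄` of sign minus one. -/
def oddInv : Finset (Perm (Fin 4)) := Finset.univ.filter fun x => x * x = 1 ∧ Perm.sign x = -1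

/-- The elements of `A₄`. -/
def evenAll : Finset (Perm (Fin 4)) := Finset.univ.filter fun x => Perm.sign x = 1

/-- Conjugation identifies `S₄` with the automorphisms of `A₄`. -/
noncomputable def conjAlt : Perm (Fin 4) ≃* MulAut (alternatingGroup (Fin 4)) :=
  MulEquiv.ofBijective MulAut.conjNormal
    (Cfsg.Lib.SolvStruct.AltAut.conjNormal_bijective (n := 4) le_rfl (by norm_num))

set_option maxRecDepth 100000 in
theorem card_evenInv : evenInv.card = 3 := by decide +kernel

set_option maxRecDepth 100000 in
theorem card_oddInv : oddInv.card = 6 := by decide +kernel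

set_option maxRecDepth 100000 in
theorem evenInv_conj : ∀ x ∈ evenInv, ∀ y ∈ evenInv, ∃ c ∈ evenAll, c * x * c⁻¹ = y := by decide +kernel

set_option maxRecDepth 100000 in
theorem oddInv_conj : ∀ x ∈ oddInv, ∀ y ∈ oddInv, ∃ c ∈ evenAll, c * x * c⁻¹ = y := by decide +kernel

set_option maxRecDepth 100000 in
theorem evenInv_cent : ∀ x ∈ evenInv, (evenAll.filter fun y => y * x = x * y).card = 4 ∧
    ∀ y ∈ evenAll, y * x = x * y → y * y = 1 := by decide +kernel

set_option maxRecDepth 100000 in
theorem evenInv_comm : ∀ x ∈ evenInv, ∀ y ∈ evenInv, x * y = y * x := by decide +kernel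

set_option maxRecDepth 100000 in
theorem evenAll_center : ∀ z ∈ evenAll, (∀ y ∈ evenAll, z * y = y * z) → z = 1 := by decide +kernel

set_option maxRecDepth 100000 in
/-- An element is of order three or a product of two such; no homomorphism kills all of them but a trivial one. -/
theorem evenAll_three : ∀ x ∈ evenAll, ∃ y ∈ evenAll, ∃ y' ∈ evenAll,
    y * y * y = 1 ∧ y' * y' * y' = 1 ∧ y * y' = x := by decide +kernel

set_option maxRecDepth 100000 in
/-- An odd involution centralising an even one and moving its four group; a square root of it. -/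
theorem evenInv_outer : ∀ x ∈ evenInv, (∃ r : Perm (Fin 4), Perm.sign r = -1 ∧ r * r = x) ∧
    ∃ τ ∈ oddInv, τ * x = x * τ ∧ ∃ w ∈ evenInv, w * x = x * w ∧ w ≠ x ∧ τ * w * τ⁻¹ = w * x := by decide +kernel

set_option maxRecDepth 100000 in
/-- A dihedral subgroup of order eight of `S₄`. -/
theorem exists_dihedral_gens : ∃ r s : Perm (Fin 4), r ^ 4 = 1 ∧ r ^ 2 ≠ 1 ∧ s * s = 1 ∧ s * r * s⁻¹ = r⁻¹ ∧
    s ≠ 1 ∧ s ≠ r ^ 2 := by decide +kernel

end Cfsg.Lib.TwoPointFour
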