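import Mathlib

/-!
A fixed-point-free automorphism of order three makes an elementary abelian group of order sixteen the plane over the
field of four elements (row 3219).
-/

set_option autoImplicit false
set_option linter.unusedSectionVars false
set_option linter.style.haveILetI false

namespace Cfsg.Lib.TwoPointFour

open Polynomial MulAction

universe u v

/-- The polynomial of the field of four elements. -/
noncomputable def quad : (ZMod 2)[X] := X ^ 2 + X + 1

theorem quad_natDegree : quad.natDegree = 2 := by rw [quad]; compute_degree!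

theorem quad_monic : quad.Monic := by rw [quad]; monicity!

theorem quad_irreducible : Irreducible quad := by
  rw [quad_monic.irreducible_iff_roots_eq_zero_of_degree_le_three (by rw [quad_natDegree])
    (by rw [quad_natDegree]; norm_num)]
  refine Multiset.eq_zero_of_forall_notMem fun x hx => ?_
  have h := (mem_roots'.1 hx).2
  simp only [quad, IsRoot, eval_add, eval_pow, eval_X, eval_one] at h
  clear hx
  revert h
  revert x
  decide

/-- The field of four elements. -/
abbrev K4 : Type := AdjoinRoot quad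

instance quadFact : Fact (Irreducible quad) := ⟨quad_irreducible⟩

theorem card_K4 : Nat.card K4 = 4 := by
  haveI : Module.Finite (ZMod 2) K4 := quad_monic.finite_adjoinRoot
  haveI : Fintype (ZMod 2) := inferInstance
  rw [Module.natCard_eq_pow_finrank (K := ZMod 2), (AdjoinRoot.powerBasis quad_monic.ne_zero).finrank,
    AdjoinRoot.powerBasis_dim, quad_natDegree, Nat.card_zmod]
  norm_num

instance finiteK4 : Finite K4 := Nat.finite_of_card_ne_zero (by rw [card_K4]; norm_num)

/-- An element killed by the polynomial gives a ring homomorphism from the field of four elements. -/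
noncomputable def liftK4 {R : Type u} [Ring R] [Algebra (ZMod 2) R] (x : R) (hx : x * x + x + 1 = 0) : K4 →+* R :=
  Ideal.Quotient.lift (Ideal.span {quad}) (aeval x).toRingHom fun p hp => by
    obtain ⟨q, rfl⟩ := Ideal.mem_span_singleton.1 hp
    show aeval x (quad * q) = 0
    rw [map_mul, show aeval x quad = 0 by simp [quad, pow_two, hx], zero_mul]

theorem liftK4_commute {R : Type u} [Ring R] [Algebra (ZMod 2) R] (x : R) (hx : x * x + x + 1 = 0) {y : R}
    (hy : y * x = x * y) (c : K4) : y * liftK4 x hx c = liftK4 x hx c * y := by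
  obtain ⟨p, rfl⟩ := Ideal.Quotient.mk_surjective c
  show y * aeval x p = aeval x p * y
  induction p using Polynomial.induction_on' with
  | add p q hp hq => rw [map_add, mul_add, add_mul, hp, hq]
  | monomial n r =>
    rw [aeval_monomial, ← mul_assoc, ← Algebra.commutes r y, mul_assoc, ((show Commute y x from hy).pow_right n).eq,
      mul_assoc]

theorem card_affine_le : Nat.card ((Fin 2 → K4) ≃ᵃ[K4] (Fin 2 → K4)) ≤ 2880 := by
  haveI : Fintype K4 := Fintype.ofFinite K4
  haveI : Finite ((Fin 2 → K4) ≃ₗ[K4] (Fin 2 → K4)) :=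
    Finite.of_injective (fun e => (e : (Fin 2 → K4) → (Fin 2 → K4))) DFunLike.coe_injective
  have hGL : Nat.card ((Fin 2 → K4) ≃ₗ[K4] (Fin 2 → K4)) = 180 := by
    rw [← Nat.card_congr ((Matrix.GeneralLinearGroup.toLin (n := Fin 2) (R := K4)).trans
      (LinearMap.GeneralLinearGroup.generalLinearEquiv K4 (Fin 2 → K4))).toEquiv, Matrix.card_GL_field,
      ← Nat.card_eq_fintype_card, card_K4, Fin.prod_univ_two]
    rfl
  refine (Nat.card_le_card_of_injective
    (fun e : (Fin 2 → K4) ≃ᵃ[K4] (Fin 2 → K4) => (e 0, e.linear)) fun e e' h => ?_).trans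
    (le_of_eq (by rw [Nat.card_prod, hGL, Nat.card_pi, Fin.prod_univ_two, card_K4]; try norm_num))
  obtain ⟨h0, hl⟩ := Prod.ext_iff.1 h
  refine AffineEquiv.ext fun p => ?_
  have e1 := e.map_vadd 0 p
  have e2 := e'.map_vadd 0 p
  simp only [vadd_eq_add, add_zero] at e1 e2
  rw [e1, e2, show e 0 = e' 0 from h0, show e.linear = e'.linear from hl]

variable {G : Type u} {Ω : Type v} [Group G] [Finite G] [MulAction G Ω]

/-- The affine group of the plane over four elements, recognised by a central element of order three. -/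
theorem affine_equiv (A : Subgroup G) (hA : A.Normal) (hsq : ∀ x ∈ A, x * x = 1) (hAc : Nat.card A = 16)
    (hG : Nat.card G = 2880) (hfaith : ∀ g : G, (∀ p : Ω, g • p = p) → g = 1) (a : Ω)
    (hreg : Function.Bijective fun x : A => (x : G) • a) (ω : G) (hω3 : ω * ω * ω = 1)
    (hωc : ∀ f ∈ stabilizer G a, f * ω = ω * f) (hωfree : ∀ x ∈ A, ω * x * ω⁻¹ = x → x = 1) :
    Nonempty (G ≃* ((Fin 2 → K4) ≃ᵃ[K4] (Fin 2 → K4))) := by
  classical
  haveI : Fintype K4 := Fintype.ofFinite K4
  have hcomm : ∀ x y : A, x * y = y * x := fun x y => by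
    calc x * y = (x * y)⁻¹ := (inv_eq_of_mul_eq_one_right (Subtype.ext (hsq _ (x * y).2))).symm
      _ = y * x := by rw [mul_inv_rev, inv_eq_of_mul_eq_one_right (Subtype.ext (hsq _ x.2) : x * x = 1),
        inv_eq_of_mul_eq_one_right (Subtype.ext (hsq _ y.2) : y * y = 1)]
  letI : CommGroup A := { (inferInstance : Group A) with mul_comm := hcomm }
  letI : Module (ZMod 2) (Additive A) := AddCommGroup.zmodModule fun x => by
    rw [two_nsmul]; exact Subtype.ext (hsq _ x.toMul.2)
  -- conjugation
  let cj : G → Module.End (ZMod 2) (Additive A) := fun g =>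
    (MonoidHom.toAdditive (MulAut.conjNormal (H := A) g).toMonoidHom).toZModLinearMap 2
  have cj_apply : ∀ g (x : Additive A), ((cj g x).toMul : G) = g * (x.toMul : G) * g⁻¹ := fun g x =>
    MulAut.conjNormal_apply g x.toMul
  have cj_mul : ∀ g g', cj (g * g') = cj g * cj g' := fun g g' => LinearMap.ext fun x => Additive.toMul.injective
    (Subtype.ext (by rw [Module.End.mul_apply, cj_apply, cj_apply, cj_apply]; group))
  have hrel : cj ω * cj ω + cj ω + 1 = 0 := LinearMap.ext fun x => Additive.toMul.injective (Subtype.ext (by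
    set y : G := ((cj ω * cj ω + cj ω + 1) x).toMul.1 with hy
    have hy' : y = ω * ω * (x.toMul : G) * (ω * ω)⁻¹ * (ω * (x.toMul : G) * ω⁻¹) * (x.toMul : G) := by
      rw [hy]
      simp only [LinearMap.add_apply, Module.End.one_apply, toMul_add, Subgroup.coe_mul, Module.End.mul_apply, cj_apply]
      group
    refine hωfree y ((cj ω * cj ω + cj ω + 1) x).toMul.2 ?_
    set X₀ : G := (x.toMul : G)
    set X₁ : G := ω * X₀ * ω⁻¹
    set X₂ : G := ω * ω * X₀ * (ω * ω)⁻¹
    have m1 : X₁ ∈ A := hA.conj_mem _ x.toMul.2 ω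
    have m2 : X₂ ∈ A := hA.conj_mem _ x.toMul.2 (ω * ω)
    have c : ∀ p q : G, p ∈ A → q ∈ A → p * q = q * p := fun p q hp hq =>
      congrArg Subtype.val (hcomm ⟨p, hp⟩ ⟨q, hq⟩)
    rw [hy']
    calc ω * (X₂ * X₁ * X₀) * ω⁻¹ = (ω * ω * ω) * X₀ * (ω * ω * ω)⁻¹ * X₂ * X₁ := by simp only [X₂, X₁]; group
      _ = X₀ * X₂ * X₁ := by rw [hω3]; group
      _ = X₀ * (X₂ * X₁) := mul_assoc _ _ _
      _ = X₂ * X₁ * X₀ := c _ _ x.toMul.2 (A.mul_mem m2 m1)))
  letI : Module K4 (Additive A) := Module.compHom (Additive A) (liftK4 (cj ω) hrel)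
  have hsmul : ∀ (c : K4) (x : Additive A), c • x = liftK4 (cj ω) hrel c x := fun _ _ => rfl
  haveI : Module.Finite K4 (Additive A) := Module.Finite.of_finite
  have hdim : Module.finrank K4 (Additive A) = 2 := by
    have h1 := Module.natCard_eq_pow_finrank (K := K4) (V := Additive A)
    rw [card_K4, show Nat.card (Additive A) = Nat.card A from Nat.card_congr Additive.toMul, hAc,
      show 16 = 4 ^ 2 from rfl] at h1
    exact (Nat.pow_right_injective (by norm_num) h1).symm
  let b := (Module.finBasisOfFinrankEq K4 (Additive A) hdim).equivFun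
  let β : (Fin 2 → K4) ≃ Ω := b.symm.toEquiv.trans (Additive.toMul.trans (Equiv.ofBijective _ hreg))
  have β_def : ∀ v, β v = ((b.symm v).toMul : G) • a := fun _ => rfl
  -- the linear part
  let tr : G → A := fun g => (Equiv.ofBijective _ hreg).symm (g • a)
  have tr_spec : ∀ g, (tr g : G) • a = g • a := fun g => Equiv.apply_symm_apply (Equiv.ofBijective _ hreg) (g • a)
  let fp : G → G := fun g => (tr g : G)⁻¹ * g
  have fp_mem : ∀ g, fp g ∈ stabilizer G a := fun g => by
    show ((tr g : G)⁻¹ * g) • a = a
    rw [mul_smul, inv_smul_eq_iff, tr_spec]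
  let lin : G → ((Fin 2 → K4) ≃ₗ[K4] (Fin 2 → K4)) := fun g => b.symm.trans (LinearEquiv.trans
    { toFun := cj (fp g)
      invFun := cj (fp g)⁻¹
      map_add' := map_add _
      map_smul' := fun c x => by
        have e := liftK4_commute (cj ω) hrel (y := cj (fp g))
          (by rw [← cj_mul, ← cj_mul, hωc _ (fp_mem g)]) c
        exact LinearMap.congr_fun e x
      left_inv := fun x => Additive.toMul.injective (Subtype.ext (by rw [cj_apply, cj_apply]; group))
      right_inv := fun x => Additive.toMul.injective (Subtype.ext (by rw [cj_apply, cj_apply]; group)) } b)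
  have hvadd : ∀ (g : G) (p v : Fin 2 → K4), β.symm (g • β (v + p)) = lin g v + β.symm (g • β p) := by
    intro g p v
    apply β.injective
    rw [Equiv.apply_symm_apply, β_def, β_def, LinearEquiv.map_add, LinearEquiv.map_add, toMul_add, toMul_add,
      Subgroup.coe_mul, Subgroup.coe_mul]
    have h2 : ((b.symm (β.symm (g • β p))).toMul : G) • a = g • β p := by rw [← β_def, Equiv.apply_symm_apply]
    rw [mul_smul ((b.symm (lin g v)).toMul : G), h2, β_def, smul_smul, smul_smul, smul_smul,
      show b.symm (lin g v) = cj (fp g) (b.symm v) from b.symm_apply_apply _, cj_apply]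
    congr 1
    have hc : (tr g : G) * (fp g * ((b.symm v).toMul : G) * (fp g)⁻¹) =
        fp g * ((b.symm v).toMul : G) * (fp g)⁻¹ * (tr g : G) :=
      congrArg Subtype.val (hcomm (tr g) ⟨_, hA.conj_mem _ (b.symm v).toMul.2 (fp g)⟩)
    have hg : g = (tr g : G) * fp g := (mul_inv_cancel_left _ _).symm
    calc g * (((b.symm v).toMul : G) * ((b.symm p).toMul : G))
        = (tr g : G) * (fp g * ((b.symm v).toMul : G) * (fp g)⁻¹) * fp g * ((b.symm p).toMul : G) := by
          conv_lhs => rw [hg]
          group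
      _ = fp g * ((b.symm v).toMul : G) * (fp g)⁻¹ * ((tr g : G) * fp g) * ((b.symm p).toMul : G) := by
          rw [hc]; group
      _ = _ := by rw [← hg]
  let Ψ : G →* ((Fin 2 → K4) ≃ᵃ[K4] (Fin 2 → K4)) :=
    MonoidHom.mk' (fun g => ⟨β.trans ((MulAction.toPerm g).trans β.symm), lin g, fun p v => hvadd g p v⟩)
      fun g g' => AffineEquiv.ext fun p => by
        show β.symm ((g * g') • β p) = β.symm (g • β (β.symm (g' • β p)))
        rw [Equiv.apply_symm_apply, mul_smul]
  have hinj : Function.Injective Ψ := (injective_iff_map_eq_one Ψ).2 fun g hg => hfaith g fun q => by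
    have := congrArg (fun e : (Fin 2 → K4) ≃ᵃ[K4] (Fin 2 → K4) => e (β.symm q)) hg
    change β.symm (g • β (β.symm q)) = β.symm q at this
    rw [Equiv.apply_symm_apply] at this
    exact β.symm.injective this
  haveI : Finite ((Fin 2 → K4) ≃ᵃ[K4] (Fin 2 → K4)) :=
    Finite.of_injective (fun e => (e : (Fin 2 → K4) → (Fin 2 → K4))) DFunLike.coe_injective
  have hle := Nat.card_le_card_of_injective Ψ hinj
  haveI := Fintype.ofFinite G
  haveI := Fintype.ofFinite ((Fin 2 → K4) ≃ᵃ[K4] (Fin 2 → K4))
  refine ⟨MulEquiv.ofBijective Ψ ((Fintype.bijective_iff_injective_and_card Ψ).2 ⟨hinj, ?_⟩)⟩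
  rw [← Nat.card_eq_fintype_card, ← Nat.card_eq_fintype_card]
  have := card_affine_le
  omega

end Cfsg.Lib.TwoPointFour
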