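import Mathlib
import Cfsg.Agent.InvolCalc.Dihedral

/-!
A group of order one hundred and eighty with a central element of order three (row 3219).
-/

set_option autoImplicit false
set_option linter.unusedSectionVars false
set_option linter.style.haveILetI false

namespace Cfsg.Lib.TwoPointFour

open Subgroup

universe u

variable {X : Type u} [Group X] [Finite X]

/-- Five four-groups moved by conjugation leave a central subgroup of order three. -/
theorem exists_central_three (hX : Nat.card X = 180) (V : Subgroup X) (hV : Nat.card V = 4)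
    (hsq : ∀ x ∈ V, x * x = 1) (hone : ∀ a b : X, orderOf a = 2 → orderOf b = 2 → IsConj a b)
    (hC : Nat.card (centralizer (V : Set X)) = 12) (hVn : ¬ V.Normal)
    (hrot : ∃ g ∈ normalizer (V : Set X), g ∉ centralizer (V : Set X)) :
    ∃ ω : X, orderOf ω = 3 ∧ ∀ g : X, g * ω = ω * g := by
  classical
  haveI : Fact (Nat.Prime 2) := ⟨Nat.prime_two⟩
  haveI : Fact (Nat.Prime 3) := ⟨Nat.prime_three⟩
  haveI hK4 : IsKleinFour V := by
    haveI : Nontrivial V := Finite.one_lt_card_iff_nontrivial.1 (by omega)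
    exact ⟨hV, (Nat.dvd_prime Nat.prime_two).1 (Monoid.exponent_dvd_of_forall_pow_eq_one (G := V)
      (n := 2) fun x => Subtype.ext (by rw [pow_two]; exact hsq x.1 x.2)) |>.resolve_left fun e =>
        not_subsingleton V (Monoid.exp_eq_one_iff.1 e)⟩
  set N := normalizer (V : Set X) with hN
  set ψ := V.normalizerMonoidHom
  have hker : Nat.card ψ.ker = 12 := by
    rw [← hC, normalizerMonoidHom_ker]
    exact Nat.card_congr (subgroupOfEquivOfLe (centralizer_le_normalizer _)).toEquiv
  have hrange : Nat.card ψ.range ∣ 6 := by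
    let S := {x : V // x ≠ 1}
    have hS : Nat.card S = 3 := by
      haveI := Fintype.ofFinite V
      rw [Nat.card_eq_fintype_card, Fintype.card_subtype_compl, Fintype.card_subtype_eq, ← Nat.card_eq_fintype_card, hV]
    let f : ψ.range →* Equiv.Perm S :=
      { toFun := fun φ => (φ.1.toEquiv).subtypeEquiv fun x =>
          (EquivLike.injective φ.1).ne_iff' (map_one φ.1) |>.symm
        map_one' := Equiv.ext fun x => Subtype.ext rfl
        map_mul' := fun φ φ' => Equiv.ext fun x => Subtype.ext rfl }
    have hf : Function.Injective f := fun φ φ' e => by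
      refine Subtype.ext (MulEquiv.ext fun x => ?_)
      by_cases hx : x = 1
      · rw [hx, map_one, map_one]
      · exact congrArg Subtype.val (DFunLike.congr_fun e ⟨x, hx⟩)
    have := Subgroup.card_dvd_of_injective f hf
    rwa [Nat.card_perm, hS, show Nat.factorial 3 = 6 from rfl] at this
  have hNc : 12 * Nat.card ψ.range = Nat.card N := by
    rw [← hker, ← Subgroup.index_ker]
    exact ψ.ker.card_mul_index
  have hr1 : Nat.card ψ.range ≠ 1 := fun e => by
    obtain ⟨g, hg, hgc⟩ := hrot
    refine hgc ?_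
    have : ψ ⟨g, hg⟩ = 1 := Subgroup.mem_bot.1 (Subgroup.eq_bot_of_card_eq _ e ▸ (⟨_, rfl⟩ : ψ ⟨g, hg⟩ ∈ ψ.range))
    have h1 : (⟨g, hg⟩ : N) ∈ ψ.ker := this
    rw [normalizerMonoidHom_ker] at h1
    exact h1
  have hNX := Subgroup.card_subgroup_dvd_card N
  have hidx : N.index = 5 := by
    have h1 := N.card_mul_index
    rw [hX] at hNX h1
    rw [← hNc] at h1 hNX
    have h2 : Nat.card ψ.range ∣ 15 := (Nat.mul_dvd_mul_iff_left (by norm_num : 0 < 12)).1
      (show 12 * Nat.card ψ.range ∣ 12 * 15 from hNX)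
    have h3 : Nat.card ψ.range ∣ 3 := Nat.dvd_gcd h2 hrange
    rcases (Nat.dvd_prime Nat.prime_three).1 h3 with e | e
    · exact absurd e hr1
    · rw [e] at h1; omega
  -- the kernel on the five conjugates
  set K := N.normalCore
  have hKn : K.Normal := normalCore_normal N
  have hKle : K ≤ N := normalCore_le N
  have hVN : V ≤ N := le_normalizer
  have hKodd : ¬ 2 ∣ Nat.card K := fun hd => by
    obtain ⟨k, hk⟩ := exists_prime_orderOf_dvd_card' (G := K) 2 hd
    rw [← Subgroup.orderOf_coe] at hk
    -- every involution would lie in the four-group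
    have hinN : ∀ u : X, orderOf u = 2 → u ∈ V := by
      intro u hu
      obtain ⟨c, hc⟩ := isConj_iff.1 (hone k.1 u hk hu)
      have huN : u ∈ N := hKle (hc ▸ hKn.conj_mem k.1 k.2 c)
      have hz : IsPGroup 2 (zpowers u) := IsPGroup.of_card (n := 1) (by rw [Nat.card_zpowers, hu, pow_one])
      have hV2 : IsPGroup 2 V := IsPGroup.of_card (n := 2) (by rw [hV]; norm_num)
      have hsup := IsPGroup.to_sup_of_normal_right' hz hV2 (zpowers_le.2 huN)
      obtain ⟨j, hj⟩ := IsPGroup.iff_card.1 hsup
      have hle : Nat.card ↥(zpowers u ⊔ V) ≤ 4 := by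
        have hd : Nat.card ↥(zpowers u ⊔ V) ∣ 180 := hX ▸ Subgroup.card_subgroup_dvd_card _
        rw [hj] at hd ⊢
        by_contra hh
        have : 3 ≤ j := by
          by_contra h3
          interval_cases j <;> simp_all
        have h8 : 2 ^ 3 ∣ 180 := (pow_dvd_pow 2 this).trans hd
        norm_num at h8
      have he : V = zpowers u ⊔ V := Subgroup.eq_of_le_of_card_ge le_sup_right (by rw [hV]; exact hle)
      rw [he]
      exact mem_sup_left (mem_zpowers u)
    refine hVn ⟨fun x hx g => ?_⟩
    rcases eq_or_ne x 1 with rfl | hx1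
    · rw [mul_one, mul_inv_cancel]; exact V.one_mem
    refine hinN _ (InvolCalc.order_two_of_mul_self ?_ fun e => hx1 (conj_eq_one_iff.1 e))
    rw [show g * x * g⁻¹ * (g * x * g⁻¹) = g * (x * x) * g⁻¹ by group, hsq x hx, mul_one, mul_inv_cancel]
  have hdis : ∀ y : X, y ∈ K → y ∈ V → y = 1 := fun y hy hy' => by
    by_contra hne
    have h2 := InvolCalc.order_two_of_mul_self (hsq y hy') hne
    exact hKodd (h2 ▸ Subgroup.orderOf_dvd_natCard K hy)
  have hKC : K ≤ centralizer (V : Set X) := fun k hk => mem_centralizer_iff.2 fun v hv => by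
    have h1 : k * v * k⁻¹ * v⁻¹ ∈ V := V.mul_mem (Subgroup.mem_normalizer_iff.1 (hKle hk) v |>.1 hv) (V.inv_mem hv)
    have h2 : k * v * k⁻¹ * v⁻¹ ∈ K := by
      rw [show k * v * k⁻¹ * v⁻¹ = k * (v * k⁻¹ * v⁻¹) by group]
      exact K.mul_mem hk (hKn.conj_mem _ (K.inv_mem hk) v)
    have h3 := hdis _ h2 h1
    exact (mul_inv_eq_iff_eq_mul.1 (mul_inv_eq_one.1 h3)).symm
  have hK3 : Nat.card K = 3 := by
    have h12 : Nat.card K ∣ 12 := hC ▸ Subgroup.card_dvd_of_le hKC
    have hd : K.index ∣ 120 := by
      rw [show K = (MulAction.toPermHom X (X ⧸ N)).ker from N.normalCore_eq_ker, Subgroup.index_ker]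
      have := Subgroup.card_subgroup_dvd_card (MulAction.toPermHom X (X ⧸ N)).range
      rwa [Nat.card_perm, ← Subgroup.index_eq_card, hidx] at this
    have hm := K.card_mul_index
    rw [hX] at hm
    have hle := Nat.le_of_dvd (by norm_num) h12
    have h0 : 0 < Nat.card K := Nat.card_pos
    interval_cases hc : Nat.card K <;> first | omega | (norm_num at h12) | skip
    rw [show K.index = 180 by omega] at hd
    norm_num at hd
  -- the odd quotient acts trivially on it
  haveI := hKn
  haveI : IsCyclic K := isCyclic_of_prime_card hK3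
  set φ : X →* MulAut K := MulAut.conjNormal
  have hφ : φ.range = ⊥ := by
    refine Subgroup.eq_bot_of_card_eq _ ?_
    have h2 : Nat.card φ.range ∣ 2 := by
      have := Subgroup.card_subgroup_dvd_card φ.range
      rwa [IsCyclic.card_mulAut, hK3, Nat.totient_prime Nat.prime_three] at this
    have hVker : V ≤ φ.ker := fun v hv => MulEquiv.ext fun k => Subtype.ext (by
      show (φ v k : X) = k
      rw [MulAut.conjNormal_apply, mem_centralizer_iff.1 (hKC k.2) v hv, mul_inv_cancel_right])
    have h4 : 4 ∣ Nat.card φ.ker := hV ▸ Subgroup.card_dvd_of_le hVker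
    have hm := φ.ker.card_mul_index
    rw [Subgroup.index_ker, hX] at hm
    rcases (Nat.dvd_prime Nat.prime_two).1 h2 with e | e
    · exact e
    · rw [e] at hm; omega
  obtain ⟨ω, hω⟩ := exists_prime_orderOf_dvd_card' (G := K) 3 (by rw [hK3])
  refine ⟨ω.1, by rw [Subgroup.orderOf_coe, hω], fun g => ?_⟩
  have h1 : φ g = 1 := Subgroup.mem_bot.1 (hφ ▸ (⟨g, rfl⟩ : φ g ∈ φ.range))
  have h2 := congrArg (fun ψ : MulAut K => (ψ ω : X)) h1
  simp only [φ, MulAut.one_apply] at h2
  rw [MulAut.conjNormal_apply] at h2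
  exact mul_inv_eq_iff_eq_mul.1 h2

end Cfsg.Lib.TwoPointFour
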