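import Cfsg.Agent.TwoPointFour.Reduce
import Cfsg.Agent.TwoPointFour.Order180
import Cfsg.Agent.TwoPointFour.FieldFour
import Cfsg.Agent.GenDihedral.Formula

/-!
The affine case: sixteen points (row 3219).
-/

set_option autoImplicit false
set_option linter.unusedSectionVars false
set_option linter.style.haveILetI false

namespace Cfsg.Lib.TwoPointFour

open MulAction Subgroup Equiv Cfsg.Lib.TwoPointFive

universe u v

variable {G : Type u} {Ω : Type v} [Group G] [Finite G] [Finite Ω] [MulAction G Ω]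

namespace TwoA4

variable (h : TwoA4 G Ω) {i : ℕ} (hi2 : 2 ≤ i) (hin : i < Nat.card Ω)
  (hi : ∀ u ∈ doubles G Ω, Nat.card (fixedBy Ω u) = i)
  (hn : Nat.card Ω = i * i) (hpow : ∃ j : ℕ, i = 2 ^ j)
include h hi2 hin hi hn hpow

omit hin hi hn in
theorem i_even : i % 2 = 0 := by
  obtain ⟨j, rfl⟩ := hpow
  rcases j with _ | j
  · norm_num at hi2
  · rw [pow_succ]; omega

omit hin in
/-- The centraliser of a double in a point stabiliser. -/
theorem card_stab_cent {a b : Ω} (hab : a ≠ b) {t : G} (ht : t ∈ doubles G Ω)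
    (htP : t ∈ stabilizer G a ⊓ stabilizer G b) :
    Nat.card ↥(stabilizer G a ⊓ centralizer ({t} : Set G)) = 4 * (i - 1) := by
  classical
  set C := centralizer ({t} : Set G) with hC
  letI : MulAction C (fixedBy Ω t) := MulAction.compHom _ (restrictHom C (fixedBy Ω t) (fixed_maps t))
  haveI : IsPretransitive C (fixedBy Ω t) := ⟨fun p q => by
    obtain ⟨g₁, hg₁, h1, -⟩ : ∃ g ∈ C, g • p.1 = q.1 ∧ True := by
      rcases eq_or_ne p q with rfl | hne
      · exact ⟨1, C.one_mem, one_smul G _, trivial⟩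
      · obtain ⟨g, hg, h1, -⟩ := h.cent_move ht (fun e => hne (Subtype.ext e)) (fun e => hne (Subtype.ext e.symm))
          p.2 q.2 q.2 p.2
        exact ⟨g, hg, h1, trivial⟩
    exact ⟨⟨g₁, hg₁⟩, Subtype.ext h1⟩⟩
  have h1 := (stabilizer C (⟨a, htP.1⟩ : fixedBy Ω t)).card_mul_index
  rw [index_stabilizer_of_transitive, hi t ht, h.card_cent hi ht] at h1
  have e : Nat.card (stabilizer C (⟨a, htP.1⟩ : fixedBy Ω t)) = Nat.card ↥(stabilizer G a ⊓ C) :=
    Nat.card_congr
      { toFun := fun x => ⟨x.1.1, congrArg Subtype.val x.2, x.1.2⟩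
        invFun := fun x => ⟨⟨x.1, x.2.2⟩, Subtype.ext x.2.1⟩
        left_inv := fun _ => rfl
        right_inv := fun _ => rfl }
  rw [e] at h1
  refine Nat.eq_of_mul_eq_mul_right (by omega : 0 < i) ?_
  rw [h1]
  ring

omit hin in
/-- In a centraliser the normaliser of the four-group centralises it. -/
theorem normaliser_centralises {a b : Ω} (hab : a ≠ b) {t : G} (ht : t ∈ doubles G Ω)
    (htP : t ∈ stabilizer G a ⊓ stabilizer G b) {g : G} (hg : g ∈ stabilizer G a ⊓ centralizer ({t} : Set G))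
    (hgn : ∀ x ∈ (stabilizer G a ⊓ stabilizer G b) ⊓ centralizer ({t} : Set G),
      g * x * g⁻¹ ∈ (stabilizer G a ⊓ stabilizer G b) ⊓ centralizer ({t} : Set G)) :
    ∀ x ∈ (stabilizer G a ⊓ stabilizer G b) ⊓ centralizer ({t} : Set G), g * x = x * g := by
  obtain ⟨hsq, h4⟩ := h.pair_cent hab htP ht.1 ht.2.1
  set V := (stabilizer G a ⊓ stabilizer G b) ⊓ centralizer ({t} : Set G) with hV
  have hVsq : ∀ x ∈ V, x * x = 1 := fun x hx => hsq x hx.1 (mem_centralizer_singleton_iff.1 hx.2)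
  have hVc : ∀ x ∈ V, ∀ y ∈ V, x * y = y * x := fun x hx y hy => h.pair_invol_comm hab hx.1 hy.1 (hVsq x hx) (hVsq y hy)
  set M := (stabilizer G a ⊓ centralizer ({t} : Set G)) ⊓ normalizer (V : Set G)
  have hVM : V ≤ M := fun x hx => ⟨⟨hx.1.1, hx.2⟩, le_normalizer hx⟩
  set φ : M →* MulAut V := V.normalizerMonoidHom.comp (Subgroup.inclusion inf_le_right)
  have hker : 4 ∣ Nat.card φ.ker := by
    rw [← h4]
    have hle : V.subgroupOf M ≤ φ.ker := fun x hx => MulEquiv.ext fun y => Subtype.ext (by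
      show x.1 * y.1 * x.1⁻¹ = y.1
      rw [hVc x.1 hx y.1 y.2, mul_inv_cancel_right])
    rw [← Nat.card_congr (subgroupOfEquivOfLe hVM).toEquiv]
    exact Subgroup.card_dvd_of_le hle
  have hrange : Odd (Nat.card φ.range) := by
    obtain ⟨c, hc⟩ := hker
    have h1 := φ.ker.card_mul_index
    rw [Subgroup.index_ker, hc] at h1
    have h2 : Nat.card M ∣ 4 * (i - 1) := h.card_stab_cent hi2 hi hn hpow hab ht htP ▸ Subgroup.card_dvd_of_le inf_le_left
    rw [← h1, mul_assoc] at h2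
    have h3 : Nat.card φ.range ∣ i - 1 :=
      (dvd_mul_left _ c).trans ((Nat.mul_dvd_mul_iff_left (by norm_num : 0 < 4)).1 h2)
    refine Odd.of_dvd_nat ?_ h3
    have := h.i_even hi2 hpow
    exact Nat.odd_iff.2 (by omega)
  have hgN : g ∈ normalizer (V : Set G) := Cfsg.Lib.ZStarApps.mem_normalizer_of_maps hgn
  set x₀ : M := ⟨g, hg, hgN⟩
  have hsq' : φ x₀ * φ x₀ = 1 := by
    refine MulEquiv.ext fun y => Subtype.ext ?_
    show g * (g * y.1 * g⁻¹) * g⁻¹ = y.1
    have htV : t ∈ V := ⟨htP, mem_centralizer_singleton_iff.2 rfl⟩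
    have hgt : g * t * g⁻¹ = t := mul_inv_eq_iff_eq_mul.2 (mem_centralizer_singleton_iff.1 hg.2)
    rcases eq_or_ne y.1 1 with e | hy1
    · rw [e]; group
    rcases eq_or_ne y.1 t with e | hyt
    · rw [e, hgt, hgt]
    rcases four_cases h4 htV y.2 ht.2.1 hy1 hyt ht.1 _ (hgn _ y.2) with e | e | e | e
    · exact absurd (conj_eq_one_iff.1 e) hy1
    · exact absurd (mul_left_cancel (mul_right_cancel (e.trans hgt.symm))) hyt
    · rw [e, e]
    · rw [e, show g * (t * y.1) * g⁻¹ = g * t * g⁻¹ * (g * y.1 * g⁻¹) by group, hgt, e, ← mul_assoc, ht.1, one_mul]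
  have h2 : orderOf (φ x₀) ∣ 2 := orderOf_dvd_of_pow_eq_one (by rw [pow_two]; exact hsq')
  have h3 : orderOf (φ x₀) ∣ Nat.card φ.range := Subgroup.orderOf_dvd_natCard _ ⟨x₀, rfl⟩
  have h1 : φ x₀ = 1 := orderOf_eq_one_iff.1 (Nat.eq_one_of_dvd_coprimes (Nat.coprime_two_left.2 hrange) h2 h3)
  intro x hx
  have := congrArg Subtype.val (DFunLike.congr_fun h1 (⟨x, hx⟩ : V))
  exact mul_inv_eq_iff_eq_mul.1 (this : g * x * g⁻¹ = x)

variable (A : Subgroup G) (hA : A.Normal) (hsqA : ∀ x ∈ A, x * x = 1) (hAc : Nat.card A = Nat.card Ω)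
  (hAfree : ∀ g ∈ A, ∀ p : Ω, g • p = p → g = 1)
include hA hsqA hAc hAfree

/-- The affine case. -/
theorem affine_end : Nat.card Ω = 16 ∧ ∃ (F : Type) (_ : Field F) (_ : Fintype F), Fintype.card F = 4 ∧
    Nonempty (G ≃* ((Fin 2 → F) ≃ᵃ[F] (Fin 2 → F))) := by
  classical
  haveI : Fact (Nat.Prime 2) := ⟨Nat.prime_two⟩
  haveI := h.nontrivial
  obtain ⟨a, b, hab⟩ := exists_pair_ne Ω
  obtain ⟨t, ht, htP⟩ := h.exists_double hab
  have hieven := h.i_even hi2 hpow
  have hn2 : Nat.card Ω % 2 = 0 := by rw [hn, Nat.mul_mod, hieven]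
  obtain ⟨hsq, h4⟩ := h.pair_cent hab htP ht.1 ht.2.1
  set V := (stabilizer G a ⊓ stabilizer G b) ⊓ centralizer ({t} : Set G) with hV
  have hVsq : ∀ x ∈ V, x * x = 1 := fun x hx => hsq x hx.1 (mem_centralizer_singleton_iff.1 hx.2)
  have htV : t ∈ V := ⟨htP, mem_centralizer_singleton_iff.2 rfl⟩
  set X := stabilizer G a with hX
  have hXc : Nat.card X = (i * i - 1) * 12 := by rw [h.card_stab, hn]
  have hVX : V ≤ X := fun x hx => hx.1.1
  set V' := V.subgroupOf X with hV'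
  have hV'4 : Nat.card V' = 4 := by rw [Nat.card_congr (subgroupOfEquivOfLe hVX).toEquiv, h4]
  have hV'sq : ∀ x ∈ V', x * x = 1 := fun x hx => Subtype.ext (hVsq x.1 hx)
  have hone : ∀ u w : X, orderOf u = 2 → orderOf w = 2 → IsConj u w := by
    have key : ∀ u : X, orderOf u = 2 → IsConj (⟨t, htP.1⟩ : X) u := by
      intro u hu
      rw [← Subgroup.orderOf_coe] at hu
      have hu2 := InvolCalc.sq_of_order_two hu
      have hpar := fixedBy_parity (Φ := Ω) hu2
      rw [hn2] at hpar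
      haveI : Nonempty (fixedBy Ω u.1) := ⟨⟨a, u.2⟩⟩
      have hpos : 0 < Nat.card (fixedBy Ω u.1) := Nat.card_pos
      haveI : Nontrivial (fixedBy Ω u.1) := Finite.one_lt_card_iff_nontrivial.1 (by omega)
      obtain ⟨⟨q, hq⟩, hqa⟩ := _root_.exists_ne (⟨a, u.2⟩ : fixedBy Ω u.1)
      have hqa' : a ≠ q := fun e => hqa (Subtype.ext e.symm)
      obtain ⟨g, hga, hgb⟩ := h.move a b a q hab hqa'
      have hm : g * t * g⁻¹ ∈ stabilizer G a ⊓ stabilizer G q :=
        ⟨show (g * t * g⁻¹) • a = a by rw [mul_smul, inv_smul_eq_iff.2 hga.symm, mul_smul, show t • a = a from htP.1, hga],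
          show (g * t * g⁻¹) • q = q by rw [← hgb, mul_smul, inv_smul_smul, mul_smul, show t • b = b from htP.2]⟩
      obtain ⟨c, hc, hcu⟩ := h.pair_invol_conj hqa' hm (y := u.1) ⟨u.2, hq⟩ (sq_conj ht.1 g) hu2
        (fun e => ht.2.1 (conj_eq_one_iff.1 e)) (InvolCalc.ne_one_of_order_two hu)
      refine isConj_iff.2 ⟨⟨c * g, X.mul_mem hc.1 hga⟩, Subtype.ext ?_⟩
      show c * g * t * (c * g)⁻¹ = u.1
      rw [← hcu]
      group
    exact fun u w hu hw => (key u hu).symm.trans (key w hw)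
  -- the Sylow subgroup
  obtain ⟨S, hS⟩ := (IsPGroup.of_card (p := 2) (n := 2) (by rw [hV'4]; norm_num) : IsPGroup 2 V').exists_le_sylow
  have hSV : V' = (S : Subgroup X) := by
    refine Subgroup.eq_of_le_of_card_ge hS ?_
    rw [hV'4]
    obtain ⟨j, hj⟩ := IsPGroup.iff_card.1 S.2
    have hd := Subgroup.card_subgroup_dvd_card (S : Subgroup X)
    rw [hj, hXc] at hd
    rw [hj]
    have hodd : Odd ((i * i - 1) * 3) := by
      refine Odd.mul (Nat.odd_iff.2 ?_) (by decide)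
      have : i * i % 2 = 0 := by rw [Nat.mul_mod, hieven]
      have : 4 ≤ i * i := Nat.mul_le_mul hi2 hi2
      omega
    rw [show (i * i - 1) * 12 = 2 ^ 2 * ((i * i - 1) * 3) by ring] at hd
    have hcop : Nat.Coprime (2 ^ j) ((i * i - 1) * 3) := (Nat.coprime_two_left.2 hodd).pow_left j
    exact Nat.le_of_dvd (by norm_num) (hcop.dvd_of_dvd_mul_right hd)
  have hcentV : Nat.card (centralizer (V' : Set X)) = Nat.card ↥(X ⊓ centralizer (V : Set G)) := by
    refine Nat.card_congr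
      { toFun := fun x => ⟨x.1.1, x.1.2, mem_centralizer_iff.2 fun y hy =>
          congrArg Subtype.val (mem_centralizer_iff.1 x.2 ⟨y, hVX hy⟩ hy)⟩
        invFun := fun x => ⟨⟨x.1, x.2.1⟩, mem_centralizer_iff.2 fun y hy =>
          Subtype.ext (mem_centralizer_iff.1 x.2.2 y.1 hy)⟩
        left_inv := fun _ => rfl
        right_inv := fun _ => rfl }
  have hcentT : Nat.card (centralizer ({(⟨t, htP.1⟩ : X)} : Set X)) = 4 * (i - 1) := by
    rw [← h.card_stab_cent hi2 hi hn hpow hab ht htP]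
    exact Nat.card_congr
      { toFun := fun x => ⟨x.1.1, x.1.2, mem_centralizer_singleton_iff.2
          (congrArg Subtype.val (mem_centralizer_singleton_iff.1 x.2))⟩
        invFun := fun x => ⟨⟨x.1, x.2.1⟩, mem_centralizer_singleton_iff.2
          (Subtype.ext (mem_centralizer_singleton_iff.1 x.2.2))⟩
        left_inv := fun _ => rfl
        right_inv := fun _ => rfl }
  obtain ⟨ρ, hρ⟩ : 4 ∣ Nat.card (centralizer (V' : Set X)) := by
    rw [← hV'4]
    exact Subgroup.card_dvd_of_le fun x hx => mem_centralizer_iff.2 fun y hy => Subtype.ext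
      (h.pair_invol_comm hab (SetLike.mem_coe.1 hy).1 hx.1 (hVsq _ hy) (hVsq _ hx))
  obtain ⟨s, hs1, hs2, hform⟩ := Cfsg.Lib.GenDihedral.klein_order_gen S (by rw [← hSV, hV'4]) (hSV ▸ hV'sq) hone
    (ρ := ρ) (by rw [← hSV]; exact hρ) (J := ⟨t, htP.1⟩) (hSV ▸ htV)
    (by rw [Subgroup.orderOf_mk]; exact InvolCalc.order_two_of_mul_self ht.1 ht.2.1)
  rw [hcentT, hXc] at hform
  obtain ⟨l, rfl⟩ : ∃ l, i = l + 1 := ⟨i - 1, by omega⟩
  rw [Nat.add_sub_cancel, show (l + 1) * (l + 1) - 1 = l * (l + 2) by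
    rw [show (l + 1) * (l + 1) = l * (l + 2) + 1 by ring, Nat.add_sub_cancel]] at hform
  push_cast at hform
  have hl0 : (0 : ℚ) < l := by exact_mod_cast (show 0 < l by omega)
  have hform' : 8 * (l : ℚ) ^ 2 = 3 * ((l : ℚ) + 2) * (ρ : ℚ) ^ 2 * s := by
    refine mul_left_cancel₀ (mul_ne_zero (by norm_num : (8 : ℚ) ≠ 0) hl0.ne') ?_
    linear_combination hform
  rcases h.kerOf_cases with hK | hK
  swap
  · -- too small a centraliser of the four-group
    exfalso
    have hH := h.half_cent hK ht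
    obtain ⟨k, hk2, hki, hk⟩ := hH.exists_k
    have hki' : k * k ≤ l + 1 := by
      rcases hH.dichotomy hk2 hki hk with e | e
      · have := e.2
        rw [hi t ht] at this
        have : k ≤ k * k := Nat.le_mul_self k
        omega
      · have := e.2.1
        rw [hi t ht] at this
        omega
    have hkl : k < l + 1 := by
      have := Nat.mul_le_mul hk2 (le_refl k)
      omega
    obtain ⟨w, hw, hw1, hwt⟩ : ∃ w ∈ V, w ≠ 1 ∧ w ≠ t := by
      by_contra! hh
      have hsub : (V : Set G) ⊆ {1, t} := fun y hy => by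
        by_cases hy1 : y = 1
        · exact Or.inl hy1
        · exact Or.inr (hh y hy hy1)
      have h2 : Nat.card V ≤ 2 := by
        calc Nat.card V = (V : Set G).ncard := Nat.card_coe_set_eq _
          _ ≤ ({1, t} : Set G).ncard := Set.ncard_le_ncard hsub (Set.toFinite _)
          _ ≤ 2 := (Set.ncard_insert_le _ _).trans (by rw [Set.ncard_singleton])
      omega
    have hwρ : img Ω t ⟨w, hw.2⟩ ∈ doubles (imgGroup Ω t) ↥(fixedBy Ω t) := ⟨img_sq t (hVsq w hw),
      h.img_ne hK ht hw1 hwt, two_le_fixed (a := (⟨a, htP.1⟩ : fixedBy Ω t)) (b := ⟨b, htP.2⟩)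
        (fun e => hab (congrArg Subtype.val e)) (Subtype.ext hw.1.1) (Subtype.ext hw.1.2)⟩
    -- the centraliser of the four-group on the common fixed points
    set CV := X ⊓ centralizer (V : Set G) with hCV
    set Ψ := {q : Ω // (t • q = q ∧ w • q = q) ∧ q ≠ a}
    have hΨ : Nat.card Ψ + 1 ≤ k := by
      rw [← hk _ hwρ]
      let f : Option Ψ → fixedBy ↥(fixedBy Ω t) (img Ω t ⟨w, hw.2⟩) := fun o => o.elim
        ⟨⟨a, htP.1⟩, Subtype.ext hw.1.1⟩ fun q => ⟨⟨q.1, q.2.1.1⟩, Subtype.ext q.2.1.2⟩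
      have hf : Function.Injective f := by
        rintro (_ | q) (_ | q') e <;> have e' := congrArg (fun y : fixedBy ↥(fixedBy Ω t) (img Ω t ⟨w, hw.2⟩) => y.1.1) e
        · rfl
        · exact absurd e' q'.2.2.symm
        · exact absurd e' q.2.2
        · exact congrArg some (Subtype.ext e')
      have := Nat.card_le_card_of_injective f hf
      rwa [Finite.card_option] at this
    have hmaps : ∀ g ∈ CV, ∀ q : Ω, (t • q = q ∧ w • q = q) ∧ q ≠ a → (t • g • q = g • q ∧ w • g • q = g • q) ∧ g • q ≠ a := by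
      rintro g ⟨hga, hgV⟩ q ⟨⟨hq1, hq2⟩, hq3⟩
      refine ⟨⟨?_, ?_⟩, fun e => hq3 (MulAction.injective g (e.trans (hga : g • a = a).symm))⟩
      · rw [smul_smul, mem_centralizer_iff.1 hgV t htV, mul_smul, hq1]
      · rw [smul_smul, mem_centralizer_iff.1 hgV w hw, mul_smul, hq2]
    letI : MulAction CV Ψ :=
      { smul := fun g q => ⟨g.1 • q.1, hmaps g.1 g.2 q.1 q.2⟩
        one_smul := fun q => Subtype.ext (one_smul G q.1)
        mul_smul := fun g g' q => Subtype.ext (mul_smul g.1 g'.1 q.1) }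
    set q₀ : Ψ := ⟨b, ⟨htP.2, hw.1.2⟩, hab.symm⟩
    have hst : Nat.card (stabilizer CV q₀) ≤ 4 := by
      rw [← h4]
      refine Nat.card_le_card_of_injective (fun g => (⟨g.1.1, ⟨g.1.2.1, congrArg Subtype.val g.2⟩,
        mem_centralizer_singleton_iff.2 (mem_centralizer_iff.1 g.1.2.2 t htV).symm⟩ : V)) fun g g' e => ?_
      exact Subtype.ext (Subtype.ext (congrArg Subtype.val e :))
    have hcv : 4 * ρ ≤ 4 * (k - 1) := by
      rw [← hρ, hcentV, ← (stabilizer CV q₀).card_mul_index, index_stabilizer]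
      refine Nat.mul_le_mul hst (le_trans ?_ (show Nat.card Ψ ≤ k - 1 by omega))
      exact Set.ncard_le_card _
    have hρk : (ρ : ℚ) ≤ (k : ℚ) - 1 := by
      have : ρ + 1 ≤ k := by omega
      have : ((ρ + 1 : ℕ) : ℚ) ≤ (k : ℚ) := by exact_mod_cast this
      push_cast at this
      linarith
    have hk2' : (2 : ℚ) ≤ k := by exact_mod_cast hk2
    have hkl' : (k : ℚ) * k ≤ (l : ℚ) + 1 := by exact_mod_cast hki'
    have hkl'' : (k : ℚ) < (l : ℚ) + 1 := by exact_mod_cast hkl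
    have h1 : 8 * (l : ℚ) ^ 2 ≤ 8 * ((l : ℚ) + 2) * ((k : ℚ) - 1) ^ 2 := by
      rw [hform']
      have hr0 : (0 : ℚ) ≤ ρ := Nat.cast_nonneg ρ
      have h2 : (ρ : ℚ) ^ 2 ≤ ((k : ℚ) - 1) ^ 2 := pow_le_pow_left₀ hr0 hρk 2
      have h3 : 3 * ((l : ℚ) + 2) * (ρ : ℚ) ^ 2 * s ≤ 3 * ((l : ℚ) + 2) * ((k : ℚ) - 1) ^ 2 * (8 / 3) :=
        mul_le_mul (mul_le_mul_of_nonneg_left h2 (by positivity)) hs2 (by linarith) (by positivity)
      linarith
    have h2 : ((l : ℚ) + 2) * ((k : ℚ) - 1) < (l : ℚ) * ((k : ℚ) + 1) := by nlinarith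
    have h3 : (l : ℚ) * ((k : ℚ) + 1) * ((k : ℚ) - 1) ≤ (l : ℚ) * l :=
      by rw [mul_assoc]; exact mul_le_mul_of_nonneg_left (by nlinarith) hl0.le
    nlinarith [mul_lt_mul_of_pos_right h2 (show (0 : ℚ) < (k : ℚ) - 1 by linarith)]
  -- the four-group is the kernel
  have hVker : kerOf Ω t = V := h.kerOf_eq hK ht hab htP.1 htP.2
  have hCeq : X ⊓ centralizer ({t} : Set G) = X ⊓ centralizer (V : Set G) := by
    refine le_antisymm (fun g hg => ⟨hg.1, mem_centralizer_iff.2 fun x hx => (h.normaliser_centralises hi2 hi hn hpow hab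
      ht htP hg (fun y hy => ?_) x hx).symm⟩) fun g hg => ⟨hg.1, mem_centralizer_singleton_iff.2
        (mem_centralizer_iff.1 hg.2 t htV).symm⟩
    have := conj_mem_kerOf (mem_centralizer_singleton_iff.1 hg.2) (hVker.symm ▸ hy : y ∈ kerOf Ω t)
    rwa [hVker] at this
  have hρl : ρ = l := by
    have e := h.card_stab_cent hi2 hi hn hpow hab ht htP
    rw [hCeq, ← hcentV, hρ, Nat.add_sub_cancel] at e
    omega
  rw [hρl] at hform'
  have hl4 : l ≤ 3 := by
    have h8 : 8 = 3 * ((l : ℚ) + 2) * s := by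
      refine mul_left_cancel₀ (pow_ne_zero 2 hl0.ne') ?_
      linear_combination hform'
    by_contra hh
    have h4l : (4 : ℚ) ≤ l := by exact_mod_cast (show 4 ≤ l by omega)
    have := mul_lt_mul_of_pos_left hs1 (show (0 : ℚ) < 3 * ((l : ℚ) + 2) by linarith)
    linarith
  have hl : l = 3 := by
    by_contra hh
    obtain rfl : l = 1 := by omega
    haveI := Fintype.ofFinite Ω
    have hle := Nat.card_le_card_of_injective (MulAction.toPermHom G Ω) ((injective_iff_map_eq_one _).2 fun g hg =>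
      h.faith g fun p => DFunLike.congr_fun hg p)
    rw [Nat.card_perm, h.card_G, hn] at hle
    norm_num [Nat.factorial] at hle
  subst hl
  have hn16 : Nat.card Ω = 16 := hn
  -- the central element of order three
  obtain ⟨ω, hω, hωc⟩ := exists_central_three (by rw [hXc]) V' hV'4 hV'sq hone (by rw [hρ, hρl]) (fun hnor => by
      have hfix : ∀ q : Ω, t • q = q := fun q => by
        rcases eq_or_ne q a with rfl | hqa
        · exact htP.1
        obtain ⟨g, hga, hgb⟩ := h.move a b a q hab hqa.symm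
        have hm : (⟨g, hga⟩ : X)⁻¹ * ⟨t, htP.1⟩ * (⟨g, hga⟩ : X)⁻¹⁻¹ ∈ V' := hnor.conj_mem _ htV _
        have hfb : (g⁻¹ * t * g⁻¹⁻¹) • b = b := (show g⁻¹ * t * g⁻¹⁻¹ ∈ V from hm).1.2
        rw [inv_inv, mul_smul, mul_smul, hgb, inv_smul_eq_iff, hgb] at hfb
        exact hfb
      exact ht.2.1 (h.faith t hfix)) (by
      obtain ⟨hsq', -⟩ := h.pair_cent hab htP ht.1 ht.2.1
      obtain ⟨w, hw, hw1, hwt⟩ : ∃ w ∈ V, w ≠ 1 ∧ w ≠ t := by
        by_contra! hh
        have hsub : (V : Set G) ⊆ {1, t} := fun y hy => by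
          by_cases hy1 : y = 1
          · exact Or.inl hy1
          · exact Or.inr (hh y hy hy1)
        have h2 : Nat.card V ≤ 2 := by
          calc Nat.card V = (V : Set G).ncard := Nat.card_coe_set_eq _
            _ ≤ ({1, t} : Set G).ncard := Set.ncard_le_ncard hsub (Set.toFinite _)
            _ ≤ 2 := (Set.ncard_insert_le _ _).trans (by rw [Set.ncard_singleton])
        omega
      obtain ⟨c, hc, hcw⟩ := h.pair_invol_conj hab htP hw.1 ht.1 (hVsq w hw) ht.2.1 hw1
      refine ⟨⟨c, hc.1⟩, Cfsg.Lib.ZStarApps.mem_normalizer_of_maps fun y hy => ?_, fun hcc => ?_⟩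
      · show c * y.1 * c⁻¹ ∈ V
        have hy' : y.1 ∈ V := hy
        have hm : c * y.1 * c⁻¹ ∈ stabilizer G a ⊓ stabilizer G b :=
          mul_mem (mul_mem hc hy'.1) ((stabilizer G a ⊓ stabilizer G b).inv_mem hc)
        exact ⟨hm, mem_centralizer_singleton_iff.2 (h.pair_invol_comm hab hm htP (sq_conj (hVsq _ hy') c) ht.1)⟩
      · have e := congrArg Subtype.val (mem_centralizer_iff.1 hcc ⟨t, htP.1⟩ htV)
        change t * c = c * t at e
        rw [← e, mul_inv_cancel_right] at hcw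
        exact hwt hcw.symm)
  have hω3 : ω.1 * ω.1 * ω.1 = 1 := by
    have := pow_orderOf_eq_one ω
    rw [hω] at this
    have := congrArg Subtype.val this
    simpa [pow_succ] using this
  have hωc' : ∀ f ∈ stabilizer G a, f * ω.1 = ω.1 * f := fun f hf => congrArg Subtype.val (hωc ⟨f, hf⟩)
  have hω1 : ω.1 ≠ 1 := fun e => by
    rw [← Subgroup.orderOf_coe, e, orderOf_one] at hω
    omega
  have hcommA : ∀ x ∈ A, ∀ y ∈ A, x * y = y * x := fun x hx y hy => by
    calc x * y = (x * y)⁻¹ := (inv_eq_of_mul_eq_one_right (hsqA _ (A.mul_mem hx hy))).symm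
      _ = y * x := by rw [_root_.mul_inv_rev, inv_eq_of_mul_eq_one_right (hsqA x hx),
        inv_eq_of_mul_eq_one_right (hsqA y hy)]
  have hAne : A ≠ ⊥ := fun e => by rw [e, Subgroup.card_bot] at hAc; omega
  obtain ⟨-, -, hmove⟩ := h.abelian_regular hA hcommA hAne
  have hbij : ∀ p : Ω, Function.Bijective fun x : A => (x : G) • p := fun p => by
    haveI := Fintype.ofFinite Ω
    haveI := Fintype.ofFinite A
    refine (Fintype.bijective_iff_injective_and_card _).2 ⟨fun x y e => Subtype.ext ?_, ?_⟩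
    · exact (inv_mul_eq_one.1 (hAfree _ (A.mul_mem (A.inv_mem y.2) x.2) p
        (by rw [mul_smul, inv_smul_eq_iff]; exact e))).symm
    · rw [← Nat.card_eq_fintype_card, ← Nat.card_eq_fintype_card, hAc]
  have hωfree : ∀ x ∈ A, ω.1 * x * ω.1⁻¹ = x → x = 1 := by
    intro x hx hfx
    by_contra hx1
    refine hω1 (h.faith ω.1 fun q => ?_)
    obtain ⟨y, rfl⟩ := (hbij a).2 q
    show ω.1 • y.1 • a = y.1 • a
    rcases eq_or_ne y.1 1 with e | hy1
    · rw [e, one_smul]; exact ω.2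
    obtain ⟨g, hga, hgy⟩ := hmove a x hx y.1 y.2 hx1 hy1
    have hgω := hωc' g hga
    have hωy : ω.1 * y.1 = y.1 * ω.1 := by
      rw [← hgy]
      calc ω.1 * (g * x * g⁻¹) = ω.1 * g * x * g⁻¹ := by group
        _ = g * (ω.1 * x * ω.1⁻¹) * (ω.1 * g⁻¹) := by rw [← hgω]; group
        _ = g * x * (ω.1 * g⁻¹) := by rw [hfx]
        _ = g * x * (g⁻¹ * (g * ω.1) * g⁻¹) := by group
        _ = g * x * g⁻¹ * ω.1 := by rw [hgω]; group
    rw [smul_smul, hωy, mul_smul, show ω.1 • a = a from ω.2]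
  haveI : Fintype K4 := Fintype.ofFinite K4
  exact ⟨hn16, K4, inferInstance, inferInstance, by rw [← Nat.card_eq_fintype_card, card_K4],
    affine_equiv A hA hsqA (by rw [hAc, hn16]) (by rw [h.card_G, hn16]) h.faith a (hbij a) ω.1 hω3 hωc' hωfree⟩

end TwoA4

end Cfsg.Lib.TwoPointFour
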