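import Cfsg.Agent.TwoPointFour.Kernel

/-!
The case in which the four group fixes the fixed points of its involutions (row 3219).
-/

set_option autoImplicit false
set_option linter.unusedSectionVars false
set_option linter.style.haveILetI false

namespace Cfsg.Lib.TwoPointFour

open MulAction Subgroup Equiv Cfsg.Lib.TwoPointFive

universe u v

variable {G : Type u} {Ω : Type v} [Group G] [Finite G] [Finite Ω] [MulAction G Ω]

omit [Finite G] [Finite Ω] in
/-- An element exchanging a pair is the central involution times an element of the stabiliser. -/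
theorem central_mul {a b : Ω} {z c : G} (hz : IsCentral a b z) (hc : Swaps c a b) :
    z * c ∈ stabilizer G a ⊓ stabilizer G b ∧ z * c = c * z ∧ (z * c * (z * c) = 1 ↔ c * c = 1) := by
  obtain ⟨hzs, hz2, hzc⟩ := hz
  have hx : z * c ∈ stabilizer G a ⊓ stabilizer G b :=
    ⟨show (z * c) • a = a by rw [mul_smul, hc.1, hzs.2], show (z * c) • b = b by rw [mul_smul, hc.2, hzs.1]⟩
  have hcomm : z * c = c * z := by
    have h1 := hzc _ hx
    rw [← mul_assoc, hz2, one_mul, mul_assoc] at h1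
    calc z * c = z * (z * (c * z)) := by rw [← h1]
      _ = c * z := by rw [← mul_assoc, hz2, one_mul]
  have hsq : z * c * (z * c) = c * c := by
    calc z * c * (z * c) = z * c * (c * z) := by rw [hcomm]
      _ = z * (c * c) * z := by group
      _ = z * ((c * c) * z) := by group
      _ = z * (z * (c * c)) := by
        rw [show c * c * z = c * (c * z) by group, ← hcomm, ← mul_assoc c z c, ← hcomm, mul_assoc z c c]
      _ = c * c := by rw [← mul_assoc, hz2, one_mul]
  exact ⟨hx, hcomm, by rw [hsq]⟩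

namespace TwoA4

variable (h : TwoA4 G Ω) {i : ℕ} (hi2 : 2 ≤ i) (hin : i < Nat.card Ω)
  (hi : ∀ u ∈ doubles G Ω, Nat.card (fixedBy Ω u) = i)
  (hK : ∀ u ∈ doubles G Ω, Nat.card (kerOf Ω u) = 4)
include h hi2 hin hi hK

omit hi2 hin hi in
theorem kerOf_eq {u : G} (hu : u ∈ doubles G Ω) {a b : Ω} (hab : a ≠ b) (ha : u • a = a) (hb : u • b = b) :
    kerOf Ω u = (stabilizer G a ⊓ stabilizer G b) ⊓ centralizer ({u} : Set G) :=
  Subgroup.eq_of_le_of_card_ge (kerOf_le h ha hb) (by rw [hK u hu, (h.pair_cent hab ⟨ha, hb⟩ hu.1 hu.2.1).2])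

omit hi2 hin in
theorem kerOf_elem {u : G} (hu : u ∈ doubles G Ω) {x : G} (hx : x ∈ kerOf Ω u) (hx1 : x ≠ 1) :
    x ∈ doubles G Ω ∧ (∀ p : Ω, x • p = p ↔ u • p = p) ∧ kerOf Ω x = kerOf Ω u := by
  obtain ⟨a, b, hab, ha, hb⟩ := exists_two_fixed hu
  have hxd : x ∈ doubles G Ω :=
    ⟨h.kerOf_sq hu hx, hx1, two_le_fixed hab ((mem_kerOf.1 hx).2 a ha) ((mem_kerOf.1 hx).2 b hb)⟩
  have hsub : fixedBy Ω u ⊆ fixedBy Ω x := fun p hp => (mem_kerOf.1 hx).2 p hp
  have heq : fixedBy Ω u = fixedBy Ω x :=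
    Set.eq_of_subset_of_ncard_le hsub (by rw [← Nat.card_coe_set_eq, ← Nat.card_coe_set_eq, hi u hu, hi x hxd])
      (Set.toFinite _)
  refine ⟨hxd, fun p => (Set.ext_iff.1 heq p).symm, (Subgroup.eq_of_le_of_card_ge (fun y hy => ?_)
    (by rw [hK u hu, hK x hxd])).symm⟩
  refine mem_kerOf.2 ⟨?_, fun p hp => (mem_kerOf.1 hy).2 p ((Set.ext_iff.1 heq p).2 hp)⟩
  have h1 := h.kerOf_sq hu ((kerOf Ω u).mul_mem hy hx)
  calc y * x = (y * x)⁻¹ := (inv_eq_of_mul_eq_one_right h1).symm
    _ = x * y := by rw [mul_inv_rev, inv_eq_of_mul_eq_one_right (h.kerOf_sq hu hx),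
      inv_eq_of_mul_eq_one_right (h.kerOf_sq hu hy)]

omit hi2 hin hi in
theorem sharp_cent {u : G} (hu : u ∈ doubles G Ω) :
    Sharp (restrictHom (centralizer ({u} : Set G)) (fixedBy Ω u) (fixed_maps u)).range (fixedBy Ω u) := by
  refine restrict_sharp (fun a ha b hb c hc d hd hab hcd => h.cent_move hu hab hcd ha hb hc hd)
    (fun g hg a ha b hb hab hga hgb x hx => ?_) hu.2.2
  have hgk : g ∈ kerOf Ω u := by rw [h.kerOf_eq hK hu hab ha hb]; exact ⟨⟨hga, hgb⟩, hg⟩
  exact (mem_kerOf.1 hgk).2 x hx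

/-- A central involution forces an even number of fixed points. -/
theorem caseOne_central_odd {a b : Ω} (hab : a ≠ b) {z : G} (hz : IsCentral a b z) (hodd : Odd i) : False := by
  obtain ⟨t, ht, htP⟩ := h.exists_double hab
  obtain ⟨hzs, hz2, hzc⟩ := hz
  have hV : kerOf Ω t = (stabilizer G a ⊓ stabilizer G b) ⊓ centralizer ({t} : Set G) :=
    h.kerOf_eq hK ht hab htP.1 htP.2
  have hVc : ∀ x ∈ kerOf Ω t, ∀ y ∈ kerOf Ω t, x * y = y * x := fun x hx y hy => by
    calc x * y = (x * y)⁻¹ := (inv_eq_of_mul_eq_one_right (h.kerOf_sq ht (mul_mem hx hy))).symm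
      _ = y * x := by rw [mul_inv_rev, inv_eq_of_mul_eq_one_right (h.kerOf_sq ht hx),
        inv_eq_of_mul_eq_one_right (h.kerOf_sq ht hy)]
  have hzV : ∀ x ∈ kerOf Ω t, z * x = x * z := fun x hx => hzc x (by rw [hV] at hx; exact hx.1)
  -- an involution with two fixed points exchanging `a`, `b` and centralising the four group
  obtain ⟨s, hs, hss, hsV⟩ : ∃ s ∈ doubles G Ω, Swaps s a b ∧ ∀ x ∈ kerOf Ω t, s * x = x * s := by
    obtain ⟨m₀, m₁, hm, h0, h1⟩ := h.central_swappers hi hab ⟨hzs, hz2, hzc⟩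
    rcases h1 with ⟨h1, -⟩ | ⟨-, h1⟩
    · refine ⟨z * t, h1 t htP ht.1 ht.2.1, ⟨?_, ?_⟩, fun x hx => ?_⟩
      · rw [mul_smul, show t • a = a from htP.1, hzs.1]
      · rw [mul_smul, show t • b = b from htP.2, hzs.2]
      · rw [mul_assoc, hVc t (self_mem_kerOf t) x hx, ← mul_assoc, hzV x hx, mul_assoc]
    · rcases h0 with ⟨h0, -⟩ | ⟨-, h0⟩
      · exact ⟨z, h0, hzs, hzV⟩
      · exfalso
        obtain ⟨g, hg, hgs⟩ := h.exists_swap hi2 hin hi hab
        rw [h0, h1] at hm
        rw [Nat.card_eq_zero, or_iff_left (not_infinite_iff_finite.2 inferInstance)] at hm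
        exact hm.false ⟨g, hg, hgs⟩
  have hsnot : s ∉ kerOf Ω t := fun hh => hab (((mem_kerOf.1 hh).2 a htP.1).symm.trans hss.1)
  -- an element of the four group centralising the four group of `s`
  obtain ⟨x, hx, hx1, hxs⟩ : ∃ x ∈ kerOf Ω s, x ≠ 1 ∧ x ≠ s := by
    by_contra! hh
    have : Nat.card (kerOf Ω s) ≤ 2 := by
      have hsub : (kerOf Ω s : Set G) ⊆ {1, s} := fun y hy => by
        by_cases hy1 : y = 1
        · exact Or.inl hy1
        · exact Or.inr (hh y hy hy1)
      calc Nat.card (kerOf Ω s) = (kerOf Ω s : Set G).ncard := Nat.card_coe_set_eq _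
        _ ≤ ({1, s} : Set G).ncard := Set.ncard_le_ncard hsub (Set.toFinite _)
        _ ≤ 2 := (Set.ncard_insert_le _ _).trans (by rw [Set.ncard_singleton])
    rw [hK s hs] at this
    omega
  have hW := four_cases (hK s hs) (self_mem_kerOf s) hx hs.2.1 hx1 hxs hs.1
  have hmove : ∀ v ∈ kerOf Ω t, v * x * v⁻¹ = x ∨ v * x * v⁻¹ = s * x := by
    intro v hv
    have hvs : v * s = s * v := (hsV v hv).symm
    rcases hW _ (conj_mem_kerOf hvs hx) with e | e | e | e
    · exact absurd (conj_eq_one_iff.1 e) hx1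
    · refine absurd (mul_left_cancel (mul_right_cancel (e.trans ?_) :)) hxs
      rw [hvs, mul_inv_cancel_right]
    · exact Or.inl e
    · exact Or.inr e
  obtain ⟨u, hu, hu1, hux⟩ : ∃ u ∈ kerOf Ω t, u ≠ 1 ∧ u * x * u⁻¹ = x := by
    obtain ⟨v, hv, hv1, hvt⟩ : ∃ v ∈ kerOf Ω t, v ≠ 1 ∧ v ≠ t := by
      by_contra! hh
      have : Nat.card (kerOf Ω t) ≤ 2 := by
        have hsub : (kerOf Ω t : Set G) ⊆ {1, t} := fun y hy => by
          by_cases hy1 : y = 1
          · exact Or.inl hy1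
          · exact Or.inr (hh y hy hy1)
        calc Nat.card (kerOf Ω t) = (kerOf Ω t : Set G).ncard := Nat.card_coe_set_eq _
          _ ≤ ({1, t} : Set G).ncard := Set.ncard_le_ncard hsub (Set.toFinite _)
          _ ≤ 2 := (Set.ncard_insert_le _ _).trans (by rw [Set.ncard_singleton])
      rw [hK t ht] at this
      omega
    rcases hmove t (self_mem_kerOf t) with e | e
    · exact ⟨t, self_mem_kerOf t, ht.2.1, e⟩
    rcases hmove v hv with e' | e'
    · exact ⟨v, hv, hv1, e'⟩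
    refine ⟨t * v, mul_mem (self_mem_kerOf t) hv, fun e0 => hvt ?_, ?_⟩
    · rw [← inv_eq_of_mul_eq_one_right e0, inv_eq_of_mul_eq_one_right ht.1]
    · rw [show t * v * x * (t * v)⁻¹ = t * (v * x * v⁻¹) * t⁻¹ by group, e',
        show t * (s * x) * t⁻¹ = t * s * t⁻¹ * (t * x * t⁻¹) by group, e, (hsV t (self_mem_kerOf t)).symm,
        mul_inv_cancel_right, ← mul_assoc, hs.1, one_mul]
  obtain ⟨hud, hufix, huk⟩ := h.kerOf_elem hi hK ht hu hu1
  have hsu : s ∈ centralizer ({u} : Set G) := mem_centralizer_singleton_iff.2 (hsV u hu)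
  have hxu : x ∈ centralizer ({u} : Set G) :=
    mem_centralizer_singleton_iff.2 (mul_inv_eq_iff_eq_mul.1 hux).symm
  have hxd := (h.kerOf_elem hi hK hs hx hx1)
  have hxnot : x ∉ kerOf Ω t := fun hh => hsnot (by
    rw [← (h.kerOf_elem hi hK ht hh hx1).2.2, hxd.2.2]; exact self_mem_kerOf s)
  set R := (restrictHom (centralizer ({u} : Set G)) (fixedBy Ω u) (fixed_maps u)).range
  have hR : Sharp R (fixedBy Ω u) := h.sharp_cent hK hud
  have hrs : img Ω u ⟨s, hsu⟩ ≠ 1 := fun e => hsnot (huk ▸ (img_eq_one u _).1 e)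
  have hrx : img Ω u ⟨x, hxu⟩ ≠ 1 := fun e => hxnot (huk ▸ (img_eq_one u _).1 e)
  have hodd' : Odd (Nat.card (fixedBy Ω u)) := by rw [hi u hud]; exact hodd
  have hs2 : img Ω u ⟨s, hsu⟩ * img Ω u ⟨s, hsu⟩ = 1 := by
    rw [← map_mul, ← map_one (img Ω u)]; exact congrArg _ (Subtype.ext hs.1)
  have hx2 : img Ω u ⟨x, hxu⟩ * img Ω u ⟨x, hxu⟩ = 1 := by
    rw [← map_mul, ← map_one (img Ω u)]; exact congrArg _ (Subtype.ext hxd.1.1)
  obtain ⟨p, hp⟩ := hR.exists_fix hodd' hs2
  have hxp : img Ω u ⟨x, hxu⟩ • p = p := by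
    refine hR.fix_unique hrs ?_ hp
    rw [smul_smul, ← map_mul, show (⟨s, hsu⟩ : ↥(centralizer ({u} : Set G))) * ⟨x, hxu⟩ = ⟨x, hxu⟩ * ⟨s, hsu⟩ from
      Subtype.ext (mem_kerOf.1 hx).1.symm, map_mul, mul_smul, hp]
  have he := hR.eq_of_fix hodd' hs2 hrs hx2 hrx hp hxp
  have hmem : s * x ∈ kerOf Ω t := by
    rw [← huk]
    refine (img_eq_one (Ω := Ω) u (⟨s, hsu⟩ * ⟨x, hxu⟩)).1 ?_
    rw [map_mul, he, hx2]
  have hne1 : s * x ≠ 1 := fun e => hxs (by rw [← inv_eq_of_mul_eq_one_right e, inv_eq_of_mul_eq_one_right hs.1])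
  apply hsnot
  rw [← (h.kerOf_elem hi hK ht hmem hne1).2.2,
    (h.kerOf_elem hi hK hs ((kerOf Ω s).mul_mem (self_mem_kerOf s) hx) hne1).2.2]
  exact self_mem_kerOf s

/-- An even number of fixed points and a central involution leave only a degree that is a power of two. -/
theorem caseOne_central_even {a b : Ω} (hab : a ≠ b) {z : G} (hz : IsCentral a b z) (heven : Even i) :
    z ∉ doubles G Ω ∧ (∀ x ∈ stabilizer G a ⊓ stabilizer G b, x * x = 1 → x ≠ 1 → z * x ∈ doubles G Ω) ∧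
      Nat.card Ω = i * i ∧ ∃ j : ℕ, i = 2 ^ j := by
  classical
  haveI := Fintype.ofFinite G
  obtain ⟨t, ht, htP⟩ := h.exists_double hab
  obtain ⟨m₀, m₁, hm, h0, h1⟩ := h.central_swappers hi hab hz
  have hcount := h.eq_count hi hab hm
  have heven' : ∀ u ∈ doubles G Ω, Even (Nat.card (fixedBy Ω u)) := fun u hu => by rw [hi u hu]; exact heven
  obtain ⟨j, hj⟩ := (h.sharp_cent hK ht).two_pow_of_even (heven' t ht)
  rw [hi t ht] at hj
  by_contra hgoal
  have hm14 : m₀ + m₁ = 1 ∨ m₀ + m₁ = 4 := by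
    rcases h0 with ⟨h0, rfl⟩ | ⟨h0, rfl⟩ <;> rcases h1 with ⟨h1, rfl⟩ | ⟨h1, rfl⟩
    · omega
    · omega
    · refine absurd ⟨h0, h1, ?_, j, hj⟩ hgoal
      rw [zero_add] at hcount
      have h2 := Nat.eq_of_mul_eq_mul_left (by norm_num : 0 < 3) hcount
      rw [Nat.mul_sub, mul_one] at h2
      have : i ≤ i * i := Nat.le_mul_self i
      omega
    · rw [zero_add, zero_mul] at hcount; omega
  have hZ : ∀ p q : Ω, p ≠ q → ∃ z : G, IsCentral p q z := fun p q hpq => by
    obtain ⟨g, hga, hgb⟩ := h.move a b p q hab hpq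
    exact ⟨_, hga ▸ hgb ▸ hz.move g⟩
  -- the involutions commuting with a double and itself form a group
  have hmul : ∀ u ∈ doubles G Ω, ∀ x ∈ commInv u, ∀ y ∈ commInv u, x * y ∈ commInv u := by
    rintro u hu x ⟨hxu, hx2⟩ y ⟨hyu, hy2⟩
    have hc : x * y * u = u * (x * y) := by rw [mul_assoc, hyu, ← mul_assoc, hxu, mul_assoc]
    refine ⟨hc, ?_⟩
    set C := centralizer ({u} : Set G)
    set c : C := ⟨x, mem_centralizer_singleton_iff.2 hxu⟩ * ⟨y, mem_centralizer_singleton_iff.2 hyu⟩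
    have hR := h.sharp_cent hK hu
    have hc2 : img Ω u c * img Ω u c = 1 := by
      have hx' : img Ω u ⟨x, mem_centralizer_singleton_iff.2 hxu⟩ *
          img Ω u ⟨x, mem_centralizer_singleton_iff.2 hxu⟩ = 1 := img_sq u hx2
      have hy' : img Ω u ⟨y, mem_centralizer_singleton_iff.2 hyu⟩ *
          img Ω u ⟨y, mem_centralizer_singleton_iff.2 hyu⟩ = 1 := img_sq u hy2
      rw [map_mul]
      generalize img Ω u ⟨x, mem_centralizer_singleton_iff.2 hxu⟩ = r at hx' ⊢
      generalize img Ω u ⟨y, mem_centralizer_singleton_iff.2 hyu⟩ = r' at hy' ⊢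
      by_cases h1 : r = 1
      · rw [h1, one_mul, hy']
      by_cases h2 : r' = 1
      · rw [h2, mul_one, hx']
      have e := hR.commute_of_even (heven' u hu) hx' h1 hy' h2
      rw [mul_assoc, ← mul_assoc r' r r', ← e, mul_assoc r r' r', hy', mul_one, hx']
    by_cases hc1 : img Ω u c = 1
    · exact h.kerOf_sq hu ((img_eq_one u c).1 hc1)
    obtain ⟨p, hp⟩ : ∃ p : fixedBy Ω u, img Ω u c • p ≠ p := by
      by_contra! hh
      exact hc1 (Subtype.ext (Equiv.ext fun p => hh p))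
    have hpq : p.1 ≠ c.1 • p.1 := fun e => hp (Subtype.ext e.symm)
    have hsw : Swaps c.1 p.1 (c.1 • p.1) := ⟨rfl, Subtype.ext_iff.1 (swaps_invol (x := p) hc2).2⟩
    obtain ⟨z', hz'⟩ := hZ _ _ hpq
    obtain ⟨hx, -, hiff⟩ := central_mul hz' hsw
    refine hiff.1 ((h.pair_cent hpq ⟨p.2, fixed_maps u c.1 c.2 p.1 p.2⟩ hu.1 hu.2.1).1 _ hx ?_)
    rw [mul_assoc, mem_centralizer_singleton_iff.1 c.2, ← mul_assoc,
      hz'.2.2 u ⟨p.2, fixed_maps u c.1 c.2 p.1 p.2⟩, mul_assoc]
  have htrans : ∀ r s w : G, r ∈ doubles G Ω → s ∈ doubles G Ω → w ∈ doubles G Ω →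
      r * s = s * r → w * s = s * w → r * w = w * r := by
    intro r s w hr hs hw e1 e2
    have h1 := (hmul s hs r ⟨e1, hr.1⟩ w ⟨e2, hw.1⟩).2
    calc r * w = (r * w)⁻¹ := (inv_eq_of_mul_eq_one_right h1).symm
      _ = w * r := by rw [mul_inv_rev, inv_eq_of_mul_eq_one_right hw.1, inv_eq_of_mul_eq_one_right hr.1]
  -- the class of `t`
  let U : Finset G := Finset.univ.filter fun u => u ∈ doubles G Ω
  let D : G → Finset G := fun u => U.filter fun s => s * u = u * s
  have hcardt : (D t).card = 3 + (i - 1) * (m₀ + m₁) := by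
    have hker : ((D t).filter fun s => s ∈ kerOf Ω t).card = 3 := by
      rw [show ((D t).filter fun s => s ∈ kerOf Ω t) = (Finset.univ.filter fun x => x ∈ kerOf Ω t).erase 1 by
          ext s
          simp only [D, U, Finset.mem_filter, Finset.mem_univ, true_and, Finset.mem_erase]
          exact ⟨fun hs => ⟨hs.1.1.2.1, hs.2⟩,
            fun hs => ⟨⟨(h.kerOf_elem hi hK ht hs.2 hs.1).1, (mem_kerOf.1 hs.2).1⟩, hs.2⟩⟩,
        Finset.card_erase_of_mem (by simp [one_mem]), ← Fintype.card_subtype, ← Nat.card_eq_fintype_card, hK t ht]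
    have hfix : ∀ s ∈ (D t).filter (fun s => s ∉ kerOf Ω t), t • s • a = s • a ∧ s • a ≠ a := by
      intro s hs
      simp only [D, U, Finset.mem_filter, Finset.mem_univ, true_and] at hs
      have hsC : s ∈ centralizer ({t} : Set G) := mem_centralizer_singleton_iff.2 hs.1.2
      refine ⟨fixed_maps t s hsC a htP.1, fun e => ?_⟩
      exact (h.sharp_cent hK ht).free_of_even (heven' t ht) (s := img Ω t ⟨s, hsC⟩) (img_sq t hs.1.1.1)
        (fun e' => hs.2 ((img_eq_one t _).1 e')) ⟨a, htP.1⟩ (Subtype.ext e)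
    haveI := Fintype.ofFinite Ω
    let F : Finset Ω := (Finset.univ.filter fun p => t • p = p).erase a
    have hF : F.card = i - 1 := by
      rw [Finset.card_erase_of_mem (by simp [show t • a = a from htP.1]), ← Fintype.card_subtype,
        ← Nat.card_eq_fintype_card, ← hi t ht]
      rfl
    have hrest : ((D t).filter fun s => s ∉ kerOf Ω t).card = F.card * (m₀ + m₁) := by
      rw [Finset.card_eq_sum_card_fiberwise (f := fun s => s • a) (t := F) (fun s hs => by
        simp only [Finset.coe_erase, F, Set.mem_diff, Finset.coe_filter, Finset.mem_univ, true_and,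
          Set.mem_setOf_eq, Set.mem_singleton_iff]
        exact ⟨(hfix s hs).1, (hfix s hs).2⟩)]
      refine Finset.sum_const_nat fun d hd => ?_
      simp only [F, Finset.mem_erase, Finset.mem_filter, Finset.mem_univ, true_and] at hd
      obtain ⟨g, hg, hga, hgb⟩ := h.cent_move ht hab (c := a) (d := d) hd.1.symm htP.1 htP.2 htP.1 hd.2
      have hgC := (mem_centralizer_singleton_iff.1 hg)
      rw [← hm, Nat.card_eq_fintype_card, Fintype.card_subtype]
      refine (Finset.card_bij (fun u _ => g * u * g⁻¹) (fun u hu => ?_)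
        (fun u _ u' _ e => mul_left_cancel (mul_right_cancel e)) fun s hs => ?_).symm
      · simp only [Finset.mem_filter, Finset.mem_univ, true_and] at hu
        have hsw := hu.2.conj (h := g)
        rw [hga, hgb] at hsw
        obtain ⟨hx, -, hiff⟩ := central_mul hz hu.2
        have hxt := h.pair_invol_comm hab hx htP (hiff.2 hu.1.1) ht.1
        have hut : u * t = t * u := by
          have hzt := hz.2.2 t htP
          calc u * t = z * (z * u * t) := by rw [← mul_assoc, ← mul_assoc, hz.2.1, one_mul]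
            _ = z * (t * (z * u)) := by rw [hxt]
            _ = z * t * z * u := by group
            _ = t * (z * z) * u := by rw [hzt]; group
            _ = t * u := by rw [hz.2.1, mul_one]
        simp only [D, U, Finset.mem_filter, Finset.mem_univ, true_and]
        refine ⟨⟨⟨doubles_closed u hu.1 g, mem_centralizer_singleton_iff.1 ((centralizer ({t} : Set G)).mul_mem
          ((centralizer ({t} : Set G)).mul_mem hg (mem_centralizer_singleton_iff.2 hut))
          ((centralizer ({t} : Set G)).inv_mem hg))⟩, fun hh => ?_⟩, hsw.1⟩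
        exact hd.1 (hsw.1.symm.trans ((mem_kerOf.1 hh).2 a htP.1))
      · simp only [D, U, Finset.mem_filter, Finset.mem_univ, true_and] at hs
        have hsw : Swaps s a d := ⟨hs.2, by rw [← hs.2, smul_smul, hs.1.1.1.1, one_smul]⟩
        have := hsw.conj (h := g⁻¹)
        rw [inv_smul_eq_iff.2 hga.symm, inv_smul_eq_iff.2 hgb.symm] at this
        refine ⟨g⁻¹ * s * g⁻¹⁻¹, Finset.mem_filter.2 ⟨Finset.mem_univ _, doubles_closed s hs.1.1.1 _, this⟩, by group⟩
    rw [← Finset.card_filter_add_card_filter_not (s := D t) (fun s => s ∈ kerOf Ω t), hker, hrest, hF]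
  have hcard : ∀ u ∈ U, (D u).card = (D t).card := by
    intro u hu
    simp only [U, Finset.mem_filter, Finset.mem_univ, true_and] at hu
    obtain ⟨g, rfl⟩ := h.doubles_conj ht hu
    have hiff : ∀ s, (g * s * g⁻¹) * (g * t * g⁻¹) = (g * t * g⁻¹) * (g * s * g⁻¹) ↔ s * t = t * s := fun s => by
      rw [show g * s * g⁻¹ * (g * t * g⁻¹) = g * (s * t) * g⁻¹ by group,
        show g * t * g⁻¹ * (g * s * g⁻¹) = g * (t * s) * g⁻¹ by group]
      exact ⟨fun e => mul_left_cancel (mul_right_cancel e), fun e => by rw [e]⟩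
    refine (Finset.card_bij (fun s _ => g * s * g⁻¹) (fun s hs => ?_)
      (fun s _ s' _ e => mul_left_cancel (mul_right_cancel e)) fun s hs => ?_).symm
    · simp only [D, U, Finset.mem_filter, Finset.mem_univ, true_and] at hs ⊢
      exact ⟨doubles_closed s hs.1 g, (hiff s).2 hs.2⟩
    · simp only [D, U, Finset.mem_filter, Finset.mem_univ, true_and] at hs ⊢
      refine ⟨g⁻¹ * s * g⁻¹⁻¹, ⟨doubles_closed s hs.1 g⁻¹, (hiff _).1 ?_⟩, by group⟩
      simpa [mul_assoc] using hs.2
  have hdvd : (D t).card ∣ U.card := by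
    have hsum := Finset.card_eq_sum_card_image D U
    rw [Finset.sum_const_nat (m := (D t).card) fun F hF => ?_] at hsum
    · exact ⟨_, hsum.trans (mul_comm _ _)⟩
    · obtain ⟨u, hu, rfl⟩ := Finset.mem_image.1 hF
      rw [← hcard u hu]
      congr 1
      ext s
      simp only [D, Finset.mem_filter]
      refine ⟨fun hs => ⟨hs.1, ?_⟩, fun hs => ⟨hs.1, ?_⟩⟩
      · have := Finset.ext_iff.1 hs.2 s
        simp only [Finset.mem_filter, hs.1, true_and] at this
        exact this.1 trivial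
      · have hu' := (Finset.mem_filter.1 hu).2
        ext w
        simp only [Finset.mem_filter]
        refine ⟨fun hw => ⟨hw.1, ?_⟩, fun hw => ⟨hw.1, ?_⟩⟩
        · exact htrans w s u (Finset.mem_filter.1 hw.1).2 (Finset.mem_filter.1 hs.1).2 hu' hw.2 hs.2.symm
        · exact htrans w u s (Finset.mem_filter.1 hw.1).2 hu' (Finset.mem_filter.1 hs.1).2 hw.2 hs.2
  have hU : U.card * (i * (i - 1)) = 3 * (Nat.card Ω * (Nat.card Ω - 1)) := by
    rw [← h.card_fixers hi hab]
    congr 1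
    rw [Nat.card_eq_fintype_card, ← Set.toFinset_card]
    congr 1
    ext u
    simp [U]
  obtain ⟨e, he⟩ := hdvd
  rw [hcardt] at he
  have h3 : ¬ 3 ∣ i := fun hd => by
    rw [hj] at hd
    exact absurd ((Nat.prime_dvd_prime_iff_eq Nat.prime_three Nat.prime_two).1 (Nat.prime_three.dvd_of_dvd_pow hd))
      (by norm_num)
  refine h3 ?_
  obtain ⟨l, rfl⟩ : ∃ l, i = l + 1 := ⟨i - 1, by omega⟩
  rw [Nat.add_sub_cancel] at he hcount hU
  obtain ⟨d, hd⟩ : ∃ d, Nat.card Ω = l + 1 + d := ⟨Nat.card Ω - (l + 1), by omega⟩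
  rw [hd, show l + 1 + d - (l + 1) = d by omega] at hcount
  rw [hd, show l + 1 + d - 1 = l + d by omega, he] at hU
  have hpos : 0 < (l + 1) * l := Nat.mul_pos (by omega) (by omega)
  have hsolve : ∀ A B : ℕ, 0 < A → 3 * (3 * ((l + 1 + d) * (l + d))) = A * B * ((l + 1) * l) →
      (3 + l * (m₀ + m₁)) = A → 3 * e = B := by
    intro A B hA h9 hAe
    rw [hAe] at hU
    refine Nat.eq_of_mul_eq_mul_left hA (Nat.eq_of_mul_eq_mul_right hpos ?_)
    rw [← h9, ← hU]
    ring
  rcases hm14 with hm' | hm' <;> rw [hm'] at hcount hsolve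
  · have h9 : 3 * (3 * ((l + 1 + d) * (l + d))) = (l + 3) * (l + 4) * ((l + 1) * l) := by
      calc 3 * (3 * ((l + 1 + d) * (l + d))) = (3 * (l + 1) + 3 * d) * (3 * l + 3 * d) := by ring
        _ = _ := by rw [hcount]; ring
    have := hsolve (l + 3) (l + 4) (by omega) h9 (by omega)
    omega
  · have h9 : 3 * (3 * ((l + 1 + d) * (l + d))) = (4 * l + 3) * (4 * l + 7) * ((l + 1) * l) := by
      calc 3 * (3 * ((l + 1 + d) * (l + d))) = (3 * (l + 1) + 3 * d) * (3 * l + 3 * d) := by ring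
        _ = _ := by rw [hcount]; ring
    have := hsolve (4 * l + 3) (4 * l + 7) (by omega) h9 (by omega)
    omega

end TwoA4

end Cfsg.Lib.TwoPointFour
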