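import Cfsg.Agent.TwoPointFour.Dihedral

/-!
A kernel of order two: the first facts and the symmetric case (row 3219).
-/

set_option autoImplicit false
set_option linter.unusedSectionVars false
set_option linter.style.haveILetI false

namespace Cfsg.Lib.TwoPointFour

open MulAction Subgroup Equiv Cfsg.Lib.TwoPointFive

universe u v

variable {G : Type u} {Ω : Type v} [Group G] [Finite G] [Finite Ω] [MulAction G Ω]

namespace TwoA4

variable (h : TwoA4 G Ω) {i : ℕ} (hi2 : 2 ≤ i) (hin : i < Nat.card Ω)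
  (hi : ∀ u ∈ doubles G Ω, Nat.card (fixedBy Ω u) = i)
  (hK : ∀ u ∈ doubles G Ω, ∀ g ∈ kerOf Ω u, g = 1 ∨ g = u)
include h hi2 hin hi hK

omit hi2 hin hi in
theorem img_one {t : G} (ht : t ∈ doubles G Ω) {c : ↥(centralizer ({t} : Set G))} (hc : img Ω t c = 1) :
    c.1 = 1 ∨ c.1 = t := hK t ht c.1 ((img_eq_one t c).1 hc)

omit hi2 hin hi in
theorem img_eq {t : G} (ht : t ∈ doubles G Ω) {c d : ↥(centralizer ({t} : Set G))} (hcd : img Ω t c = img Ω t d) :
    d.1 = c.1 ∨ d.1 = c.1 * t := by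
  rcases h.img_one hK ht (c := c⁻¹ * d) (by rw [map_mul, map_inv, hcd, inv_mul_cancel]) with e | e
  · exact Or.inl (inv_mul_eq_one.1 e).symm
  · exact Or.inr (eq_mul_of_inv_mul_eq e)

omit hi2 hin hi in
theorem img_self {t : G} : img Ω t ⟨t, mem_centralizer_singleton_iff.2 rfl⟩ = 1 :=
  (img_eq_one t _).2 (self_mem_kerOf t)

omit hi2 hin hi in
theorem img_ne {t : G} (ht : t ∈ doubles G Ω) {c : ↥(centralizer ({t} : Set G))} (h1 : c.1 ≠ 1) (h2 : c.1 ≠ t) :
    img Ω t c ≠ 1 := fun e => (h.img_one hK ht e).elim h1 h2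

omit hi2 hin hi in
theorem half_cent {t : G} (ht : t ∈ doubles G Ω) : Half (imgGroup Ω t) (fixedBy Ω t) where
  move a b c d hab hcd := by
    obtain ⟨g, hg, h1, h2⟩ := h.cent_move ht (fun e => hab (Subtype.ext e)) (fun e => hcd (Subtype.ext e))
      a.2 b.2 c.2 d.2
    exact ⟨img Ω t ⟨g, hg⟩, Subtype.ext h1, Subtype.ext h2⟩
  faith g hg := Subtype.ext (Equiv.ext fun x => hg x)
  two := ht.2.2
  stab a b hab := by
    have hab' : a.1 ≠ b.1 := fun e => hab (Subtype.ext e)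
    set P := (stabilizer G a.1 ⊓ stabilizer G b.1) ⊓ centralizer ({t} : Set G)
    have htP : t ∈ P := ⟨⟨a.2, b.2⟩, mem_centralizer_singleton_iff.2 rfl⟩
    let f : P →* imgGroup Ω t := (img Ω t).comp (Subgroup.inclusion inf_le_right)
    have hran : f.range = stabilizer (imgGroup Ω t) a ⊓ stabilizer (imgGroup Ω t) b := by
      refine le_antisymm ?_ fun r hr => ?_
      · rintro _ ⟨x, rfl⟩
        exact ⟨Subtype.ext x.2.1.1, Subtype.ext x.2.1.2⟩
      · obtain ⟨c, rfl⟩ := img_surjective (Ω := Ω) t r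
        exact ⟨⟨c.1, ⟨congrArg Subtype.val hr.1, congrArg Subtype.val hr.2⟩, c.2⟩, rfl⟩
    have hker : Nat.card f.ker = 2 := by
      rw [Nat.card_eq_two_iff' (1 : f.ker)]
      refine ⟨⟨⟨t, htP⟩, h.img_self hK⟩, fun e => ht.2.1 (congrArg (fun y : f.ker => y.1.1) e), fun y hy => ?_⟩
      rcases h.img_one hK ht (c := Subgroup.inclusion inf_le_right y.1) y.2 with e | e
      · exact absurd (Subtype.ext (Subtype.ext e)) hy
      · exact Subtype.ext (Subtype.ext e)
    have hmul := f.ker.card_mul_index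
    rw [Subgroup.index_ker, hker, hran, (h.pair_cent hab' ⟨a.2, b.2⟩ ht.1 ht.2.1).2] at hmul
    omega

omit hi2 hin hi in
/-- The lifts of an involution with two fixed points are of the class of `t`. -/
theorem lift_double {t : G} (ht : t ∈ doubles G Ω) {c : ↥(centralizer ({t} : Set G))}
    (hc : img Ω t c ∈ doubles (imgGroup Ω t) ↥(fixedBy Ω t)) : c.1 ∈ doubles G Ω := by
  obtain ⟨p, q, hpq, hp, hq⟩ := exists_two_fixed hc
  have hp' := (img_fix_iff t c p).1 hp
  have hq' := (img_fix_iff t c q).1 hq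
  have hpq' : p.1 ≠ q.1 := fun e => hpq (Subtype.ext e)
  refine ⟨(h.pair_cent hpq' ⟨p.2, q.2⟩ ht.1 ht.2.1).1 c.1 ⟨hp', hq'⟩ (mem_centralizer_singleton_iff.1 c.2),
    fun e => ?_, two_le_fixed hpq' hp' hq'⟩
  exact hc.2.1 ((img_eq_one t c).2 (e ▸ one_mem _))

omit hi2 hin in
theorem card_fixed_img {t : G} (ht : t ∈ doubles G Ω) : Nat.card (fixedBy Ω t) = i := hi t ht

end TwoA4

namespace TwoA4

variable (h : TwoA4 G Ω) {i : ℕ} (hi2 : 2 ≤ i) (hin : i < Nat.card Ω)
  (hi : ∀ u ∈ doubles G Ω, Nat.card (fixedBy Ω u) = i)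
  (hK : ∀ u ∈ doubles G Ω, ∀ g ∈ kerOf Ω u, g = 1 ∨ g = u)
  (hS : ∀ a b : Ω, a ≠ b → ∀ z : G, ¬ IsCentral a b z)
include h hi2 hin hi hK hS

/-- The second kind of involution on the fixed points lifts to elements of order four. -/
theorem sym_others {t : G} (ht : t ∈ doubles G Ω) :
    (others (imgGroup Ω t) ↥(fixedBy Ω t)).Nonempty ∧
      ∀ c : ↥(centralizer ({t} : Set G)), img Ω t c ∈ others (imgGroup Ω t) ↥(fixedBy Ω t) → c.1 * c.1 = t := by
  obtain ⟨a, b, hab, ha, hb⟩ := exists_two_fixed ht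
  obtain ⟨-, -, hts, -⟩ := h.sType_facts hi2 hin hi hab (hS a b hab)
  obtain ⟨⟨r, hr, hrr⟩, -⟩ := hts t ⟨ha, hb⟩ ht.1 ht.2.1
  have hH := h.half_cent hK ht
  obtain ⟨k, hk2, hki, hk⟩ := hH.exists_k
  have hrC : r ∈ centralizer ({t} : Set G) := mem_centralizer_singleton_iff.2 (by rw [← hrr, mul_assoc])
  set o := img Ω t ⟨r, hrC⟩ with ho
  have hab' : (⟨a, ha⟩ : fixedBy Ω t) ≠ ⟨b, hb⟩ := fun e => hab (congrArg Subtype.val e)
  have hsw : Swaps o (⟨a, ha⟩ : fixedBy Ω t) ⟨b, hb⟩ := ⟨Subtype.ext hr.1, Subtype.ext hr.2⟩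
  have ho2 : o * o = 1 := hH.swap_sq hk2 hki hk hab' hsw
  have ho1 : o ≠ 1 := fun e => hab' (by
    have := hsw.1
    rw [e, one_smul] at this
    exact this)
  have hoo : o ∈ others (imgGroup Ω t) ↥(fixedBy Ω t) := (mem_doubles_or_others ho2 ho1).resolve_left fun hd => by
    have := (h.lift_double hK ht hd).1
    rw [hrr] at this
    exact ht.2.1 this
  refine ⟨⟨o, hoo⟩, fun c hc => ?_⟩
  obtain ⟨p, hp⟩ : ∃ p : fixedBy Ω t, img Ω t c • p ≠ p := by
    by_contra! hh
    exact hc.2.1 (hH.faith _ hh)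
  obtain ⟨g, hga, hgb⟩ := hH.move p (img Ω t c • p) ⟨a, ha⟩ ⟨b, hb⟩ hp.symm hab'
  obtain ⟨g', rfl⟩ := img_surjective (Ω := Ω) t g
  have hs := (swaps_invol (x := p) hc.1).conj (h := img Ω t g')
  rw [hga, hgb] at hs
  have he := hH.other_unique hk2 hki hk ⟨o, hoo⟩ hab' hoo (others_closed _ hc (img Ω t g')) hsw hs
  rw [← map_inv, ← map_mul, ← map_mul, ho] at he
  have hsq : (g' * c * g'⁻¹).1 * (g' * c * g'⁻¹).1 = t := by
    rcases h.img_eq hK ht he with e | e <;> rw [e]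
    · exact hrr
    · rw [show r * t * (r * t) = r * (t * r) * t by group, ← mem_centralizer_singleton_iff.1 hrC,
        show r * (r * t) * t = r * r * (t * t) by group, hrr, ht.1, mul_one]
  have e2 : g'.1 * (c.1 * c.1) * g'.1⁻¹ = t := by
    refine Eq.trans ?_ hsq
    simp [mul_assoc]
  calc c.1 * c.1 = g'.1⁻¹ * (g'.1 * (c.1 * c.1) * g'.1⁻¹) * g'.1 := by group
    _ = g'.1⁻¹ * t * g'.1 := congrArg (fun x => g'.1⁻¹ * x * g'.1) e2
    _ = t := by rw [mul_assoc, ← mem_centralizer_singleton_iff.1 g'.2, inv_mul_cancel_left]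

/-- An even `k` in the symmetric case gives twenty-eight points. -/
theorem caseTwo_sym_even {t : G} (ht : t ∈ doubles G Ω) {k : ℕ} (hk2 : 2 ≤ k)
    (hki : k < Nat.card (fixedBy Ω t))
    (hk : ∀ u ∈ doubles (imgGroup Ω t) ↥(fixedBy Ω t), Nat.card (fixedBy ↥(fixedBy Ω t) u) = k)
    (heven : Even k) : Nat.card Ω = 28 := by
  classical
  obtain ⟨hne, hsq⟩ := h.sym_others hi2 hin hi hK hS ht
  have hH := h.half_cent hK ht
  obtain ⟨M, -, hM, hM2, hMc⟩ := hH.others_regular hk2 hki hk hne heven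
  have hsqi := hH.card_eq_sq hk2 hki hk hne
  rw [hi t ht] at hsqi
  rcases hk2.eq_or_lt with hk2' | hk3
  · obtain ⟨a, b, hab, -⟩ := exists_two_fixed ht
    have h6 := h.eq_count hi hab (h.sType_facts hi2 hin hi hab (hS a b hab)).1
    rw [← hk2'] at hsqi
    subst hsqi
    omega
  exfalso
  have hcard : 16 ≤ Nat.card M := by
    rw [hMc, hi t ht, hsqi]
    obtain ⟨c, rfl⟩ := heven
    exact Nat.mul_le_mul (show 4 ≤ c + c by omega) (show 4 ≤ c + c by omega)
  haveI := Fintype.ofFinite M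
  have hpick : ∀ s : Finset M, s.card < 16 → ∃ x : M, x ∉ s := fun s hs => by
    by_contra! hh
    have := Finset.card_le_card (show (Finset.univ : Finset M) ⊆ s from fun x _ => hh x)
    rw [Finset.card_univ, ← Nat.card_eq_fintype_card] at this
    omega
  obtain ⟨o₁, h1⟩ := hpick {1} (by simp)
  obtain ⟨o₂, h2⟩ := hpick {1, o₁} (lt_of_le_of_lt Finset.card_le_two (by norm_num))
  obtain ⟨o₃, h3⟩ := hpick ({1, o₁, o₂, o₁ * o₂} : Finset M) (lt_of_le_of_lt Finset.card_le_four (by norm_num))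
  simp only [Finset.mem_insert, Finset.mem_singleton, not_or] at h1 h2 h3
  obtain ⟨h30, h31, h32, h33⟩ := h3
  have hsq' : ∀ x : M, x * x = 1 := fun x => Subtype.ext (hM2 x.1 x.2)
  have hlift : ∀ (x : M) (c : ↥(centralizer ({t} : Set G))), x ≠ 1 → img Ω t c = x.1 → c.1 * c.1 = t :=
    fun x c hx hc => hsq c (hc ▸ ((hM x.1).1 x.2).resolve_left fun e => hx (Subtype.ext e))
  have hanti : ∀ (x y : M) (c d : ↥(centralizer ({t} : Set G))), x ≠ 1 → y ≠ 1 → x ≠ y → img Ω t c = x.1 →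
      img Ω t d = y.1 → d.1 * c.1 = c.1 * d.1 * t := by
    intro x y c d hx hy hxy hc hd
    have hxy1 : x * y ≠ 1 := fun e => hxy (by rw [← inv_eq_of_mul_eq_one_right e, inv_eq_of_mul_eq_one_right (hsq' x)])
    have e := hlift (x * y) (c * d) hxy1 (by rw [map_mul, hc, hd]; rfl)
    rw [Subgroup.coe_mul] at e
    have hc' := hlift x c hx hc
    have hd' := hlift y d hy hd
    have hct : c.1 * t = t * c.1 := mem_centralizer_singleton_iff.1 c.2
    have hdt : d.1 * t = t * d.1 := mem_centralizer_singleton_iff.1 d.2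
    have hcd : c.1 * d.1 * t = t * (c.1 * d.1) := by rw [mul_assoc, hdt, ← mul_assoc, hct, mul_assoc]
    calc d.1 * c.1 = c.1⁻¹ * (c.1 * d.1 * (c.1 * d.1)) * d.1⁻¹ := by group
      _ = c.1⁻¹ * t * d.1⁻¹ := by rw [e]
      _ = (c.1 * c.1)⁻¹ * (c.1 * t * d.1) * (d.1 * d.1)⁻¹ := by group
      _ = t⁻¹ * (c.1 * t * d.1) * t⁻¹ := by rw [hc', hd']
      _ = t⁻¹ * t * (c.1 * d.1) * t⁻¹ := by rw [hct]; group
      _ = c.1 * d.1 * t := by rw [inv_mul_cancel, one_mul, inv_eq_of_mul_eq_one_right ht.1]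
  obtain ⟨a, ha⟩ := img_surjective (Ω := Ω) t o₁.1
  obtain ⟨b, hb⟩ := img_surjective (Ω := Ω) t o₂.1
  obtain ⟨c, hc⟩ := img_surjective (Ω := Ω) t o₃.1
  have e1 := hanti o₁ o₂ a b h1 h2.1 (Ne.symm h2.2) ha hb
  have e2 := hanti o₁ o₃ a c h1 h30 (Ne.symm h31) ha hc
  have h23 : o₂ * o₃ ≠ 1 := fun e => h32 (by
    rw [← inv_eq_of_mul_eq_one_right e, inv_eq_of_mul_eq_one_right (hsq' o₂)])
  have h123 : o₁ ≠ o₂ * o₃ := fun e => h33 (by
    calc o₃ = o₂ * (o₂ * o₃) := by rw [← mul_assoc, hsq' o₂, one_mul]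
      _ = o₂ * o₁ := by rw [← e]
      _ = o₁ * o₂ := by
        rw [← inv_eq_of_mul_eq_one_right (hsq' (o₁ * o₂)), mul_inv_rev, inv_eq_of_mul_eq_one_right (hsq' o₁),
          inv_eq_of_mul_eq_one_right (hsq' o₂)])
  have e3 := hanti o₁ (o₂ * o₃) a (b * c) h1 h23 h123 ha (by rw [map_mul, hb, hc]; rfl)
  rw [Subgroup.coe_mul] at e3
  have hct : c.1 * t = t * c.1 := mem_centralizer_singleton_iff.1 c.2
  have h' : a.1 * (b.1 * c.1) * t = a.1 * (b.1 * c.1) := by
    rw [← e3, mul_assoc b.1, e2, ← mul_assoc, ← mul_assoc, e1,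
      show a.1 * b.1 * t * c.1 * t = a.1 * b.1 * (t * c.1) * t by group, ← hct,
      show a.1 * b.1 * (c.1 * t) * t = a.1 * (b.1 * c.1) * (t * t) by group, ht.1, mul_one]
  exact ht.2.1 (mul_eq_left.1 h')

/-- An odd `k` in the symmetric case is impossible. -/
theorem caseTwo_sym_odd {t : G} (ht : t ∈ doubles G Ω) (Q : Sylow 2 G)
    (hQ : (Q : Subgroup G) ≤ centralizer ({t} : Set G)) {k : ℕ} (hk2 : 2 ≤ k)
    (hki : k < Nat.card (fixedBy Ω t))
    (hk : ∀ u ∈ doubles (imgGroup Ω t) ↥(fixedBy Ω t), Nat.card (fixedBy ↥(fixedBy Ω t) u) = k)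
    (hodd : Odd k) : False := by
  classical
  haveI : Fact (Nat.Prime 2) := ⟨Nat.prime_two⟩
  obtain ⟨hne, hsq⟩ := h.sym_others hi2 hin hi hK hS ht
  have hH := h.half_cent hK ht
  have hsqi := hH.card_eq_sq hk2 hki hk hne
  rw [hi t ht] at hsqi
  have hiodd : Odd i := hsqi ▸ hodd.mul hodd
  -- a common fixed point of the Sylow subgroup
  obtain ⟨p, hp⟩ : ∃ p : fixedBy Ω t, ∀ x : ↥(Q : Subgroup G), img Ω t ⟨x.1, hQ x.2⟩ • p = p := by
    letI : MulAction ↥(Q : Subgroup G) (fixedBy Ω t) :=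
      MulAction.compHom _ ((img Ω t).comp (Subgroup.inclusion hQ))
    obtain ⟨p, hp⟩ := Q.2.nonempty_fixed_point_of_prime_not_dvd_card (fixedBy Ω t)
      (fun hd => by rw [hi t ht] at hd; rw [Nat.odd_iff] at hiodd; omega)
    exact ⟨p, hp⟩
  obtain ⟨o, ⟨ho, hop⟩, huniq⟩ := (hH.other_point hk2 hki hk hne hodd).2 p
  obtain ⟨h₀, rfl⟩ := img_surjective (Ω := Ω) t o
  set η : G := h₀.1 with hη
  have hηsq : η * η = t := hsq h₀ ho
  have hηt : η * t = t * η := mem_centralizer_singleton_iff.1 h₀.2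
  have hη4 : ∀ y : G, y * y = 1 → y ≠ η ∧ y ≠ η * t := fun y hy =>
    ⟨fun e => ht.2.1 (by rw [← hηsq, ← e, hy]), fun e => ht.2.1 (by
      rw [e, show η * t * (η * t) = η * (t * η) * t by group, ← hηt,
        show η * (η * t) * t = η * η * (t * t) by group, hηsq, ht.1, mul_one] at hy
      exact hy)⟩
  have hmove : ∀ x ∈ (Q : Subgroup G), x * η * x⁻¹ = η ∨ x * η * x⁻¹ = η * t := by
    intro x hx
    have hc := hH.other_central hk2 hki hk hne hodd ho hop (hp ⟨x, hx⟩)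
    exact h.img_eq hK ht (c := h₀) (d := ⟨x, hQ hx⟩ * h₀ * ⟨x, hQ hx⟩⁻¹)
      (by rw [map_mul, map_mul, map_inv, hc, mul_inv_cancel_right])
  have hη4ord : orderOf η = 4 := by
    refine orderOf_eq_of_pow_and_pow_div_prime (by norm_num) ?_ fun q hq hd => ?_
    · rw [show (4 : ℕ) = 2 + 2 from rfl, pow_add, pow_two, hηsq, ht.1]
    · obtain rfl : q = 2 := (Nat.prime_dvd_prime_iff_eq hq Nat.prime_two).1 (hq.dvd_of_dvd_pow (n := 2) hd)
      norm_num
      rw [pow_two, hηsq]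
      exact ht.2.1
  have hηQ : η ∈ (Q : Subgroup G) := by
    have hn : (Q : Subgroup G) ≤ normalizer (zpowers η : Set G) := fun x hx =>
      Cfsg.Lib.ZStarApps.mem_normalizer_of_maps fun y hy => by
        obtain ⟨j, rfl⟩ := mem_zpowers_iff.1 hy
        rw [← conj_zpow]
        refine zpow_mem ?_ j
        rcases hmove x hx with e | e <;> rw [e]
        · exact mem_zpowers η
        · rw [← hηsq]
          exact mul_mem (mem_zpowers η) (mul_mem (mem_zpowers η) (mem_zpowers η))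
    have hz : IsPGroup 2 (zpowers η) := IsPGroup.of_card (n := 2) (by rw [Nat.card_zpowers, hη4ord]; norm_num)
    have := Q.3 (IsPGroup.to_sup_of_normal_right' Q.2 hz hn) le_sup_left
    exact this ▸ le_sup_right (a := (Q : Subgroup G)) (mem_zpowers η)
  have htQ : t ∈ (Q : Subgroup G) := hηsq ▸ mul_mem hηQ hηQ
  set A : Subgroup G := (Q : Subgroup G) ⊓ centralizer ({η} : Set G) with hA
  have hmemA : ∀ x, x ∈ A ↔ x ∈ (Q : Subgroup G) ∧ x * η = η * x := fun x => by
    rw [hA, Subgroup.mem_inf, mem_centralizer_singleton_iff]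
  -- the only involution centralising the element of order four
  have hone : ∀ y ∈ A, y * y = 1 → y ≠ 1 → y = t := by
    intro y hy hy2 hy1
    by_contra hyt
    obtain ⟨hyQ, hyη⟩ := (hmemA y).1 hy
    set yb := img Ω t ⟨y, hQ hyQ⟩ with hyb
    have hyb2 : yb * yb = 1 := img_sq t hy2
    have hyb1 : yb ≠ 1 := h.img_ne hK ht hy1 hyt
    rcases mem_doubles_or_others (Φ := ↥(fixedBy Ω t)) hyb2 hyb1 with hd | hd
    · set z := ⟨y, hQ hyQ⟩ * h₀ with hz
      have hoc : img Ω t h₀ * yb = yb * img Ω t h₀ := (hH.other_central hk2 hki hk hne hodd ho hop (hp ⟨y, hyQ⟩)).symm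
      have hz2 : img Ω t z * img Ω t z = 1 := by
        rw [hz, map_mul, ← hyb, mul_assoc, ← mul_assoc (img Ω t h₀), hoc, mul_assoc yb (img Ω t h₀), ho.1, mul_one, hyb2]
      have hzp : img Ω t z • p = p := by rw [hz, map_mul, mul_smul, hop, hp ⟨y, hyQ⟩]
      have hz1 : img Ω t z ≠ 1 := fun e => by
        rw [hz, map_mul, ← hyb] at e
        have : yb = img Ω t h₀ := by rw [← inv_eq_of_mul_eq_one_right e, inv_eq_of_mul_eq_one_right hyb2]
        exact not_mem_both (this ▸ hd) ho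
      rcases mem_doubles_or_others (Φ := ↥(fixedBy Ω t)) hz2 hz1 with hzd | hzd
      · have h1 := (h.lift_double hK ht hzd).1
        rw [hz, Subgroup.coe_mul, show y * η * (y * η) = y * (η * y) * η by group, ← hyη,
          show y * (y * η) * η = y * y * (η * η) by group, hy2, hηsq, one_mul] at h1
        exact ht.2.1 h1
      · have := huniq _ ⟨hzd, hzp⟩
        rw [hz, map_mul, ← hyb, mul_eq_right] at this
        exact hyb1 this
    · rcases h.img_eq hK ht (huniq _ ⟨hd, hp ⟨y, hyQ⟩⟩).symm with e | e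
      · exact (hη4 y hy2).1 e
      · exact (hη4 y hy2).2 e
  have hA2 : IsPGroup 2 A := Q.2.to_le inf_le_left
  haveI hAcyc : IsCyclic A := cyclic_of_central_four hA2 (z := ⟨t, (hmemA t).2 ⟨htQ, hηt.symm⟩⟩)
    (h := ⟨η, (hmemA η).2 ⟨hηQ, rfl⟩⟩) (fun y hy hy1 => Subtype.ext (hone y.1 y.2 (congrArg Subtype.val hy)
      fun e => hy1 (Subtype.ext e))) (Subtype.ext hηsq) (fun e => ht.2.1 (congrArg Subtype.val e))
    (Subtype.ext ht.1) (fun y => Subtype.ext ((hmemA y.1).1 y.2).2)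
  -- the other elements are involutions
  have hout : ∀ x ∈ (Q : Subgroup G), x ∉ A → x * x = 1 := by
    intro x hx hxA
    have hxη : x * η * x⁻¹ = η * t := (hmove x hx).resolve_left fun e =>
      hxA ((hmemA x).2 ⟨hx, mul_inv_eq_iff_eq_mul.1 e⟩)
    have hxt : x * t = t * x := mem_centralizer_singleton_iff.1 (hQ hx)
    have hx2A : x * x ∈ A := (hmemA _).2 ⟨mul_mem hx hx, by
      rw [← mul_inv_eq_iff_eq_mul, show x * x * η * (x * x)⁻¹ = x * (x * η * x⁻¹) * x⁻¹ by group, hxη,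
        show x * (η * t) * x⁻¹ = x * η * x⁻¹ * (x * t * x⁻¹) by group, hxη, hxt, mul_inv_cancel_right, mul_assoc,
        ht.1, mul_one]⟩
    by_contra hne'
    by_cases h4 : x * x * (x * x) = 1
    · have hxx : x * x = t := hone _ hx2A h4 hne'
      set xb := img Ω t ⟨x, hQ hx⟩ with hxb
      have hxb2 : xb * xb = 1 := by
        rw [hxb, ← map_mul]
        exact (img_eq_one t _).2 (by rw [Subgroup.coe_mul, hxx]; exact self_mem_kerOf t)
      have hxb1 : xb ≠ 1 := h.img_ne hK ht (fun e => hne' (by rw [show x = 1 from e, one_mul]))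
        fun e => hne' (by rw [show x = t from e, ht.1])
      rcases mem_doubles_or_others (Φ := ↥(fixedBy Ω t)) hxb2 hxb1 with hd | hd
      · exact hne' (h.lift_double hK ht hd).1
      · rcases h.img_eq hK ht (huniq _ ⟨hd, hp ⟨x, hx⟩⟩).symm with e | e
        · exact hxA ((hmemA x).2 ⟨hx, by rw [show x = η from e]⟩)
        · exact hxA ((hmemA x).2 ⟨hx, by
            rw [show x = η * t from e, mul_assoc, ← hηt]⟩)
    · -- a power of the square is the element of order four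
      obtain ⟨j, hj⟩ := IsPGroup.iff_orderOf.1 hA2 ⟨x * x, hx2A⟩
      rw [Subgroup.orderOf_mk] at hj
      have hj2 : 2 ≤ j := by
        by_contra hh
        refine h4 ?_
        have e := pow_orderOf_eq_one (x * x)
        rw [hj] at e
        interval_cases j
        · rw [pow_zero, pow_one] at e; rw [e, one_mul]
        · rw [pow_one, pow_two] at e; exact e
      obtain ⟨l, rfl⟩ : ∃ l, j = l + 2 := ⟨j - 2, by omega⟩
      set y := (x * x) ^ 2 ^ l with hy
      have hy4 : orderOf y = 4 := by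
        rw [hy, orderOf_pow_of_dvd (Nat.two_pow_pos l).ne' (by rw [hj, pow_add]; exact dvd_mul_right _ _), hj,
          pow_add, Nat.mul_div_cancel_left _ (Nat.two_pow_pos l)]
        rfl
      have hyA : y ∈ A := pow_mem hx2A _
      have hyy : y * y = t := hone _ (mul_mem hyA hyA)
        (by rw [← pow_two y, ← pow_add, show (2 + 2 : ℕ) = 4 from rfl, ← hy4, pow_orderOf_eq_one]) fun e => by
          have := orderOf_dvd_of_pow_eq_one (x := y) (n := 2) (by rw [pow_two]; exact e)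
          rw [hy4] at this
          norm_num at this
      have hyη : y * η = η * y := ((hmemA y).1 hyA).2
      have hd : y * η⁻¹ * (y * η⁻¹) = 1 := by
        have hc' : y * η⁻¹ = η⁻¹ * y := ((show Commute y η from hyη).inv_right).eq
        calc y * η⁻¹ * (y * η⁻¹) = y * (η⁻¹ * y) * η⁻¹ := by group
          _ = y * (y * η⁻¹) * η⁻¹ := by rw [hc']
          _ = y * y * (η * η)⁻¹ := by group
          _ = 1 := by rw [hyy, hηsq, mul_inv_cancel]
      have hyc : x * y * x⁻¹ = y := by rw [hy, ← conj_pow]; congr 1; group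
      have hηc : x * η * x⁻¹ = η := by
        rcases eq_or_ne (y * η⁻¹) 1 with e | e
        · rw [← mul_inv_eq_one.1 e]; exact hyc
        · have e' := hone _ (mul_mem hyA (inv_mem ((hmemA η).2 ⟨hηQ, rfl⟩))) hd e
          have e'' : η = t * y := by
            rw [mul_inv_eq_iff_eq_mul.1 e', ← mul_assoc, ht.1, one_mul]
          rw [e'', show x * (t * y) * x⁻¹ = x * t * x⁻¹ * (x * y * x⁻¹) by group, hyc, hxt, mul_inv_cancel_right]
      rw [hηc] at hxη
      exact ht.2.1 (left_eq_mul.1 hxη)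
  -- the Sylow subgroup is dihedral
  obtain ⟨a, b, hab, -⟩ := exists_two_fixed ht
  obtain ⟨-, -, -, D, ⟨eD⟩⟩ := h.sType_facts hi2 hin hi hab (hS a b hab)
  obtain ⟨x₀, hx₀, hx₀A⟩ : ∃ x ∈ (Q : Subgroup G), x ∉ A := by
    by_contra! hh
    obtain ⟨P, hP⟩ := (IsPGroup.of_card (p := 2) (n := 3)
      (by rw [Nat.card_congr eD.toEquiv, DihedralGroup.nat_card]; norm_num) : IsPGroup 2 D).exists_le_sylow
    have eq' : A = (Q : Subgroup G) := le_antisymm inf_le_left hh
    haveI : IsCyclic ↥(Q : Subgroup G) := isCyclic_of_surjective _ (MulEquiv.subgroupCongr eq').surjective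
    haveI : IsCyclic ↥(P : Subgroup G) := isCyclic_of_surjective _ (Sylow.equiv Q P).surjective
    haveI : IsCyclic D := isCyclic_of_injective (Subgroup.inclusion hP) (Subgroup.inclusion_injective hP)
    letI : CommGroup D := IsCyclic.commGroup
    have hcomm : ∀ u v : DihedralGroup 4, u * v = v * u := fun u v => by
      rw [← eD.apply_symm_apply u, ← eD.apply_symm_apply v, ← map_mul, mul_comm, map_mul]
    exact absurd (hcomm (DihedralGroup.r 1) (DihedralGroup.sr 0)) (by decide)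
  obtain ⟨c₀, hc₀⟩ := IsCyclic.exists_generator (α := A)
  set c : G := c₀.1
  have hcA : c ∈ A := c₀.2
  have hgen : ∀ y ∈ A, y ∈ zpowers c := fun y hy => by
    obtain ⟨j, hj⟩ := mem_zpowers_iff.1 (hc₀ ⟨y, hy⟩)
    exact ⟨j, congrArg Subtype.val hj⟩
  have hx₀2 := hout x₀ hx₀ hx₀A
  have hxc : x₀ * c ∈ (Q : Subgroup G) := mul_mem hx₀ hcA.1
  have hxcA : x₀ * c ∉ A := fun e => hx₀A ((Subgroup.mul_mem_cancel_right _ hcA).1 e)
  have hxc2 := hout _ hxc hxcA
  have hx₀1 : x₀ ≠ 1 := fun e => hx₀A (e ▸ A.one_mem)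
  have hxc1 : x₀ * c ≠ 1 := fun e => hxcA (e ▸ A.one_mem)
  have hne' : x₀ ≠ x₀ * c := fun e => by
    have hc1 : c = 1 := left_eq_mul.1 e
    have := hgen t ((hmemA t).2 ⟨htQ, hηt.symm⟩)
    rw [hc1, zpowers_one_eq_bot, Subgroup.mem_bot] at this
    exact ht.2.1 this
  obtain ⟨d⟩ := InvolCalc.exists_dihedral_equiv (InvolCalc.order_two_of_mul_self hx₀2 hx₀1)
    (InvolCalc.order_two_of_mul_self hxc2 hxc1) hne'
  have hm : x₀ * (x₀ * c) = c := by rw [← mul_assoc, hx₀2, one_mul]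
  rw [hm] at d
  have hQeq : closure ({x₀, x₀ * c} : Set G) = (Q : Subgroup G) := by
    refine le_antisymm ((closure_le _).2 ?_) fun x hx => ?_
    · rintro _ (rfl | rfl) <;> assumption
    · have hcm : c ∈ closure ({x₀, x₀ * c} : Set G) := by
        have := (closure ({x₀, x₀ * c} : Set G)).mul_mem (Subgroup.subset_closure (Or.inl (rfl : x₀ = x₀)))
          (Subgroup.subset_closure (Or.inr (rfl : x₀ * c = x₀ * c)))
        rwa [hm] at this
      by_cases hxA : x ∈ A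
      · exact zpowers_le.2 hcm (hgen x hxA)
      · have hprod : x₀ * x ∈ A := by
          refine (hmemA _).2 ⟨mul_mem hx₀ hx, ?_⟩
          have e1 : ∀ y ∈ (Q : Subgroup G), y ∉ A → y * η * y⁻¹ = η * t := fun y hy hyA =>
            (hmove y hy).resolve_left fun e => hyA ((hmemA y).2 ⟨hy, mul_inv_eq_iff_eq_mul.1 e⟩)
          rw [← mul_inv_eq_iff_eq_mul, show x₀ * x * η * (x₀ * x)⁻¹ = x₀ * (x * η * x⁻¹) * x₀⁻¹ by group,
            e1 x hx hxA, show x₀ * (η * t) * x₀⁻¹ = x₀ * η * x₀⁻¹ * (x₀ * t * x₀⁻¹) by group,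
            e1 x₀ hx₀ hx₀A, mem_centralizer_singleton_iff.1 (hQ hx₀), mul_inv_cancel_right, mul_assoc, ht.1,
            mul_one]
        have := mul_mem (show x₀ ∈ closure ({x₀, x₀ * c} : Set G) from subset_closure (Or.inl rfl))
          (zpowers_le.2 hcm (hgen _ hprod))
        rwa [← mul_assoc, hx₀2, one_mul] at this
  have hc2 : 2 ≤ orderOf c := by
    by_contra hh
    have hc1 : c = 1 := orderOf_eq_one_iff.1 (by have := orderOf_pos c; omega)
    exact hne' (by rw [hc1, mul_one])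
  have hn : Nat.card Ω = i * (2 * i - 1) := by
    have hcount := h.eq_count hi hab (h.sType_facts hi2 hin hi hab (hS a b hab)).1
    obtain ⟨l, rfl⟩ : ∃ l, i = l + 1 := ⟨i - 1, by omega⟩
    rw [Nat.add_sub_cancel] at hcount
    rw [show 2 * (l + 1) - 1 = 2 * l + 1 by omega]
    ring_nf at hcount ⊢
    omega
  have hnp : ∀ p j : ℕ, p.Prime → Nat.card Ω ≠ p ^ j := hn ▸ not_prime_pow_mul hi2 (by omega)
    ((Nat.coprime_sub_self_right (by omega : i ≤ 2 * i - 1)).1 (by
      rw [show 2 * i - 1 - i = i - 1 by omega]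
      exact (Nat.coprime_self_sub_right (by omega)).2 (Nat.coprime_one_right i)))
  obtain ⟨h5040, -⟩ := h.dihedral_end hi2 hin hi hab (hS a b hab) hiodd Q hc2
    ⟨(MulEquiv.subgroupCongr hQeq).symm.trans d⟩ hnp
    (fun u hu g hg hf => by
      rcases hK u hu g (mem_kerOf.2 ⟨hg, hf⟩) with e | e <;> rw [e]
      · exact one_mul 1
      · exact hu.1)
  have h32 : 32 ∣ 4 * (i * (i - 1)) := by
    obtain ⟨l, rfl⟩ := hodd
    have he : Even (l * (l + 1)) := Nat.even_mul_succ_self l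
    obtain ⟨m, hm'⟩ := he.two_dvd
    refine ⟨i * m, ?_⟩
    have : i - 1 = 8 * m := by
      have : i = 4 * (l * (l + 1)) + 1 := by rw [hsqi]; ring
      omega
    rw [this]
    ring
  have hd : 32 ∣ 5040 := h32.trans (((h.card_cent hi ht) ▸ Subgroup.card_subgroup_dvd_card _).trans h5040)
  norm_num at hd

end TwoA4

end Cfsg.Lib.TwoPointFour
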