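import Cfsg.Agent.TwoPointFour.Degrees
import Cfsg.Agent.UFourThreeType.OneClass

/-!
A central involution in the pair group and a kernel of order two (row 3219).
-/

set_option autoImplicit false
set_option linter.unusedSectionVars false
set_option linter.style.haveILetI false

namespace Cfsg.Lib.TwoPointFour

open MulAction Subgroup Equiv Cfsg.Lib.TwoPointFive

universe u v

variable {G : Type u} {Ω : Type v} [Group G] [Finite G] [Finite Ω] [MulAction G Ω]

namespace TwoA4

variable (h : TwoA4 G Ω) {i : ℕ} (hi2 : 2 ≤ i) (hin : i < Nat.card Ω)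
  (hi : ∀ u ∈ doubles G Ω, Nat.card (fixedBy Ω u) = i)
  (hK : ∀ u ∈ doubles G Ω, ∀ g ∈ kerOf Ω u, g = 1 ∨ g = u)
include h hi2 hin hi hK

omit hi2 hin hi in
/-- An involution commuting with `u` has two fixed points in common with it exactly when its image does. -/
theorem meet_iff {u : G} (hu : u ∈ doubles G Ω) {x : G} (hx : x ∈ centralizer ({u} : Set G)) (hx2 : x * x = 1)
    (hx1 : x ≠ 1) (hxu : x ≠ u) :
    (img Ω u ⟨x, hx⟩ ∈ doubles (imgGroup Ω u) ↥(fixedBy Ω u) ↔ Meet Ω u x) ∧
      (img Ω u ⟨x, hx⟩ ∈ others (imgGroup Ω u) ↥(fixedBy Ω u) ↔ ¬ Meet Ω u x) := by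
  have h2 : img Ω u ⟨x, hx⟩ * img Ω u ⟨x, hx⟩ = 1 := img_sq u hx2
  have h1 : img Ω u ⟨x, hx⟩ ≠ 1 := h.img_ne hK hu hx1 hxu
  have hiff : img Ω u ⟨x, hx⟩ ∈ doubles (imgGroup Ω u) ↥(fixedBy Ω u) ↔ Meet Ω u x := by
    refine ⟨fun hd => ?_, fun ⟨p, q, hpq, hup, huq, hxp, hxq⟩ => ?_⟩
    · obtain ⟨p, q, hpq, hp, hq⟩ := exists_two_fixed hd
      exact ⟨p.1, q.1, fun e => hpq (Subtype.ext e), p.2, q.2, (img_fix_iff u _ p).1 hp, (img_fix_iff u _ q).1 hq⟩
    · exact ⟨h2, h1, two_le_fixed (a := (⟨p, hup⟩ : fixedBy Ω u)) (b := ⟨q, huq⟩)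
        (fun e => hpq (congrArg Subtype.val e)) (Subtype.ext hxp) (Subtype.ext hxq)⟩
  refine ⟨hiff, fun ho hm => not_mem_both (hiff.2 hm) ho, fun hm => ?_⟩
  exact (mem_doubles_or_others (Φ := ↥(fixedBy Ω u)) h2 h1).resolve_left fun hd => hm (hiff.1 hd)

variable {a b : Ω} (hab : a ≠ b) {z : G} (hz : IsCentral a b z)
include hab hz

/-- All lifts of involutions are involutions. -/
theorem central_lifts {t : G} (ht : t ∈ doubles G Ω) (htP : t ∈ stabilizer G a ⊓ stabilizer G b)
    {c : ↥(centralizer ({t} : Set G))} (hc : img Ω t c * img Ω t c = 1) (hc1 : img Ω t c ≠ 1) : c.1 * c.1 = 1 := by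
  obtain ⟨p, hp⟩ : ∃ p : fixedBy Ω t, img Ω t c • p ≠ p := by
    by_contra! hh
    exact hc1 ((h.half_cent hK ht).faith _ hh)
  obtain ⟨g, hg, hga, hgb⟩ := h.cent_move ht (a := p.1) (b := c.1 • p.1) (c := a) (d := b)
    (fun e => hp ((img_fix_iff t c p).2 e.symm)) hab p.2 (fixed_maps t c.1 c.2 p.1 p.2) htP.1 htP.2
  have hs : Swaps c.1 p.1 (c.1 • p.1) := by
    have := swaps_invol (x := p) hc
    exact ⟨rfl, Subtype.ext_iff.1 this.2⟩
  have hs' := hs.conj (h := g)
  rw [hga, hgb] at hs'
  obtain ⟨hzs, hz2, hzc⟩ := hz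
  set c' := g * c.1 * g⁻¹ with hc'
  have hc't : c' * t = t * c' := mem_centralizer_singleton_iff.1 ((centralizer ({t} : Set G)).mul_mem
    ((centralizer ({t} : Set G)).mul_mem hg c.2) ((centralizer ({t} : Set G)).inv_mem hg))
  have hx : z * c' ∈ stabilizer G a ⊓ stabilizer G b :=
    ⟨show (z * c') • a = a by rw [mul_smul, hs'.1, hzs.2], show (z * c') • b = b by rw [mul_smul, hs'.2, hzs.1]⟩
  have hx2 := (h.pair_cent hab htP ht.1 ht.2.1).1 _ hx (by rw [mul_assoc, hc't, ← mul_assoc, hzc t htP, mul_assoc])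
  have hzc' : z * c' = c' * z := by
    have h1 := hzc _ hx
    rw [← mul_assoc, hz2, one_mul, mul_assoc] at h1
    calc z * c' = z * (z * (c' * z)) := by rw [← h1]
      _ = c' * z := by rw [← mul_assoc, hz2, one_mul]
  have hsq : c' * c' = 1 := by
    calc c' * c' = (z * z) * (c' * c') := by rw [hz2, one_mul]
      _ = z * (z * c') * c' := by group
      _ = z * (c' * z) * c' := by rw [hzc']
      _ = z * c' * (z * c') := by group
      _ = 1 := hx2
  rw [hc', show g * c.1 * g⁻¹ * (g * c.1 * g⁻¹) = g * (c.1 * c.1) * g⁻¹ by group] at hsq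
  exact conj_eq_one_iff.1 hsq

/-- The products of the central involution with the involutions of the stabiliser have two fixed points. -/
theorem central_zx : ∀ x ∈ stabilizer G a ⊓ stabilizer G b, x * x = 1 → x ≠ 1 → z * x ∈ doubles G Ω := by
  obtain ⟨m₀, m₁, -, -, h1⟩ := h.central_swappers hi hab hz
  rcases h1 with h1 | h1
  · exact h1.1
  exfalso
  obtain ⟨t, ht, htP⟩ := h.exists_double hab
  obtain ⟨k, hk2, hki, hk⟩ := (h.half_cent hK ht).exists_k
  obtain ⟨s, hs, hsw⟩ := (h.half_cent hK ht).exists_swap hk2 hki hk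
    (a := (⟨a, htP.1⟩ : fixedBy Ω t)) (b := ⟨b, htP.2⟩) (fun e => hab (congrArg Subtype.val e))
  obtain ⟨c, rfl⟩ := img_surjective (Ω := Ω) t s
  have hcs : Swaps c.1 a b := ⟨Subtype.ext_iff.1 hsw.1, Subtype.ext_iff.1 hsw.2⟩
  have hct : c.1 * t ∈ doubles G Ω := h.lift_double hK ht
    (c := c * ⟨t, mem_centralizer_singleton_iff.2 rfl⟩) (by rw [map_mul, h.img_self hK, mul_one]; exact hs)
  have hcd := h.lift_double hK ht hs
  obtain ⟨hzs, hz2, hzc⟩ := hz
  have hkey : ∀ d : G, d ∈ doubles G Ω → d * t = t * d → Swaps d a b → d = z := by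
    intro d hd hdt hds
    have hx : z * d ∈ stabilizer G a ⊓ stabilizer G b :=
      ⟨show (z * d) • a = a by rw [mul_smul, hds.1, hzs.2], show (z * d) • b = b by rw [mul_smul, hds.2, hzs.1]⟩
    have hx2 := (h.pair_cent hab htP ht.1 ht.2.1).1 _ hx (by rw [mul_assoc, hdt, ← mul_assoc, hzc t htP, mul_assoc])
    by_contra hne
    have hx1 : z * d ≠ 1 := fun e => hne (by
      rw [← inv_eq_of_mul_eq_one_right e, inv_eq_of_mul_eq_one_right hz2])
    refine h1.1 _ hx hx2 hx1 ?_
    rwa [← mul_assoc, hz2, one_mul]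
  have e1 := hkey c.1 hcd (mem_centralizer_singleton_iff.1 c.2) hcs
  have e2 := hkey (c.1 * t) hct
    (by rw [← mul_assoc, ← mem_centralizer_singleton_iff.1 c.2])
    ⟨by rw [mul_smul, show t • a = a from htP.1, hcs.1], by rw [mul_smul, show t • b = b from htP.2, hcs.2]⟩
  exact ht.2.1 (mul_eq_left.1 (e2.trans e1.symm))

/-- A central involution with two fixed points makes all involutions alike. -/
theorem central_all (hzd : z ∈ doubles G Ω) {u : G} (hu : u * u = 1) (hu1 : u ≠ 1) : u ∈ doubles G Ω := by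
  have hzx := h.central_zx hi2 hin hi hK hab hz
  obtain ⟨hzs, hz2, hzc⟩ := hz
  obtain ⟨p, hp⟩ : ∃ p : Ω, u • p ≠ p := by
    by_contra! hh
    exact hu1 (h.faith u hh)
  obtain ⟨g, hga, hgb⟩ := h.move p (u • p) a b hp.symm hab
  have hs := (swaps_invol (x := p) hu).conj (h := g)
  rw [hga, hgb] at hs
  set w := g * u * g⁻¹ with hw
  have hwd : w ∈ doubles G Ω := by
    have hx : z * w ∈ stabilizer G a ⊓ stabilizer G b :=
      ⟨show (z * w) • a = a by rw [mul_smul, hs.1, hzs.2], show (z * w) • b = b by rw [mul_smul, hs.2, hzs.1]⟩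
    by_cases hx1 : z * w = 1
    · rw [← inv_eq_of_mul_eq_one_right hx1, inv_eq_of_mul_eq_one_right hz2]; exact hzd
    have hcw : z * w = w * z := by
      have h1 := hzc _ hx
      rw [← mul_assoc, hz2, one_mul, mul_assoc] at h1
      calc z * w = z * (z * (w * z)) := by rw [← h1]
        _ = w * z := by rw [← mul_assoc, hz2, one_mul]
    have := hzx _ hx (by
      calc z * w * (z * w) = z * w * (w * z) := by rw [hcw]
        _ = z * (w * w) * z := by group
        _ = 1 := by rw [sq_conj hu g, mul_one, hz2]) hx1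
    rwa [← mul_assoc, hz2, one_mul] at this
  have := doubles_closed w hwd g⁻¹
  rwa [hw, show g⁻¹ * (g * u * g⁻¹) * g⁻¹⁻¹ = u by group] at this

/-- The degree in terms of the number of fixed points. -/
theorem central_count :
    (z ∈ doubles G Ω ∧ 3 * (Nat.card Ω - i) = 4 * (i * (i - 1))) ∨ (z ∉ doubles G Ω ∧ Nat.card Ω = i * i) := by
  have hzx := h.central_zx hi2 hin hi hK hab hz
  obtain ⟨m₀, m₁, hm, h0, h1⟩ := h.central_swappers hi hab hz
  have hcount := h.eq_count hi hab hm
  obtain ⟨t, ht, htP⟩ := h.exists_double hab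
  have hm1 : m₁ = 3 := (h1.resolve_right fun hh => hh.1 t htP ht.1 ht.2.1 (hzx t htP ht.1 ht.2.1)).2
  rcases h0 with ⟨h0, hm0⟩ | ⟨h0, hm0⟩ <;> rw [hm0, hm1] at hcount
  · exact Or.inl ⟨h0, hcount⟩
  · refine Or.inr ⟨h0, ?_⟩
    rw [zero_add] at hcount
    have h2 := Nat.eq_of_mul_eq_mul_left (by norm_num : 0 < 3) hcount
    rw [Nat.mul_sub, mul_one] at h2
    have : i ≤ i * i := Nat.le_mul_self i
    omega

/-- A central involution with at most one fixed point is isolated. -/
theorem central_isolated (hzd : z ∉ doubles G Ω) (hodd : Odd i) :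
    ∃ J : G, orderOf J = 2 ∧ centralizer ({J} : Set G) ⊔ Cfsg.oddCore G = ⊤ := by
  classical
  have hzx := h.central_zx hi2 hin hi hK hab hz
  have hn : Odd (Nat.card Ω) := by
    rcases h.central_count hi2 hin hi hK hab hz with ⟨h1, -⟩ | ⟨-, h1⟩
    · exact absurd h1 hzd
    · rw [h1]; exact hodd.mul hodd
  obtain ⟨hzs, hz2, hzc⟩ := hz
  have hz1 : z ≠ 1 := fun e => hab (by rw [← hzs.1, e, one_smul])
  have hzo : z ∈ others G Ω := (mem_doubles_or_others hz2 hz1).resolve_left hzd
  have hf : ∀ w ∈ others G Ω, Nat.card (fixedBy Ω w) = 1 := fun w hw => by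
    have h1 := fixedBy_parity (Φ := Ω) hw.1
    rw [Nat.odd_iff.1 hn] at h1
    have := hw.2.2
    omega
  have h1 : ∀ p q : Ω, p ≠ q → Nat.card {u : G // u ∈ others G Ω ∧ Swaps u p q} = 1 := by
    intro p q hpq
    rw [h.swappers_eq (others G Ω) others_closed hab hpq]
    refine Nat.card_eq_one_iff_unique.2 ⟨⟨fun x y => Subtype.ext ?_⟩, ⟨⟨z, hzo, hzs⟩⟩⟩
    have key : ∀ w : G, w ∈ others G Ω → Swaps w a b → w = z := by
      intro w hw hs
      have hx : z * w ∈ stabilizer G a ⊓ stabilizer G b :=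
        ⟨show (z * w) • a = a by rw [mul_smul, hs.1, hzs.2], show (z * w) • b = b by rw [mul_smul, hs.2, hzs.1]⟩
      by_contra hne
      have hx1 : z * w ≠ 1 := fun e => hne (by
        rw [← inv_eq_of_mul_eq_one_right e, inv_eq_of_mul_eq_one_right hz2])
      have hcw : z * w = w * z := by
        have h1 := hzc _ hx
        rw [← mul_assoc, hz2, one_mul, mul_assoc] at h1
        calc z * w = z * (z * (w * z)) := by rw [← h1]
          _ = w * z := by rw [← mul_assoc, hz2, one_mul]
      have := hzx _ hx (by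
        calc z * w * (z * w) = z * w * (w * z) := by rw [hcw]
          _ = z * (w * w) * z := by group
          _ = 1 := by rw [hw.1, mul_one, hz2]) hx1
      rw [← mul_assoc, hz2, one_mul] at this
      exact not_mem_both this hw
    rw [key x.1 x.2.1 x.2.2, key y.1 y.2.1 y.2.2]
  have huniq := h.toPairs.unique_fix h.two others_closed (fun u hu => hu.1) ⟨z, hzo⟩ hf h1
  have hiso : Cfsg.IsIsolatedInvolution z := by
    refine ⟨InvolCalc.order_two_of_mul_self hz2 hz1, fun g hc => ?_⟩
    have hwo := others_closed z hzo g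
    obtain ⟨⟨p, hp⟩⟩ := (Nat.card_pos_iff.1 (by rw [hf z hzo]; exact one_pos) : Nonempty (fixedBy Ω z) ∧ _).1
    exact huniq _ hwo z hzo p (others_fix_unique hzo (by rw [smul_smul, hc.eq, mul_smul, hp]) hp) hp
  refine ⟨z, hiso.1, (Subgroup.eq_top_iff' _).2 fun g => ?_⟩
  have hu := Cfsg.Lib.ZStarApps.zstarProp hiso g
  rw [inv_eq_of_mul_eq_one_right hz2, show z * g * z * g⁻¹ = z * (g * z * g⁻¹) by group] at hu
  have hle : zpowers (z * (g * z * g⁻¹)) ≤ Cfsg.oddCore G := zpowers_le.2 hu
  rcases Cfsg.Lib.UFourThreeType.two_involutions hz2 (sq_conj hz2 g) with ⟨c, hc, hcz⟩ | ⟨x, hx, hx2, -⟩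
  · rw [show g = g * 1 by rw [mul_one], show g * 1 = c * (c⁻¹ * g) by group, sup_comm]
    refine Subgroup.mul_mem_sup (hle hc) (mem_centralizer_singleton_iff.2 (mul_inv_eq_iff_eq_mul.1 ?_))
    rw [show c⁻¹ * g * z * (c⁻¹ * g)⁻¹ = c⁻¹ * (g * z * g⁻¹) * c by group, ← hcz]
    group
  · exfalso
    have h2 := Subgroup.orderOf_dvd_natCard (Cfsg.pPrimeCore 2 G) (hle hx)
    rw [hx2] at h2
    have := Nat.odd_iff.1 (Cfsg.Lib.ZStarApps.odd_card_pPrimeCore (G := G))
    omega

/-- The seven involutions around a pair would carry a parity contradiction. -/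
theorem central_fano (hzd : z ∈ doubles G Ω) (hodd : Odd i)
    (hO : ∀ u ∈ doubles G Ω, (others (imgGroup Ω u) ↥(fixedBy Ω u)).Nonempty) : False := by
  classical
  haveI := Fintype.ofFinite G
  obtain ⟨t, ht, htP⟩ := h.exists_double hab
  have hall := fun u hu hu1 => h.central_all hi2 hin hi hK hab hz hzd (u := u) hu hu1
  obtain ⟨hzs, hz2, hzc⟩ := hz
  set V := (stabilizer G a ⊓ stabilizer G b) ⊓ centralizer ({t} : Set G) with hV
  have hV4 : Nat.card V = 4 := (h.pair_cent hab htP ht.1 ht.2.1).2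
  have hVsq : ∀ x ∈ V, x * x = 1 := fun x hx =>
    (h.pair_cent hab htP ht.1 ht.2.1).1 x hx.1 (mem_centralizer_singleton_iff.1 hx.2)
  have hzV : ∀ x ∈ V, z * x = x * z := fun x hx => hzc x hx.1
  have hzni : z ∉ V := fun hh => hab ((hh.1.1 : z • a = a).symm.trans hzs.1)
  have hcomm : ∀ x : G, (x ∈ V ∨ z * x ∈ V) → z * x = x * z := by
    rintro x (hx | hx)
    · exact hzV x hx
    · have h1 := hzV _ hx
      rw [← mul_assoc z z x, hz2, one_mul] at h1
      calc z * x = z * (z * x * z) := by rw [← h1]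
        _ = z * z * x * z := by group
        _ = x * z := by rw [hz2, one_mul]
  let E : Subgroup G :=
    { carrier := {x | x ∈ V ∨ z * x ∈ V}
      one_mem' := Or.inl V.one_mem
      mul_mem' := by
        rintro x y (hx | hx) (hy | hy)
        · exact Or.inl (V.mul_mem hx hy)
        · exact Or.inr (by rw [← mul_assoc, hzV x hx, mul_assoc]; exact V.mul_mem hx hy)
        · exact Or.inr (by rw [← mul_assoc]; exact V.mul_mem hx hy)
        · refine Or.inl ?_
          have h1 := V.mul_mem hx hy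
          rwa [show z * x * (z * y) = z * (x * z) * y by group, ← hcomm x (Or.inr hx), ← mul_assoc z z x, hz2,
            one_mul] at h1
      inv_mem' := by
        rintro x (hx | hx)
        · exact Or.inl (V.inv_mem hx)
        · refine Or.inr ?_
          have h1 := V.inv_mem hx
          rwa [hcomm x (Or.inr hx), mul_inv_rev, inv_eq_of_mul_eq_one_right hz2] at h1 }
  have hEsq : ∀ x ∈ E, x * x = 1 := by
    rintro x (hx | hx)
    · exact hVsq x hx
    · calc x * x = z * z * (x * x) := by rw [hz2, one_mul]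
        _ = z * (z * x) * x := by group
        _ = z * (x * z) * x := by rw [hcomm x (Or.inr hx)]
        _ = z * x * (z * x) := by group
        _ = 1 := hVsq _ hx
  have hEcomm : ∀ x ∈ E, ∀ y ∈ E, x * y = y * x := fun x hx y hy => by
    calc x * y = (x * y)⁻¹ := (inv_eq_of_mul_eq_one_right (hEsq _ (E.mul_mem hx hy))).symm
      _ = y * x := by rw [mul_inv_rev, inv_eq_of_mul_eq_one_right (hEsq x hx),
        inv_eq_of_mul_eq_one_right (hEsq y hy)]
  have hEcard : Nat.card E = 8 := by
    let f : V ⊕ V → E := fun v => v.elim (fun x => ⟨x.1, Or.inl x.2⟩) fun x => ⟨z * x.1, Or.inr (by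
      rw [← mul_assoc, hz2, one_mul]; exact x.2)⟩
    have hf : Function.Bijective f := by
      refine ⟨?_, fun y => ?_⟩
      · rintro (x | x) (x' | x') e
        · exact congrArg Sum.inl (Subtype.ext (Subtype.ext_iff.1 e :))
        · have e' : x.1 = z * x'.1 := Subtype.ext_iff.1 e
          exact absurd (eq_mul_inv_of_mul_eq e'.symm ▸ V.mul_mem x.2 (V.inv_mem x'.2)) hzni
        · have e' : z * x.1 = x'.1 := Subtype.ext_iff.1 e
          exact absurd (eq_mul_inv_of_mul_eq e' ▸ V.mul_mem x'.2 (V.inv_mem x.2)) hzni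
        · exact congrArg Sum.inr (Subtype.ext (mul_left_cancel (Subtype.ext_iff.1 e : z * x.1 = z * x'.1)))
      · rcases y.2 with hy | hy
        · exact ⟨Sum.inl ⟨y.1, hy⟩, rfl⟩
        · refine ⟨Sum.inr ⟨z * y.1, hy⟩, Subtype.ext ?_⟩
          show z * (z * y.1) = y.1
          rw [← mul_assoc, hz2, one_mul]
    rw [← Nat.card_congr (Equiv.ofBijective f hf), Nat.card_sum, hV4]
  have hpick : ∀ S : Finset G, S.card ≤ 4 → ∃ y ∈ E, y ∉ S := fun S hS => by
    by_contra! hh
    haveI := Fintype.ofFinite E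
    have := Finset.card_le_card (show (E : Set G).toFinset ⊆ S from fun x hx => hh x (Set.mem_toFinset.1 hx))
    rw [Set.toFinset_card, ← Nat.card_eq_fintype_card] at this
    change Nat.card E ≤ S.card at this
    omega
  have hEd : ∀ u ∈ E, u ≠ 1 → u ∈ doubles G Ω := fun u hu hu1 => hall u (hEsq u hu) hu1
  have hEC : ∀ u ∈ E, ∀ x ∈ E, x ∈ centralizer ({u} : Set G) := fun u hu x hx =>
    mem_centralizer_singleton_iff.2 (hEcomm x hx u hu)
  have hHalf : ∀ u ∈ doubles G Ω, ∃ k, 2 ≤ k ∧ k < Nat.card (fixedBy Ω u) ∧ Odd k ∧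
      ∀ w ∈ doubles (imgGroup Ω u) ↥(fixedBy Ω u), Nat.card (fixedBy ↥(fixedBy Ω u) w) = k := by
    intro u hu
    obtain ⟨k, hk2, hki, hk⟩ := (h.half_cent hK hu).exists_k
    have hsq := (h.half_cent hK hu).card_eq_sq hk2 hki hk (hO u hu)
    rw [hi u hu] at hsq
    exact ⟨k, hk2, hki, Nat.Odd.of_mul_left (hsq ▸ hodd), hk⟩
  have hline : ∀ u ∈ E, ∀ x ∈ E, (Meet Ω u (u * x) ↔ Meet Ω u x) := by
    intro u hu x hx
    refine ⟨fun ⟨p, q, hpq, h1, h2, h3, h4⟩ => ⟨p, q, hpq, h1, h2, ?_, ?_⟩,
      fun ⟨p, q, hpq, h1, h2, h3, h4⟩ => ⟨p, q, hpq, h1, h2, by rw [mul_smul, h3, h1], by rw [mul_smul, h4, h2]⟩⟩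
    · rw [mul_smul, smul_eq_iff_eq_inv_smul, inv_eq_of_mul_eq_one_right (hEsq u hu), h1] at h3
      exact h3
    · rw [mul_smul, smul_eq_iff_eq_inv_smul, inv_eq_of_mul_eq_one_right (hEsq u hu), h2] at h4
      exact h4
  have hex : ∀ u ∈ E, u ≠ 1 → ∃ x ∈ E, x ≠ 1 ∧ x ≠ u ∧ ¬ Meet Ω u x := by
    intro u hu hu1
    obtain ⟨k, hk2, hki, hko, hk⟩ := hHalf u (hEd u hu hu1)
    by_contra! hno
    obtain ⟨x, hx, hxS⟩ := hpick {1, u} (Finset.card_le_two.trans (by norm_num))
    obtain ⟨y, hy, hyS⟩ := hpick {1, u, x, u * x} Finset.card_le_four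
    simp only [Finset.mem_insert, Finset.mem_singleton, not_or] at hxS hyS
    have hcy : img Ω u ⟨y, hEC u hu y hy⟩ * img Ω u ⟨x, hEC u hu x hx⟩ =
        img Ω u ⟨x, hEC u hu x hx⟩ * img Ω u ⟨y, hEC u hu y hy⟩ := by
      rw [← map_mul, ← map_mul]; exact congrArg _ (Subtype.ext (hEcomm y hy x hx))
    have hdx := (h.meet_iff hK (hEd u hu hu1) (hEC u hu x hx) (hEsq x hx) hxS.1 hxS.2).1.2 (hno x hx hxS.1 hxS.2)
    have hdy := (h.meet_iff hK (hEd u hu hu1) (hEC u hu y hy) (hEsq y hy) hyS.1 hyS.2.1).1.2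
      (hno y hy hyS.1 hyS.2.1)
    have hne : img Ω u ⟨x, hEC u hu x hx⟩ ≠ img Ω u ⟨y, hEC u hu y hy⟩ := fun e => by
      rcases h.img_eq hK (hEd u hu hu1) e with e' | e'
      · exact hyS.2.2.1 e'
      · exact hyS.2.2.2 (e'.trans (hEcomm x hx u hu))
    have ho := (h.half_cent hK (hEd u hu hu1)).doubles_mul hk2 hki hk (hO u (hEd u hu hu1)) hko hdx hdy hne hcy
    have hxy1 : x * y ≠ 1 := fun e => hyS.2.2.1 (by
      rw [← inv_eq_of_mul_eq_one_right e, inv_eq_of_mul_eq_one_right (hEsq x hx)])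
    have hxyu : x * y ≠ u := fun e => hyS.2.2.2 (by
      rw [← e, mul_assoc, hEcomm y hy x hx, ← mul_assoc, hEsq x hx, one_mul])
    rw [← map_mul] at ho
    exact (h.meet_iff hK (hEd u hu hu1) (hEC u hu _ (E.mul_mem hx hy)) (hEsq _ (E.mul_mem hx hy)) hxy1 hxyu).2.1 ho
      (hno _ (E.mul_mem hx hy) hxy1 hxyu)
  have huniq : ∀ u ∈ E, u ≠ 1 → ∀ x ∈ E, x ≠ 1 → x ≠ u → ¬ Meet Ω u x → ∀ y ∈ E, y ≠ 1 → y ≠ u → ¬ Meet Ω u y →
      y = x ∨ y = u * x := by
    intro u hu hu1 x hx hx1 hxu hmx y hy hy1 hyu hmy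
    obtain ⟨k, hk2, hki, hko, hk⟩ := hHalf u (hEd u hu hu1)
    have hox := (h.meet_iff hK (hEd u hu hu1) (hEC u hu x hx) (hEsq x hx) hx1 hxu).2.2 hmx
    have hoy := (h.meet_iff hK (hEd u hu hu1) (hEC u hu y hy) (hEsq y hy) hy1 hyu).2.2 hmy
    have := (h.half_cent hK (hEd u hu hu1)).others_comm hk2 hki hk (hO u (hEd u hu hu1)) hko hox hoy (by
      rw [← map_mul, ← map_mul]; exact congrArg _ (Subtype.ext (hEcomm y hy x hx)))
    rcases h.img_eq hK (hEd u hu hu1) this with e | e
    · exact Or.inl e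
    · exact Or.inr (e.trans (hEcomm x hx u hu))
  -- the line of a first point and a point outside it
  have htE : t ∈ E := Or.inl ⟨htP, mem_centralizer_singleton_iff.2 rfl⟩
  obtain ⟨q, hq, hq1, hqt, hmq⟩ := hex t htE ht.2.1
  have htq1 : t * q ≠ 1 := fun e => hqt (by
    rw [← inv_eq_of_mul_eq_one_right e, inv_eq_of_mul_eq_one_right ht.1])
  have htqE : t * q ∈ E := E.mul_mem htE hq
  set L : Finset G := {t, q, t * q} with hL
  set W : Finset G := insert 1 L with hW
  have hLE : ∀ l ∈ L, l ∈ E ∧ l ≠ 1 := by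
    simp only [hL, Finset.mem_insert, Finset.mem_singleton]
    rintro l (rfl | rfl | rfl)
    · exact ⟨htE, ht.2.1⟩
    · exact ⟨hq, hq1⟩
    · exact ⟨htqE, htq1⟩
  -- every point of the line sees the line only
  have hsee : ∀ l ∈ L, ∀ y ∈ E, y ≠ 1 → y ≠ l → ¬ Meet Ω l y → y ∈ L := by
    intro l hl y hy hy1 hyl hmy
    simp only [hL, Finset.mem_insert, Finset.mem_singleton] at hl ⊢
    have hqt' : q * t = t * q := hEcomm q hq t htE
    rcases hl with rfl | rfl | rfl
    · rcases huniq l htE ht.2.1 q hq hq1 hqt hmq y hy hy1 hyl hmy with e | e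
      · exact Or.inr (Or.inl e)
      · exact Or.inr (Or.inr e)
    · rcases huniq l hq hq1 t htE ht.2.1 (Ne.symm hqt) (fun e => hmq (meet_symm e)) y hy hy1 hyl hmy with e | e
      · exact Or.inl e
      · exact Or.inr (Or.inr (e.trans hqt'))
    · have hmt : ¬ Meet Ω (t * q) t := fun e => hmq ((hline t htE q hq).1 (meet_symm e))
      rcases huniq (t * q) htqE htq1 t htE ht.2.1 (fun e => hq1 (left_eq_mul.1 e)) hmt y hy hy1 hyl hmy with e | e
      · exact Or.inl e
      · refine Or.inr (Or.inl ?_)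
        rw [e, mul_assoc, hqt', ← mul_assoc, ht.1, one_mul]
  have hWc : W.card = 4 := by
    have e1 : (1 : G) ∉ L := fun e => (hLE 1 e).2 rfl
    have e2 : t ∉ ({q, t * q} : Finset G) := by
      simp only [Finset.mem_insert, Finset.mem_singleton, not_or]
      exact ⟨Ne.symm hqt, fun e => hq1 (left_eq_mul.1 e)⟩
    rw [hW, Finset.card_insert_of_notMem e1, hL, Finset.card_insert_of_notMem e2,
      Finset.card_pair fun e => ht.2.1 (right_eq_mul.1 e)]
  obtain ⟨r, hr, hrW⟩ := hpick W hWc.le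
  have hr1 : r ≠ 1 := fun e => hrW (e ▸ Finset.mem_insert_self 1 L)
  have hrL : r ∉ L := fun e => hrW (Finset.mem_insert_of_mem e)
  obtain ⟨s, hs, hs1, hsr, hms⟩ := hex r hr hr1
  by_cases hsW : s ∈ W
  · rcases Finset.mem_insert.1 hsW with e | e
    · exact hs1 e
    · exact hrL (hsee s e r hr hr1 (Ne.symm hsr) fun e' => hms (meet_symm e'))
  -- outside the line two elements multiply into it
  have hrsW : r * s ∈ W := by
    by_contra hno
    have hWE : ∀ w ∈ W, w ∈ E := fun w hw => (Finset.mem_insert.1 hw).elim (fun e => e ▸ E.one_mem) fun e => (hLE w e).1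
    have hclosed : ∀ w ∈ W, ∀ w' ∈ W, w * w' ∈ W := by
      have hqt' : q * t = t * q := hEcomm q hq t htE
      have e1 : t * (t * q) = q := by rw [← mul_assoc, ht.1, one_mul]
      have e2 : q * (t * q) = t := by rw [← mul_assoc, hqt', mul_assoc, hEsq q hq, mul_one]
      have e3 : t * q * t = q := by rw [mul_assoc, hqt', e1]
      have e4 : t * q * q = t := by rw [mul_assoc, hEsq q hq, mul_one]
      simp only [hW, hL, Finset.mem_insert, Finset.mem_singleton]
      rintro w (e | e | e | e) w' (e' | e' | e' | e') <;> subst w <;> subst w' <;>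
        simp [hqt', e1, e2, e3, e4, ht.1, hEsq q hq, hEsq _ htqE]
    have hd : Disjoint W (W.image fun w => r * w) := Finset.disjoint_left.2 fun x hx hx' => by
      obtain ⟨w, hw, rfl⟩ := Finset.mem_image.1 hx'
      have := hclosed _ hx w hw
      rw [mul_assoc, hEsq w (hWE w hw), mul_one] at this
      exact hrW this
    haveI := Fintype.ofFinite E
    have hsub : insert s (W ∪ W.image fun w => r * w) ⊆ (E : Set G).toFinset := by
      intro x hx
      rw [Set.mem_toFinset]
      rcases Finset.mem_insert.1 hx with rfl | hx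
      · exact hs
      rcases Finset.mem_union.1 hx with hx | hx
      · exact hWE x hx
      · obtain ⟨w, hw, rfl⟩ := Finset.mem_image.1 hx
        exact E.mul_mem hr (hWE w hw)
    have hsnot : s ∉ W ∪ W.image fun w => r * w := by
      rw [Finset.mem_union]
      rintro (e | e)
      · exact hsW e
      · obtain ⟨w, hw, rfl⟩ := Finset.mem_image.1 e
        rw [← mul_assoc, hEsq r hr, one_mul] at hno
        exact hno hw
    have := Finset.card_le_card hsub
    rw [Finset.card_insert_of_notMem hsnot, Finset.card_union_of_disjoint hd,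
      Finset.card_image_of_injective _ (mul_right_injective r), hWc, Set.toFinset_card, ← Nat.card_eq_fintype_card]
      at this
    change _ ≤ Nat.card E at this
    omega
  rcases Finset.mem_insert.1 hrsW with e | e
  · exact hsr (by rw [← inv_eq_of_mul_eq_one_right e, inv_eq_of_mul_eq_one_right (hEsq r hr)])
  · refine hrL (hsee _ e r hr hr1 (fun e' => hs1 (left_eq_mul.1 e')) fun e' => hms ?_)
    exact (hline r hr s hs).1 (meet_symm e')

/-- An even number of fixed points and all involutions alike make the fixed-point sets too many. -/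
theorem central_even (hzd : z ∈ doubles G Ω) (heven : Even i)
    (hO : ∀ u ∈ doubles G Ω, (others (imgGroup Ω u) ↥(fixedBy Ω u)).Nonempty) : False := by
  classical
  haveI := Fintype.ofFinite G
  haveI := Fintype.ofFinite Ω
  obtain ⟨t, ht, htP⟩ := h.exists_double hab
  have hcount : 3 * (Nat.card Ω - i) = 4 * (i * (i - 1)) :=
    ((h.central_count hi2 hin hi hK hab hz).resolve_right fun e => e.1 hzd).2
  have hH := h.half_cent hK ht
  obtain ⟨k, hk2, hki, hk⟩ := hH.exists_k
  have hsqi := hH.card_eq_sq hk2 hki hk (hO t ht)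
  rw [hi t ht] at hsqi
  have hkeven : Even k := by
    rw [hsqi] at heven
    rcases Nat.even_mul.1 heven with e | e <;> exact e
  have hk4 : 3 ≤ k := by
    by_contra hh
    obtain rfl : k = 2 := by omega
    exact h.not_twenty hi (by subst hsqi; omega) (by omega)
  obtain ⟨M, -, hM, hM2, hMc⟩ := hH.others_regular hk2 hki hk (hO t ht) hkeven
  set C := centralizer ({t} : Set G) with hC
  set A : Subgroup C := M.comap (img Ω t) with hA
  have hAsq : ∀ x ∈ A, x.1 * x.1 = 1 := by
    intro x hx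
    by_cases h1 : img Ω t x = 1
    · rcases h.img_one hK ht h1 with e | e <;> rw [e]
      · exact one_mul 1
      · exact ht.1
    · exact h.central_lifts hi2 hin hi hK hab hz ht htP (hM2 _ hx) h1
  have hAc : Nat.card A = 2 * i := by
    let f : A →* M := (img Ω t).subgroupComap M
    have hsur : Function.Surjective f := fun y => by
      obtain ⟨x, hx⟩ := img_surjective (Ω := Ω) t y.1
      exact ⟨⟨x, by rw [hA, Subgroup.mem_comap, hx]; exact y.2⟩, Subtype.ext hx⟩
    have hker : Nat.card f.ker = 2 := by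
      rw [Nat.card_eq_two_iff' (1 : f.ker)]
      refine ⟨⟨⟨⟨t, mem_centralizer_singleton_iff.2 rfl⟩, by
        rw [hA, Subgroup.mem_comap, h.img_self hK]; exact M.one_mem⟩, Subtype.ext (h.img_self hK)⟩,
        fun e => ht.2.1 (congrArg (fun y : f.ker => y.1.1.1) e), fun y hy => ?_⟩
      rcases h.img_one hK ht (c := y.1.1) (congrArg Subtype.val (MonoidHom.mem_ker.1 y.2)) with e | e
      · exact absurd (Subtype.ext (Subtype.ext (Subtype.ext e))) hy
      · exact Subtype.ext (Subtype.ext (Subtype.ext e))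
    have hmul := f.ker.card_mul_index
    rw [Subgroup.index_ker, hker, MonoidHom.range_eq_top.2 hsur, Subgroup.card_top, hMc, hi t ht] at hmul
    exact hmul.symm
  have hAd : ∀ x : A, x ≠ 1 → x.1.1 ∈ doubles G Ω := fun x hx =>
    h.central_all hi2 hin hi hK hab hz hzd (hAsq _ x.2) fun e => hx (Subtype.ext (Subtype.ext e))
  have hAcomm : ∀ x y : A, x.1.1 * y.1.1 = y.1.1 * x.1.1 := fun x y => by
    calc x.1.1 * y.1.1 = (x.1.1 * y.1.1)⁻¹ := (inv_eq_of_mul_eq_one_right (hAsq _ (A.mul_mem x.2 y.2))).symm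
      _ = y.1.1 * x.1.1 := by rw [mul_inv_rev, inv_eq_of_mul_eq_one_right (hAsq _ x.2),
        inv_eq_of_mul_eq_one_right (hAsq _ y.2)]
  -- different elements have no common fixed point
  have hdisj : ∀ s x : A, s ≠ 1 → x ≠ 1 → x ≠ s → ∀ p : Ω, s.1.1 • p = p → x.1.1 • p = p → False := by
    intro s x hs hx hxs p hsp hxp
    have hsd := hAd s hs
    set u := s.1.1 with hu
    let g : A →* imgGroup Ω u := (img Ω u).comp
      ((C.subtype.comp A.subtype).codRestrict (centralizer ({u} : Set G))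
        fun y => mem_centralizer_singleton_iff.2 (hAcomm y s))
    have hgker : Nat.card g.ker ≤ 2 := by
      have hsub : ∀ y : g.ker, y.1 = 1 ∨ y.1 = s := fun y =>
        (h.img_one hK hsd y.2).imp (fun e => Subtype.ext (Subtype.ext e)) fun e => Subtype.ext (Subtype.ext e)
      haveI := Fintype.ofFinite g.ker
      rw [Nat.card_eq_fintype_card, ← Finset.card_univ]
      exact le_trans (Finset.card_le_card_of_injOn (fun y : g.ker => y.1) (t := ({1, s} : Finset A))
        (fun y _ => by simpa using hsub y) fun y _ y' _ e => Subtype.ext e) Finset.card_le_two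
    have hgrange : i ≤ Nat.card g.range := by
      have hmul := g.ker.card_mul_index
      rw [Subgroup.index_ker, hAc] at hmul
      by_contra hh
      have := Nat.mul_le_mul hgker (le_refl (Nat.card g.range))
      omega
    have hHu := h.half_cent hK hsd
    obtain ⟨k', hk'2, hk'i, hk'⟩ := hHu.exists_k
    have hsqi' := hHu.card_eq_sq hk'2 hk'i hk' (hO u hsd)
    rw [hi u hsd] at hsqi'
    have hkk : k' = k := Nat.mul_self_inj.1 (by rw [← hsqi', hsqi])
    -- no image has two fixed points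
    have hoth : ∀ y : A, g y ≠ 1 → g y ∈ others (imgGroup Ω u) ↥(fixedBy Ω u) := by
      intro y hy
      refine (mem_doubles_or_others (by rw [← map_mul, ← map_one g]; exact congrArg g (Subtype.ext (Subtype.ext (hAsq _ y.2)))) hy).resolve_left
        fun hd => ?_
      set w := g y with hw
      have hle : g.range ≤ centralizer ({w} : Set (imgGroup Ω u)) := by
        rintro _ ⟨y', rfl⟩
        refine mem_centralizer_singleton_iff.2 ?_
        rw [hw, ← map_mul, ← map_mul]
        exact congrArg g (Subtype.ext (Subtype.ext (hAcomm y' y)))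
      have hsharp := hHu.cent_sharp hd
      set ψ := restrictHom (centralizer ({w} : Set (imgGroup Ω u))) (fixedBy ↥(fixedBy Ω u) w) (hHu.cent_maps w)
      have hcardC : Nat.card (centralizer ({w} : Set (imgGroup Ω u))) ≤ 2 * (k * (k - 1)) := by
        have hmul := ψ.ker.card_mul_index
        rw [Subgroup.index_ker, hsharp.card_eq, hk' w hd, hkk] at hmul
        rw [← hmul]
        refine Nat.mul_le_mul_right _ ?_
        haveI := Fintype.ofFinite ψ.ker
        rw [Nat.card_eq_fintype_card, ← Finset.card_univ]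
        exact le_trans (Finset.card_le_card_of_injOn (fun y : ψ.ker => (y.1 : imgGroup Ω u))
          (t := ({1, w} : Finset (imgGroup Ω u)))
          (fun y _ => by simpa using hHu.fix_sub hd ((restrictHom_eq_one _).1 y.2))
          fun y _ y' _ e => Subtype.ext (Subtype.ext e)) Finset.card_le_two
      have hdvd : Nat.card g.range ∣ Nat.card (centralizer ({w} : Set (imgGroup Ω u))) :=
        Subgroup.card_dvd_of_le hle
      obtain ⟨j, hj⟩ := hdvd
      have hpos : 0 < Nat.card (centralizer ({w} : Set (imgGroup Ω u))) := Nat.card_pos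
      rcases j with _ | _ | j
      · rw [mul_zero] at hj; omega
      · rw [zero_add, mul_one] at hj
        obtain ⟨p', q', hpq', hp', hq'⟩ := exists_two_fixed hd
        -- the sharp image has a non-trivial stabiliser of odd order
        have hst := hsharp.card_stabilizer ⟨p', hp'⟩
        rw [hk' w hd, hkk] at hst
        have e : g.range = centralizer ({w} : Set (imgGroup Ω u)) :=
          Subgroup.eq_of_le_of_card_ge hle (by omega)
        have hone : ∀ r ∈ stabilizer ψ.range (⟨p', hp'⟩ : fixedBy ↥(fixedBy Ω u) w), r = 1 := by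
          intro r hr
          obtain ⟨c, rfl⟩ := ψ.rangeRestrict_surjective r
          obtain ⟨y', hy'⟩ := (e.symm ▸ c.2 : c.1 ∈ g.range)
          by_contra hne
          refine hsharp.free_of_even (by rw [hk' w hd, hkk]; exact hkeven) ?_ hne _ hr
          rw [← map_mul, ← map_one ψ.rangeRestrict]
          refine congrArg _ (Subtype.ext ?_)
          show c.1 * c.1 = 1
          rw [← hy', ← map_mul, ← map_one g]
          exact congrArg g (Subtype.ext (Subtype.ext (hAsq _ y'.2)))
        rw [(Subgroup.eq_bot_iff_forall _).2 hone, Subgroup.card_bot] at hst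
        omega
      · have : Nat.card g.range * 2 ≤ Nat.card g.range * (j + 1 + 1) := Nat.mul_le_mul_left _ (by omega)
        have h1 : 2 * i ≤ 2 * (k * (k - 1)) := by omega
        rw [hsqi] at h1
        have h2 := Nat.le_of_mul_le_mul_left (Nat.le_of_mul_le_mul_left h1 (by norm_num)) (by omega : 0 < k)
        omega
    have hgx : g x ≠ 1 := fun e => by
      rcases h.img_one hK hsd e with e' | e'
      · exact hx (Subtype.ext (Subtype.ext e'))
      · exact hxs (Subtype.ext (Subtype.ext e'))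
    have hkeven' : Even k' := hkk ▸ hkeven
    exact hHu.others_free hk'2 hk'i hk' (hO u hsd) hkeven' (hoth x hgx) ⟨p, hsp⟩ (Subtype.ext hxp)
  -- the count
  have hsum : (2 * i - 1) * i ≤ Nat.card Ω := by
    haveI := Fintype.ofFinite A
    let F : (Σ s : {s : A // s ≠ 1}, fixedBy Ω s.1.1.1) → Ω := fun q => q.2.1
    have hF : Function.Injective F := by
      rintro ⟨s, p⟩ ⟨s', p'⟩ e
      change p.1 = p'.1 at e
      obtain rfl : s = s' := by
        by_contra hne
        exact hdisj s.1 s'.1 s.2 s'.2 (fun e' => hne (Subtype.ext e'.symm)) p.1 p.2 (e ▸ p'.2)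
      obtain rfl : p = p' := Subtype.ext e
      rfl
    have hle := Nat.card_le_card_of_injective F hF
    rw [Nat.card_sigma, Finset.sum_congr rfl fun s _ => hi _ (hAd (s : {s : A // s ≠ 1}).1 s.2), Finset.sum_const,
      Finset.card_univ, smul_eq_mul, Fintype.card_subtype_compl, Fintype.card_subtype_eq,
      ← Nat.card_eq_fintype_card, hAc] at hle
    exact hle
  have hi1 : i ≤ i * i := Nat.le_mul_self i
  have h4 : 2 * i ≤ i * i := Nat.mul_le_mul_right i hi2
  rw [Nat.sub_mul, one_mul, mul_assoc] at hsum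
  rw [Nat.mul_sub i i 1, mul_one] at hcount
  omega

end TwoA4

end Cfsg.Lib.TwoPointFour
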