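import Cfsg.Agent.TwoPointFour.CaseTwo

/-!
The degrees twenty, forty-six and one thousand and thirty-six (row 3219).
-/

set_option autoImplicit false
set_option linter.unusedSectionVars false
set_option linter.style.haveILetI false

namespace Cfsg.Lib.TwoPointFour

open MulAction Subgroup Equiv Cfsg.Lib.TwoPointFive

universe u v

variable {G : Type u} {Ω : Type v} [Group G] [Finite G] [Finite Ω] [MulAction G Ω]

set_option maxRecDepth 100000 in
theorem divisors_12 : ∀ d ∈ (12 : ℕ).divisors, d % 19 = 1 → d = 1 := by decide +kernel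

set_option maxRecDepth 100000 in
theorem divisors_540 : ∀ d ∈ (540 : ℕ).divisors, d % 23 = 1 → d = 1 := by decide +kernel

set_option maxRecDepth 100000 in
theorem divisors_1080 : ∀ d ∈ (1080 : ℕ).divisors, d % 23 = 1 → 5 ∣ 24840 / d := by decide +kernel

/-- A unique Sylow subgroup of prime order in a point stabiliser. -/
theorem cyclic_normal (a : Ω) {p m : ℕ} (hp : p.Prime) (hc : Nat.card (stabilizer G a) = p * m) (hpm : ¬ p ∣ m)
    (hone : ∀ d ∈ m.divisors, d % p = 1 → d = 1) :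
    ∃ f : G, orderOf f = p ∧ f • a = a ∧ ∀ x ∈ stabilizer G a, x * f * x⁻¹ ∈ zpowers f := by
  classical
  haveI := Fact.mk hp
  obtain ⟨f, hf⟩ := exists_prime_orderOf_dvd_card' (G := stabilizer G a) p (by rw [hc]; exact dvd_mul_right p m)
  obtain ⟨Q, hQ⟩ := (IsPGroup.of_card (n := 1) (by rw [Nat.card_zpowers, hf, pow_one]) :
    IsPGroup p (zpowers f)).exists_le_sylow
  have hQc : Nat.card (Q : Subgroup (stabilizer G a)) = p := by
    obtain ⟨j, hj⟩ := IsPGroup.iff_card.1 Q.2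
    have h1 := Subgroup.card_le_of_le hQ
    rw [Nat.card_zpowers, hf] at h1
    have h2 := Subgroup.card_subgroup_dvd_card (Q : Subgroup (stabilizer G a))
    rw [hc, hj] at h2
    rcases j with _ | _ | j
    · rw [pow_zero] at hj; have := hp.two_le; omega
    · exact hj.trans (pow_one p)
    · exact absurd ((Nat.mul_dvd_mul_iff_left hp.pos).1
        ((show p * p ∣ p ^ (j + 1 + 1) from ⟨p ^ j, by ring⟩).trans h2)) hpm
  have hidx : (Q : Subgroup (stabilizer G a)).index = m := by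
    have h2 := (Q : Subgroup (stabilizer G a)).card_mul_index
    rw [hQc, hc] at h2
    exact Nat.eq_of_mul_eq_mul_left hp.pos h2
  have hcard : Nat.card (Sylow p (stabilizer G a)) = 1 := by
    refine hone _ (Nat.mem_divisors.2 ⟨hidx ▸ Q.card_dvd_index, fun e => hpm (e ▸ dvd_zero p)⟩) ?_
    have := card_sylow_modEq_one p (stabilizer G a)
    unfold Nat.ModEq at this
    rwa [Nat.mod_eq_of_lt hp.one_lt] at this
  haveI : Subsingleton (Sylow p (stabilizer G a)) := (Nat.card_eq_one_iff_unique.1 hcard).1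
  haveI := Q.normal_of_subsingleton
  have hQe : zpowers f = (Q : Subgroup (stabilizer G a)) :=
    Subgroup.eq_of_le_of_card_ge hQ (by rw [hQc, Nat.card_zpowers, hf])
  refine ⟨f.1, by rw [Subgroup.orderOf_coe, hf], f.2, fun x hx => ?_⟩
  have := Normal.conj_mem (inferInstance : (Q : Subgroup (stabilizer G a)).Normal) f (hQe ▸ mem_zpowers f) ⟨x, hx⟩
  rw [← hQe] at this
  obtain ⟨j, hj⟩ := mem_zpowers_iff.1 this
  exact ⟨j, by simpa using congrArg Subtype.val hj⟩

namespace TwoA4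

variable (h : TwoA4 G Ω)
include h

/-- An involution of the two-point stabiliser centralises the cyclic groups normalised by it. -/
theorem invol_cent_cyclic {a b : Ω} (hab : a ≠ b) {f : G}
    (hn : ∀ c ∈ stabilizer G a ⊓ stabilizer G b, c * f * c⁻¹ ∈ zpowers f) {x : G}
    (hx : x ∈ stabilizer G a ⊓ stabilizer G b) (hx2 : x * x = 1) (hx1 : x ≠ 1) : x * f = f * x := by
  obtain ⟨hsq, h4⟩ := h.pair_cent hab hx hx2 hx1
  set V := (stabilizer G a ⊓ stabilizer G b) ⊓ centralizer ({x} : Set G)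
  obtain ⟨y, hy, hy1, hyx⟩ : ∃ y ∈ V, y ≠ 1 ∧ y ≠ x := by
    by_contra! hh
    have hsub : (V : Set G) ⊆ {1, x} := fun y hy => by
      by_cases hy1 : y = 1
      · exact Or.inl hy1
      · exact Or.inr (hh y hy hy1)
    have h2 : Nat.card V ≤ 2 := by
      calc Nat.card V = (V : Set G).ncard := Nat.card_coe_set_eq _
        _ ≤ ({1, x} : Set G).ncard := Set.ncard_le_ncard hsub (Set.toFinite _)
        _ ≤ 2 := (Set.ncard_insert_le _ _).trans (by rw [Set.ncard_singleton])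
    omega
  obtain ⟨e, he⟩ := mem_zpowers_iff.1 (hn x hx)
  have key : ∀ c ∈ stabilizer G a ⊓ stabilizer G b, c * x * c⁻¹ * f * (c * x * c⁻¹)⁻¹ = f ^ e := by
    intro c hc
    obtain ⟨d, hd⟩ := mem_zpowers_iff.1 (hn c⁻¹ (inv_mem hc))
    calc c * x * c⁻¹ * f * (c * x * c⁻¹)⁻¹ = c * (x * (c⁻¹ * f * c⁻¹⁻¹) * x⁻¹) * c⁻¹ := by group
      _ = c * (f ^ e) ^ d * c⁻¹ := by rw [← hd, ← conj_zpow, he]
      _ = c * (f ^ d) ^ e * c⁻¹ := by rw [← zpow_mul, ← zpow_mul, mul_comm]
      _ = (c * f ^ d * c⁻¹) ^ e := by rw [conj_zpow]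
      _ = f ^ e := by rw [hd]; group
  have hyc : y * x = x * y := mem_centralizer_singleton_iff.1 hy.2
  have hxy : x * y ∈ stabilizer G a ⊓ stabilizer G b := mul_mem hx hy.1
  have hy2 : y * y = 1 := hsq y hy.1 hyc
  have hxy2 : x * y * (x * y) = 1 := by
    rw [show x * y * (x * y) = x * (y * x) * y by group, hyc, show x * (x * y) * y = x * x * (y * y) by group, hx2,
      hy2, one_mul]
  have hxy1 : x * y ≠ 1 := fun e => hyx (by rw [← inv_eq_of_mul_eq_one_right e, inv_eq_of_mul_eq_one_right hx2])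
  obtain ⟨c, hc, hcy⟩ := h.pair_invol_conj hab hx hy.1 hx2 hy2 hx1 hy1
  obtain ⟨c', hc', hcy'⟩ := h.pair_invol_conj hab hx hxy hx2 hxy2 hx1 hxy1
  have ey := key c hc
  rw [hcy] at ey
  have exy := key c' hc'
  rw [hcy'] at exy
  have hff : (f ^ e) ^ e = f ^ e := by
    calc (f ^ e) ^ e = (x * f * x⁻¹) ^ e := by rw [he]
      _ = x * (f ^ e) * x⁻¹ := conj_zpow
      _ = x * (y * f * y⁻¹) * x⁻¹ := by rw [ey]
      _ = x * y * f * (x * y)⁻¹ := by group
      _ = f ^ e := exy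
  have hfe : (f ^ e) ^ e = f := by
    calc (f ^ e) ^ e = (x * f * x⁻¹) ^ e := by rw [he]
      _ = x * (x * f * x⁻¹) * x⁻¹ := by rw [conj_zpow, ← he]
      _ = x * x * f * (x * x)⁻¹ := by group
      _ = f := by rw [hx2]; group
  rw [hff] at hfe
  exact mul_inv_eq_iff_eq_mul.1 (he.symm.trans hfe)

/-- A normal cyclic subgroup of large prime order puts the orbit of a second point into the fixed points. -/
theorem cycle_le_fixed {a b : Ω} (hab : a ≠ b) {p : ℕ} (hp : p.Prime) (hp12 : ¬ p ∣ 12) {f : G}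
    (hf : orderOf f = p) (hfa : f • a = a) {Fx : Set Ω} (hb : b ∈ Fx) (hmap : ∀ q ∈ Fx, ∀ g ∈ zpowers f, g • q ∈ Fx) :
    p ≤ Nat.card Fx := by
  rw [← hf, ← Nat.card_zpowers]
  refine Nat.card_le_card_of_injective (fun g : zpowers f => (⟨g.1 • b, hmap b hb g.1 g.2⟩ : Fx)) fun g g' e => ?_
  have e' : g.1 • b = g'.1 • b := congrArg Subtype.val e
  have hzz : zpowers f ≤ stabilizer G a := zpowers_le.2 hfa
  by_contra hne
  have hmem : g'.1⁻¹ * g.1 ∈ stabilizer G a ⊓ stabilizer G b :=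
    ⟨(stabilizer G a).mul_mem ((stabilizer G a).inv_mem (hzz g'.2)) (hzz g.2), show (g'.1⁻¹ * g.1) • b = b by rw [mul_smul, inv_smul_eq_iff, e']⟩
  have hne1 : g'.1⁻¹ * g.1 ≠ 1 := fun e1 => hne (Subtype.ext (inv_mul_eq_one.1 e1).symm)
  have h1 : orderOf (g'.1⁻¹ * g.1) ∣ p := by
    have := Subgroup.orderOf_dvd_natCard (zpowers f) (mul_mem (inv_mem g'.2) g.2)
    rwa [Nat.card_zpowers, hf] at this
  have h2 : orderOf (g'.1⁻¹ * g.1) ∣ 12 := h.card_pair hab ▸ Subgroup.orderOf_dvd_natCard _ hmem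
  rcases (Nat.dvd_prime hp).1 h1 with e1 | e1
  · exact hne1 (orderOf_eq_one_iff.1 e1)
  · exact hp12 (e1 ▸ h2)

variable {i : ℕ} (hi2 : 2 ≤ i) (hin : i < Nat.card Ω)
  (hi : ∀ u ∈ doubles G Ω, Nat.card (fixedBy Ω u) = i)
include hi2 hin hi

omit hi2 hin in
theorem not_twenty (hn : Nat.card Ω = 20) (hi4 : i = 4) : False := by
  haveI := h.nontrivial
  obtain ⟨a, b, hab⟩ := exists_pair_ne Ω
  obtain ⟨t, ht, htP⟩ := h.exists_double hab
  obtain ⟨f, hf, hfa, hfn⟩ := cyclic_normal (G := G) a (p := 19) (m := 12) (by norm_num)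
    (by rw [h.card_stab, hn]) (by norm_num) divisors_12
  have hc := h.invol_cent_cyclic hab (fun c hc => hfn c hc.1) htP ht.1 ht.2.1
  have := h.cycle_le_fixed hab (by norm_num) (by norm_num) hf hfa (Fx := fixedBy Ω t) htP.2 fun q hq g hg => by
    obtain ⟨l, rfl⟩ := mem_zpowers_iff.1 hg
    exact fixed_maps t _ (mem_centralizer_singleton_iff.2 ((show Commute t f from hc).zpow_right l).eq.symm) q hq
  rw [hi t ht] at this
  omega

omit hi2 hin in
theorem not_ten_thirty_six (hn : Nat.card Ω = 1036) (hK : ∀ u ∈ doubles G Ω, ∀ g ∈ kerOf Ω u, g = 1 ∨ g = u)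
    {k : ℕ} (hk4 : k ≤ 4) (hk : ∀ u ∈ doubles G Ω, ∀ w ∈ doubles (imgGroup Ω u) ↥(fixedBy Ω u),
      Nat.card (fixedBy ↥(fixedBy Ω u) w) ≤ k) : False := by
  haveI := h.nontrivial
  obtain ⟨a, b, hab⟩ := exists_pair_ne Ω
  obtain ⟨t, ht, htP⟩ := h.exists_double hab
  obtain ⟨f, hf, hfa, hfn⟩ := cyclic_normal (G := G) a (p := 23) (m := 540) (by norm_num)
    (by rw [h.card_stab, hn]) (by norm_num) divisors_540
  obtain ⟨hsq, h4⟩ := h.pair_cent hab htP ht.1 ht.2.1
  set V := (stabilizer G a ⊓ stabilizer G b) ⊓ centralizer ({t} : Set G) with hV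
  obtain ⟨w, hw, hw1, hwt⟩ : ∃ w ∈ V, w ≠ 1 ∧ w ≠ t := by
    by_contra! hh
    have hsub : (V : Set G) ⊆ {1, t} := fun y hy => by
      by_cases hy1 : y = 1
      · exact Or.inl hy1
      · exact Or.inr (hh y hy hy1)
    have h2 : Nat.card V ≤ 2 := by
      calc Nat.card V = (V : Set G).ncard := Nat.card_coe_set_eq _
        _ ≤ ({1, t} : Set G).ncard := Set.ncard_le_ncard hsub (Set.toFinite _)
        _ ≤ 2 := (Set.ncard_insert_le _ _).trans (by rw [Set.ncard_singleton])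
    omega
  have hw2 : w * w = 1 := hsq w hw.1 (mem_centralizer_singleton_iff.1 hw.2)
  have hct := h.invol_cent_cyclic hab (fun c hc => hfn c hc.1) htP ht.1 ht.2.1
  have hcw := h.invol_cent_cyclic hab (fun c hc => hfn c hc.1) hw.1 hw2 hw1
  set ρ := img Ω t ⟨w, hw.2⟩
  have hρ : ρ ∈ doubles (imgGroup Ω t) ↥(fixedBy Ω t) := ⟨img_sq t hw2, h.img_ne hK ht hw1 hwt,
    two_le_fixed (a := (⟨a, htP.1⟩ : fixedBy Ω t)) (b := ⟨b, htP.2⟩) (fun e => hab (congrArg Subtype.val e))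
      (Subtype.ext hw.1.1) (Subtype.ext hw.1.2)⟩
  have hmap : ∀ q ∈ {q : Ω | t • q = q ∧ w • q = q}, ∀ g ∈ zpowers f, g • q ∈ {q : Ω | t • q = q ∧ w • q = q} := by
    rintro q ⟨hq, hq'⟩ g hg
    obtain ⟨l, rfl⟩ := mem_zpowers_iff.1 hg
    exact ⟨by rw [smul_smul, ((show Commute t f from hct).zpow_right l).eq, mul_smul, hq],
      by rw [smul_smul, ((show Commute w f from hcw).zpow_right l).eq, mul_smul, hq']⟩
  have h1 := h.cycle_le_fixed hab (by norm_num) (by norm_num) hf hfa (Fx := {q : Ω | t • q = q ∧ w • q = q})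
    ⟨htP.2, hw.1.2⟩ hmap
  have h2 : Nat.card {q : Ω | t • q = q ∧ w • q = q} ≤ Nat.card (fixedBy ↥(fixedBy Ω t) ρ) :=
    Nat.card_le_card_of_injective (fun q => ⟨⟨q.1, q.2.1⟩, Subtype.ext q.2.2⟩)
      fun q q' e => Subtype.ext (congrArg (fun y : fixedBy ↥(fixedBy Ω t) ρ => y.1.1) e)
  have := hk t ht ρ hρ
  omega

omit hi2 hin hi in
theorem not_forty_six (hn : Nat.card Ω = 46) : False := by
  classical
  haveI := h.nontrivial
  haveI : Fact (Nat.Prime 23) := ⟨by norm_num⟩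
  haveI : Fact (Nat.Prime 5) := ⟨by norm_num⟩
  have hG : Nat.card G = 24840 := by rw [h.card_G, hn]
  obtain ⟨Q⟩ := (inferInstance : Nonempty (Sylow 23 G))
  have hQ : Nat.card (Q : Subgroup G) = 23 := by
    obtain ⟨j, hj⟩ := IsPGroup.iff_card.1 Q.2
    have h1 := Q.dvd_card_of_dvd_card (show 23 ∣ Nat.card G by rw [hG]; norm_num)
    have h2 := Subgroup.card_subgroup_dvd_card (Q : Subgroup G)
    rw [hG, hj] at h2
    rw [hj] at h1
    rcases j with _ | _ | j
    · norm_num at h1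
    · exact hj.trans (pow_one 23)
    · have h3 : 23 * 23 ∣ 24840 := (Dvd.intro (23 ^ j) (by ring)).trans h2
      norm_num at h3
  obtain ⟨f, hf⟩ := exists_prime_orderOf_dvd_card' (G := (Q : Subgroup G)) 23 (by rw [hQ])
  rw [← Subgroup.orderOf_coe] at hf
  have hfree : ∀ p : Ω, f.1 • p ≠ p := fun p hp => by
    have h1 : orderOf f.1 ∣ Nat.card (stabilizer G p) := Subgroup.orderOf_dvd_natCard _ (hp : f.1 ∈ stabilizer G p)
    rw [hf, h.card_stab, hn] at h1
    norm_num at h1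
  set N := normalizer ((Q : Subgroup G) : Set G) with hN
  set ψ := (Q : Subgroup G).normalizerMonoidHom
  have hrange : Nat.card ψ.range ∣ 22 := by
    haveI : IsCyclic ↥(Q : Subgroup G) := isCyclic_of_prime_card hQ
    have := Subgroup.card_subgroup_dvd_card ψ.range
    rwa [IsCyclic.card_mulAut, hQ, Nat.totient_prime (by norm_num)] at this
  have hsyl : Nat.card (Sylow 23 G) = N.index := Q.card_eq_index_normalizer
  have hmem : Nat.card (Sylow 23 G) ∈ (1080 : ℕ).divisors := by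
    have h1 := Q.card_dvd_index
    have h2 := (Q : Subgroup G).card_mul_index
    rw [hQ, hG] at h2
    rw [show (Q : Subgroup G).index = 1080 by omega] at h1
    exact Nat.mem_divisors.2 ⟨h1, by norm_num⟩
  have h5 := divisors_1080 _ hmem (by
    have := card_sylow_modEq_one 23 G
    unfold Nat.ModEq at this
    omega)
  have hidx := N.card_mul_index
  rw [← hsyl, hG] at hidx
  rw [← hidx, Nat.mul_div_cancel _ Nat.card_pos] at h5
  obtain ⟨x, hx⟩ := exists_prime_orderOf_dvd_card' (G := N) 5 h5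
  have hψx : ψ x = 1 := by
    have h1 : orderOf (ψ x) ∣ 5 := hx ▸ orderOf_map_dvd ψ x
    have h2 : orderOf (ψ x) ∣ 22 := (Subgroup.orderOf_dvd_natCard ψ.range ⟨x, rfl⟩).trans hrange
    have h3 := Nat.dvd_gcd h1 h2
    rw [show Nat.gcd 5 22 = 1 from rfl] at h3
    exact orderOf_eq_one_iff.1 (Nat.dvd_one.1 h3)
  have hcomm : x.1 * f.1 = f.1 * x.1 := by
    have h1 : ψ x f = f := by rw [hψx]; rfl
    exact mul_inv_eq_iff_eq_mul.1 (congrArg Subtype.val h1)
  rw [← Subgroup.orderOf_coe] at hx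
  obtain ⟨p, hp⟩ := (IsPGroup.of_card (p := 5) (n := 1) (by rw [Nat.card_zpowers, hx, pow_one]) :
    IsPGroup 5 (zpowers x.1)).nonempty_fixed_point_of_prime_not_dvd_card Ω (by rw [hn]; norm_num)
  have hxp : x.1 • p = p := hp ⟨x.1, mem_zpowers _⟩
  have hmem' : x.1 ∈ stabilizer G p ⊓ stabilizer G (f.1 • p) :=
    ⟨hxp, show x.1 • f.1 • p = f.1 • p by rw [smul_smul, hcomm, mul_smul, hxp]⟩
  have := Subgroup.orderOf_dvd_natCard _ hmem'
  rw [hx, h.card_pair (hfree p).symm] at this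
  norm_num at this

end TwoA4

end Cfsg.Lib.TwoPointFour
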