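import Cfsg.Agent.TwoPointFour.CaseOne
import Cfsg.Agent.TwoPointFive.Dihedral

/-!
The symmetric case: six points, and a dihedral Sylow 2-subgroup (row 3219).
-/

set_option autoImplicit false
set_option linter.unusedSectionVars false
set_option linter.style.haveILetI false

namespace Cfsg.Lib.TwoPointFour

open MulAction Subgroup Equiv Matrix Cfsg.Lib.TwoPointFive
open scoped MatrixGroups

universe u v

variable {G : Type u} {Ω : Type v} [Group G] [Finite G] [Finite Ω] [MulAction G Ω]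

namespace TwoA4

variable (h : TwoA4 G Ω) {i : ℕ} (hi2 : 2 ≤ i) (hin : i < Nat.card Ω)
  (hi : ∀ u ∈ doubles G Ω, Nat.card (fixedBy Ω u) = i)
include h hi2 hin hi

/-- An odd number of fixed points and a dihedral Sylow 2-subgroup leave only the alternating group of degree seven. -/
theorem dihedral_end {a b : Ω} (hab : a ≠ b) (hS : ∀ z : G, ¬ IsCentral a b z) (hodd : Odd i) (S : Sylow 2 G) {m : ℕ}
    (hm : 2 ≤ m) (hD : Nonempty ((S : Subgroup G) ≃* DihedralGroup m))
    (hnp : ∀ p j : ℕ, p.Prime → Nat.card Ω ≠ p ^ j)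
    (hsq : ∀ t ∈ doubles G Ω, ∀ g : G, g * t = t * g → (∀ p : Ω, t • p = p → g • p = p) → g * g = 1) :
    Nat.card G ∣ 5040 ∧ (Nat.card G = 2520 → Nat.card Ω = 15 ∧ Nonempty (G ≃* alternatingGroup (Fin 7))) := by
  obtain ⟨-, hall, hts, -⟩ := h.sType_facts hi2 hin hi hab hS
  obtain ⟨N₀, hN₀, hdih, -, hc₀⟩ := Cfsg.Lib.GWD.almost_simple_of (Cfsg.Lib.GWD.dihedralProp.below _) S hm hD
    (h.not_solvable hnp)
  haveI := hN₀
  set π : G →* G ⧸ Cfsg.oddCore G := QuotientGroup.mk' _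
  have hinj : Function.Injective π := (MonoidHom.ker_eq_bot_iff π).1 (by
    rw [QuotientGroup.ker_mk']; exact h.oddCore_bot hnp)
  have hsur : Function.Surjective π := QuotientGroup.mk'_surjective _
  set N : Subgroup G := N₀.comap π
  haveI hNn : N.Normal := hN₀.comap π
  let fN : ↥N →* ↥N₀ :=
    { toFun := fun x => ⟨π x.1, x.2⟩
      map_one' := Subtype.ext (map_one π)
      map_mul' := fun x y => Subtype.ext (map_mul π x.1 y.1) }
  let eN : ↥N ≃* ↥N₀ := MulEquiv.ofBijective fN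
    ⟨fun x y e => Subtype.ext (hinj (Subtype.ext_iff.1 e)),
      fun y => (hsur y.1).elim fun x hx => ⟨⟨x, show π x ∈ N₀ by rw [hx]; exact y.2⟩, Subtype.ext hx⟩⟩
  have hcN : centralizer (N : Set G) = ⊥ := (Subgroup.eq_bot_iff_forall _).2 fun x hx => hinj (by
    rw [map_one]
    refine Subgroup.mem_bot.1 (hc₀ ▸ mem_centralizer_iff.2 fun y hy => ?_)
    obtain ⟨y', rfl⟩ := hsur y
    rw [← map_mul, ← map_mul, mem_centralizer_iff.1 hx y' hy])
  obtain ⟨t, ht, htP⟩ := h.exists_double hab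
  obtain ⟨-, τ, hτ, hτs, hτt, w, hwP, hw2, hw1, hwt, hwc, hτw⟩ := hts t htP ht.1 ht.2.1
  obtain ⟨r, hr_def⟩ : ∃ r, r = τ * w := ⟨_, rfl⟩
  have hrr : r * r = t := by
    calc r * r = τ * w * τ⁻¹ * w := by rw [inv_eq_of_mul_eq_one_right hτ.1, hr_def]; group
      _ = w * t * w := by rw [hτw]
      _ = t := by rw [mul_assoc, ← hwc, ← mul_assoc, hw2, one_mul]
  have hrt : r * t = t * r := by rw [← hrr, mul_assoc]
  rcases hdih.congr eN with ⟨F, iF, iF', hFodd, -, ⟨e⟩⟩ | ⟨⟨e⟩⟩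
  · -- the linear groups
    exfalso
    have hNinv : ∀ u ∈ doubles G Ω, u ∈ N := by
      have heven : ∃ u : G, u ∈ N ∧ u * u = 1 ∧ u ≠ 1 := by
        have hJ := Cfsg.Lib.FourGW.orderOf_πJ (F := F) hFodd
        obtain ⟨x, hx⟩ := e.surjective (Cfsg.Lib.Classical.PSLFour.π (Cfsg.Lib.Classical.PSLFour.J (F := F)))
        rw [← hx, MulEquiv.orderOf_eq, ← Subgroup.orderOf_coe] at hJ
        exact ⟨x.1, x.2, InvolCalc.sq_of_order_two hJ, InvolCalc.ne_one_of_order_two hJ⟩
      obtain ⟨u₀, hu₀N, hu₀, hu₀1⟩ := heven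
      intro u hu
      obtain ⟨g, rfl⟩ := h.doubles_conj (hall u₀ hu₀ hu₀1) hu
      exact hNn.conj_mem u₀ hu₀N g
    have htN : t ∈ N := hNinv t ht
    have hrN : r ∈ N := hr_def ▸ N.mul_mem (hNinv τ hτ) (hNinv w ⟨hw2, hw1, two_le_fixed hab hwP.1 hwP.2⟩)
    have hr2 : r * r ≠ 1 := by rw [hrr]; exact ht.2.1
    set C := centralizer ({t} : Set G) with hC
    set A := closure {x : G | x ∈ N ∧ x ∈ C ∧ x * x ≠ 1} with hA
    have hcomm : ∀ x ∈ A, ∀ y ∈ A, x * y = y * x := by
      have h0 : ∀ x, (x ∈ N ∧ x ∈ C ∧ x * x ≠ 1) → ∀ y, (y ∈ N ∧ y ∈ C ∧ y * y ≠ 1) → x * y = y * x := by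
        rintro x ⟨hx, hxC, hx2⟩ y ⟨hy, hyC, hy2⟩
        have hh : e ⟨x, hx⟩ * e ⟨y, hy⟩ = e ⟨y, hy⟩ * e ⟨x, hx⟩ := by
          refine psl_cent_comm hFodd (t := e ⟨t, htN⟩) ?_ ?_ ?_ ?_ ?_
          · rw [MulEquiv.orderOf_eq, ← Subgroup.orderOf_coe]
            exact InvolCalc.order_two_of_mul_self ht.1 ht.2.1
          · rw [← map_mul, ← map_mul]; exact congrArg e (Subtype.ext (mem_centralizer_singleton_iff.1 hxC))
          · rw [← map_mul, ← map_mul]; exact congrArg e (Subtype.ext (mem_centralizer_singleton_iff.1 hyC))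
          · rw [← map_mul, ← map_one e]; exact fun e' => hx2 (congrArg Subtype.val (e.injective e'))
          · rw [← map_mul, ← map_one e]; exact fun e' => hy2 (congrArg Subtype.val (e.injective e'))
        rw [← map_mul, ← map_mul] at hh
        exact congrArg Subtype.val (e.injective hh)
      intro x hx y hy
      have h1 : A ≤ centralizer {x : G | x ∈ N ∧ x ∈ C ∧ x * x ≠ 1} :=
        (closure_le _).2 fun z hz => mem_centralizer_iff.2 fun w hw => h0 w hw z hz
      have h2 : A ≤ centralizer (A : Set G) := (closure_le _).2 fun z hz =>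
        mem_centralizer_iff.2 fun w hw => (mem_centralizer_iff.1 (h1 hw) z hz).symm
      exact (mem_centralizer_iff.1 (h2 hy) x hx)
    have hnorm : ∀ g ∈ C, ∀ x ∈ A, g * x * g⁻¹ ∈ A := by
      intro g hg x hx
      have : A ≤ A.comap (MulAut.conj g).toMonoidHom := (closure_le _).2 fun z hz => subset_closure
        ⟨hNn.conj_mem z hz.1 g, C.mul_mem (C.mul_mem hg hz.2.1) (C.inv_mem hg), fun e' => hz.2.2 (by
          change g * z * g⁻¹ * (g * z * g⁻¹) = 1 at e'
          rw [show g * z * g⁻¹ * (g * z * g⁻¹) = g * (z * z) * g⁻¹ by group] at e'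
          exact conj_eq_one_iff.1 e')⟩
      exact this hx
    have hrA : r ∈ A := subset_closure ⟨hrN, mem_centralizer_singleton_iff.2 hrt, hr2⟩
    -- `r` fixes a point of the fixed-point set
    obtain ⟨p, hpt, hpr⟩ : ∃ p : Ω, t • p = p ∧ r • p = p := by
      let f : ↥(fixedBy Ω t) → ↥(fixedBy Ω t) := fun x =>
        ⟨r • x.1, fixed_maps t r (mem_centralizer_singleton_iff.2 hrt) x.1 x.2⟩
      haveI := Fintype.ofFinite ↥(fixedBy Ω t)
      classical
      have hf : f^[2 ^ 2] = id := by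
        funext x
        refine Subtype.ext ?_
        show r • r • r • r • x.1 = x.1
        rw [smul_smul r r, hrr, smul_smul r r, hrr, smul_smul t t, ht.1, one_smul]
      haveI : Fact (Nat.Prime 2) := ⟨Nat.prime_two⟩
      have hmod := Equiv.Perm.card_fixedPoints_modEq (p := 2) (n := 2) hf
      rw [← Nat.card_eq_fintype_card, hi t ht, Nat.ModEq, Nat.odd_iff.1 hodd] at hmod
      have hpos : 0 < Fintype.card f.fixedPoints := by
        by_contra hh
        rw [show Fintype.card f.fixedPoints = 0 by omega] at hmod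
        simp at hmod
      obtain ⟨⟨x, hx⟩⟩ := Fintype.card_pos_iff.1 hpos
      exact ⟨x.1, x.2, Subtype.ext_iff.1 hx⟩
    refine hr2 (hsq t ht r hrt fun q hqt => ?_)
    by_contra hq
    have hqp : q ≠ p := fun e' => hq (e' ▸ hpr)
    have hpp : ∀ q' : Ω, t • q' = q' → ∃ y ∈ A, y • q = q' := by
      intro q' hq'
      rcases eq_or_ne q q' with rfl | hne
      · exact ⟨1, A.one_mem, one_smul G _⟩
      · obtain ⟨g, hg, hg1, hg2⟩ := h.cent_move ht (a := q) (b := r • q) (c := q) (d := q') (Ne.symm hq) hne hqt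
          (fixed_maps t r (mem_centralizer_singleton_iff.2 hrt) q hqt) hqt hq'
        exact ⟨g * r * g⁻¹, hnorm g hg r hrA, by rw [mul_smul, inv_smul_eq_iff.2 hg1.symm, mul_smul, hg2]⟩
    obtain ⟨y, hy, hyq⟩ := hpp p hpt
    refine hq (MulAction.injective y ?_)
    show y • r • q = y • q
    rw [smul_smul, hcomm y hy r hrA, mul_smul, hyq, hpr]
  · -- the alternating group
    have hA : Nat.card (MulAut (alternatingGroup (Fin 7))) = 5040 := by
      rw [← Nat.card_congr (Equiv.ofBijective _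
        (Cfsg.Lib.SolvStruct.AltAut.conjNormal_bijective (n := 7) (by norm_num) (by norm_num))), Nat.card_perm,
        Nat.card_eq_fintype_card, Fintype.card_fin]
      rfl
    haveI : Finite (MulAut (alternatingGroup (Fin 7))) := Nat.finite_of_card_ne_zero (by rw [hA]; norm_num)
    have hdvd := Cfsg.Lib.EqualOrder.card_dvd_aut hcN e
    rw [hA] at hdvd
    refine ⟨hdvd, fun h2520 => ⟨?_, ⟨?_⟩⟩⟩
    · have h1 := h.card_G
      rw [h2520] at h1
      have : Nat.card Ω * (Nat.card Ω - 1) = 210 := by omega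
      have hle : Nat.card Ω ≤ 15 := by
        by_contra hh
        have := Nat.mul_le_mul (show 16 ≤ Nat.card Ω by omega) (show 15 ≤ Nat.card Ω - 1 by omega)
        omega
      have := h.two
      interval_cases Nat.card Ω <;> omega
    · have htop : N = ⊤ := Subgroup.eq_top_of_card_eq N (by
        rw [h2520, Nat.card_congr e.toEquiv, nat_card_alternatingGroup, Nat.card_eq_fintype_card (α := Fin 7),
          Fintype.card_fin]
        rfl)
      exact ((MulEquiv.subgroupCongr htop).trans Subgroup.topEquiv).symm.trans e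

section

variable (hK : ∀ u ∈ doubles G Ω, Nat.card (kerOf Ω u) = 4)
include hK

/-- The symmetric case forces an odd number of fixed points. -/
theorem caseOne_sym_even {a b : Ω} (hab : a ≠ b) (hS : ∀ z : G, ¬ IsCentral a b z) (heven : Even i) :
    Nat.card Ω = 6 := by
  obtain ⟨h6, -, hts, -⟩ := h.sType_facts hi2 hin hi hab hS
  obtain ⟨t, ht, htP⟩ := h.exists_double hab
  have hcount := h.eq_count hi hab h6
  rcases hi2.eq_or_lt with rfl | hi3
  · omega
  exfalso
  obtain ⟨-, τ, hτ, hτs, hτt, w, hwP, hw2, hw1, hwt, hwc, hτw⟩ := hts t htP ht.1 ht.2.1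
  have hwV : w ∈ kerOf Ω t := by
    rw [h.kerOf_eq hK ht hab htP.1 htP.2]; exact ⟨hwP, mem_centralizer_singleton_iff.2 hwc⟩
  have hW := four_cases (hK t ht) (self_mem_kerOf t) hwV ht.2.1 hw1 hwt ht.1
  have hwt' : t * w = w * t := hwc.symm
  set R := (restrictHom (centralizer ({t} : Set G)) (fixedBy Ω t) (fixed_maps t)).range
  have hR : Sharp R (fixedBy Ω t) := h.sharp_cent hK ht
  have heven' : Even (Nat.card (fixedBy Ω t)) := by rw [hi t ht]; exact heven
  have hd : ∀ d : Ω, t • d = d → d ≠ a → ∃ y : G, y * t = t * y ∧ y * y = 1 ∧ Swaps y a d ∧ y * w * y⁻¹ = w * t := by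
    intro d hdt hda
    obtain ⟨g, hg, hga, hgb⟩ := h.cent_move ht hab (c := a) (d := d) hda.symm htP.1 htP.2 htP.1 hdt
    have hgt := mem_centralizer_singleton_iff.1 hg
    refine ⟨g * τ * g⁻¹, mem_centralizer_singleton_iff.1 ((centralizer ({t} : Set G)).mul_mem
      ((centralizer ({t} : Set G)).mul_mem hg (mem_centralizer_singleton_iff.2 hτt))
      ((centralizer ({t} : Set G)).inv_mem hg)), sq_conj hτ.1 g, ?_, ?_⟩
    · have := hτs.conj (h := g)
      rwa [hga, hgb] at this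
    · have hwg : g⁻¹ * w * g ∈ kerOf Ω t := by
        have := conj_mem_kerOf (g := g⁻¹) (mem_centralizer_singleton_iff.1 ((centralizer ({t} : Set G)).inv_mem hg)) hwV
        rwa [inv_inv] at this
      have hτ' : τ * (g⁻¹ * w * g) * τ⁻¹ = g⁻¹ * w * g * t := by
        rcases hW _ hwg with e | e | e | e
        · exfalso
          refine hw1 ?_
          have : w = g * 1 * g⁻¹ := by rw [← e]; group
          rw [this, mul_one, mul_inv_cancel]
        · exfalso
          refine hwt ?_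
          have : w = g * t * g⁻¹ := by rw [← e]; group
          rw [this, hgt, mul_inv_cancel_right]
        · rw [e, hτw]
        · rw [e, show τ * (t * w) * τ⁻¹ = τ * t * τ⁻¹ * (τ * w * τ⁻¹) by group, hτt, mul_inv_cancel_right, hτw,
            mul_assoc]
      rw [show g * τ * g⁻¹ * w * (g * τ * g⁻¹)⁻¹ = g * (τ * (g⁻¹ * w * g) * τ⁻¹) * g⁻¹ by group, hτ',
        show g * (g⁻¹ * w * g * t) * g⁻¹ = w * (g * t * g⁻¹) by group, hgt, mul_inv_cancel_right]
  obtain ⟨d₁, hd₁t, hd₁a⟩ : ∃ d : Ω, t • d = d ∧ d ≠ a := ⟨b, htP.2, hab.symm⟩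
  obtain ⟨d₂, hd₂t, hd₂a, hd₂d⟩ : ∃ d : Ω, t • d = d ∧ d ≠ a ∧ d ≠ d₁ := by
    by_contra! hh
    have hsub : fixedBy Ω t ⊆ {a, d₁} := fun p hp => by
      by_cases hpa : p = a
      · exact Or.inl hpa
      · exact Or.inr (hh p hp hpa)
    have := Set.ncard_le_ncard hsub (Set.toFinite _)
    rw [← Nat.card_coe_set_eq, hi t ht] at this
    have h2 := (Set.ncard_insert_le a ({d₁} : Set Ω))
    rw [Set.ncard_singleton] at h2
    omega
  obtain ⟨y₁, hy₁t, hy₁, hy₁s, hy₁w⟩ := hd d₁ hd₁t hd₁a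
  obtain ⟨y₂, hy₂t, hy₂, hy₂s, hy₂w⟩ := hd d₂ hd₂t hd₂a
  have hy₁C : y₁ ∈ centralizer ({t} : Set G) := mem_centralizer_singleton_iff.2 hy₁t
  have hy₂C : y₂ ∈ centralizer ({t} : Set G) := mem_centralizer_singleton_iff.2 hy₂t
  set d₃ := y₁ • d₂
  have hd₃t : t • d₃ = d₃ := fixed_maps t y₁ hy₁C d₂ hd₂t
  have hd₃a : d₃ ≠ a := fun e => hd₂d (MulAction.injective y₁ (e.trans hy₁s.2.symm))
  obtain ⟨y₃, hy₃t, hy₃, hy₃s, hy₃w⟩ := hd d₃ hd₃t hd₃a
  have hy₃C : y₃ ∈ centralizer ({t} : Set G) := mem_centralizer_singleton_iff.2 hy₃t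
  set r₁ := img Ω t ⟨y₁, hy₁C⟩
  set r₂ := img Ω t ⟨y₂, hy₂C⟩
  set r₃ := img Ω t ⟨y₃, hy₃C⟩
  have hr₁ : r₁ * r₁ = 1 := by rw [← map_mul, ← map_one (img Ω t)]; exact congrArg _ (Subtype.ext hy₁)
  have hr₂ : r₂ * r₂ = 1 := by rw [← map_mul, ← map_one (img Ω t)]; exact congrArg _ (Subtype.ext hy₂)
  have hne₁ : r₁ ≠ 1 := fun e => hd₁a (hy₁s.1.symm.trans ((mem_kerOf.1 ((img_eq_one t _).1 e)).2 a htP.1))
  have hne₂ : r₂ ≠ 1 := fun e => hd₂a (hy₂s.1.symm.trans ((mem_kerOf.1 ((img_eq_one t _).1 e)).2 a htP.1))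
  have hc := hR.commute_of_even heven' hr₁ hne₁ hr₂ hne₂
  have h12 : (r₁ * r₂) • (⟨a, htP.1⟩ : fixedBy Ω t) = ⟨d₃, hd₃t⟩ :=
    Subtype.ext (by rw [mul_smul, img_smul, img_smul]; exact congrArg (y₁ • ·) hy₂s.1)
  have hs12 : (r₁ * r₂) * (r₁ * r₂) = 1 := by
    rw [mul_assoc, ← mul_assoc r₂, ← hc, mul_assoc r₁ r₂, hr₂, mul_one, hr₁]
  have he : r₁ * r₂ = r₃ := by
    refine hR.swap_unique (a := ⟨a, htP.1⟩) (b := ⟨d₃, hd₃t⟩) (fun e => hd₃a (congrArg Subtype.val e).symm) ?_
      ⟨Subtype.ext hy₃s.1, Subtype.ext hy₃s.2⟩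
    have := swaps_invol (x := (⟨a, htP.1⟩ : fixedBy Ω t)) hs12
    rwa [h12] at this
  have hker : (y₁ * y₂)⁻¹ * y₃ ∈ kerOf Ω t := by
    refine (img_eq_one (Ω := Ω) t ((⟨y₁, hy₁C⟩ * ⟨y₂, hy₂C⟩)⁻¹ * ⟨y₃, hy₃C⟩)).1 ?_
    rw [map_mul, map_inv, map_mul]
    exact inv_mul_eq_one.2 he
  set v := (y₁ * y₂)⁻¹ * y₃ with hv
  have hvw : v * w * v⁻¹ = w := by
    have h1 := h.kerOf_sq ht (mul_mem hker hwV)
    rw [mul_inv_eq_iff_eq_mul]
    calc v * w = (v * w)⁻¹ := (inv_eq_of_mul_eq_one_right h1).symm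
      _ = w * v := by rw [_root_.mul_inv_rev, inv_eq_of_mul_eq_one_right hw2,
        inv_eq_of_mul_eq_one_right (h.kerOf_sq ht hker)]
  refine ht.2.1 (mul_eq_left.1 (?_ : w * t = w))
  calc w * t = y₃ * w * y₃⁻¹ := hy₃w.symm
    _ = y₁ * (y₂ * (v * w * v⁻¹) * y₂⁻¹) * y₁⁻¹ := by rw [hv]; group
    _ = y₁ * (w * t) * y₁⁻¹ := by rw [hvw, hy₂w]
    _ = y₁ * w * y₁⁻¹ * (y₁ * t * y₁⁻¹) := by group
    _ = w := by rw [hy₁w, hy₁t, mul_inv_cancel_right, mul_assoc, ht.1, mul_one]

/-- The symmetric case gives the alternating group of degree seven. -/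
theorem caseOne_sym_odd {a b : Ω} (hab : a ≠ b) (hS : ∀ z : G, ¬ IsCentral a b z) (hodd : Odd i) :
    Nat.card Ω = 15 ∧ Nonempty (G ≃* alternatingGroup (Fin 7)) := by
  classical
  haveI : Fact (Nat.Prime 2) := ⟨Nat.prime_two⟩
  obtain ⟨h6, hall, hts, D, ⟨eD⟩⟩ := h.sType_facts hi2 hin hi hab hS
  obtain ⟨t, ht, htP⟩ := h.exists_double hab
  obtain ⟨-, τ, hτ, hτs, hτt, w, hwP, hw2, hw1, hwt, hwc, hτw⟩ := hts t htP ht.1 ht.2.1
  set C := centralizer ({t} : Set G) with hC
  set R := (restrictHom C (fixedBy Ω t) (fixed_maps t)).range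
  have hR : Sharp R (fixedBy Ω t) := h.sharp_cent hK ht
  have hodd' : Odd (Nat.card (fixedBy Ω t)) := by rw [hi t ht]; exact hodd
  have hwV : w ∈ kerOf Ω t := by
    rw [h.kerOf_eq hK ht hab htP.1 htP.2]; exact ⟨hwP, mem_centralizer_singleton_iff.2 hwc⟩
  have hW := four_cases (hK t ht) (self_mem_kerOf t) hwV ht.2.1 hw1 hwt ht.1
  -- a 2-element of the centraliser acts as an involution
  have hexp : ∀ y : C, (∃ j : ℕ, img Ω t y ^ 2 ^ j = 1) → img Ω t y * img Ω t y = 1 := by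
    intro y hy
    by_contra hne
    have hex : ∃ j : ℕ, img Ω t y ^ 2 ^ j = 1 := hy
    set j := Nat.find hex with hj
    have hj2 : 2 ≤ j := by
      by_contra hh
      have hspec := Nat.find_spec hex
      rw [← hj] at hspec
      interval_cases j
      · rw [pow_zero, pow_one] at hspec; exact hne (by rw [hspec, one_mul])
      · rw [pow_one, pow_two] at hspec; exact hne hspec
    obtain ⟨l, hl⟩ : ∃ l, j = l + 2 := ⟨j - 2, by omega⟩
    set y' : C := y ^ 2 ^ l
    have h4 : img Ω t y' ^ 4 = 1 := by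
      rw [← Nat.find_spec hex, ← hj, hl, map_pow, ← pow_mul, pow_add]
      norm_num
    have h2 : img Ω t (y' * y') ≠ 1 := by
      rw [map_mul, ← pow_two, map_pow, ← pow_mul, ← pow_succ]
      exact Nat.find_min hex (by omega)
    have hinv : img Ω t (y' * y') * img Ω t (y' * y') = 1 := by
      rw [map_mul, ← pow_two (img Ω t y'), ← pow_add]; exact h4
    obtain ⟨q, hq⟩ := hR.exists_fix hodd' hinv
    -- a conjugate of `τ` has the same image
    have hτC : τ ∈ C := mem_centralizer_singleton_iff.2 hτt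
    have hrτ : img Ω t ⟨τ, hτC⟩ * img Ω t ⟨τ, hτC⟩ = 1 := by
      rw [← map_mul, ← map_one (img Ω t)]; exact congrArg _ (Subtype.ext hτ.1)
    have hrτ1 : img Ω t ⟨τ, hτC⟩ ≠ 1 := fun e =>
      hab (((mem_kerOf.1 ((img_eq_one t _).1 e)).2 a htP.1).symm.trans hτs.1)
    obtain ⟨p, hp⟩ := hR.exists_fix hodd' hrτ
    obtain ⟨p', hp'⟩ := hR.exists_ne p
    obtain ⟨q', hq'⟩ := hR.exists_ne q
    obtain ⟨r, hr, -⟩ := hR.move p p' q q' hp'.symm hq'.symm
    obtain ⟨g, rfl⟩ := (restrictHom C (fixedBy Ω t) (fixed_maps t)).rangeRestrict_surjective r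
    have he := hR.eq_of_fix hodd' hinv h2 (s' := img Ω t (g * ⟨τ, hτC⟩ * g⁻¹)) ?_ ?_ hq ?_
    · have hker : (((y' * y') * (g * ⟨τ, hτC⟩ * g⁻¹)⁻¹ : C) : G) ∈ kerOf Ω t := by
        refine (img_eq_one t _).1 ?_
        rw [map_mul, map_inv, he, mul_inv_cancel]
      set v : G := ((y' * y') * (g * ⟨τ, hτC⟩ * g⁻¹)⁻¹).1 with hv
      set k : G := y'.1 with hk
      have hk2 : k * k = v * (g.1 * τ * g.1⁻¹) := by rw [hv]; simp [k, mul_assoc]
      have hkt : k * t = t * k := mem_centralizer_singleton_iff.1 y'.2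
      have hgt : g.1 * t = t * g.1 := mem_centralizer_singleton_iff.1 g.2
      have hcent : ∀ x ∈ kerOf Ω t, ∀ x' ∈ kerOf Ω t, x * x' = x' * x := fun x hx x' hx' => by
        calc x * x' = (x * x')⁻¹ := (inv_eq_of_mul_eq_one_right (h.kerOf_sq ht (mul_mem hx hx'))).symm
          _ = x' * x := by rw [_root_.mul_inv_rev, inv_eq_of_mul_eq_one_right (h.kerOf_sq ht hx),
            inv_eq_of_mul_eq_one_right (h.kerOf_sq ht hx')]
      -- the square acts trivially on the four group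
      have hsq : k * k * w * (k * k)⁻¹ = w := by
        rcases hW _ (conj_mem_kerOf hkt hwV) with e | e | e | e
        · exact absurd (conj_eq_one_iff.1 e) hw1
        · exact absurd (mul_left_cancel (mul_right_cancel
            (show k * w * k⁻¹ = k * t * k⁻¹ by rw [e, hkt, mul_inv_cancel_right]))) hwt
        · rw [show k * k * w * (k * k)⁻¹ = k * (k * w * k⁻¹) * k⁻¹ by group, e, e]
        · rw [show k * k * w * (k * k)⁻¹ = k * (k * w * k⁻¹) * k⁻¹ by group, e,
            show k * (t * w) * k⁻¹ = k * t * k⁻¹ * (k * w * k⁻¹) by group, hkt, mul_inv_cancel_right, e,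
            ← mul_assoc, ht.1, one_mul]
      have hwg : g.1⁻¹ * w * g.1 ∈ kerOf Ω t := by
        have := conj_mem_kerOf (g := g.1⁻¹)
          (mem_centralizer_singleton_iff.1 (C.inv_mem g.2)) hwV
        rwa [inv_inv] at this
      have hτg : g.1 * τ * g.1⁻¹ * w * (g.1 * τ * g.1⁻¹)⁻¹ = w * t := by
        have hτ' : τ * (g.1⁻¹ * w * g.1) * τ⁻¹ = g.1⁻¹ * w * g.1 * t := by
          rcases hW _ hwg with e | e | e | e
          · exfalso
            refine hw1 ?_
            have : w = g.1 * 1 * g.1⁻¹ := by rw [← e]; group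
            rw [this, mul_one, mul_inv_cancel]
          · exfalso
            refine hwt ?_
            have : w = g.1 * t * g.1⁻¹ := by rw [← e]; group
            rw [this, hgt, mul_inv_cancel_right]
          · rw [e, hτw]
          · rw [e, show τ * (t * w) * τ⁻¹ = τ * t * τ⁻¹ * (τ * w * τ⁻¹) by group, hτt, mul_inv_cancel_right, hτw,
              mul_assoc]
        rw [show g.1 * τ * g.1⁻¹ * w * (g.1 * τ * g.1⁻¹)⁻¹ = g.1 * (τ * (g.1⁻¹ * w * g.1) * τ⁻¹) * g.1⁻¹ by group,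
          hτ', show g.1 * (g.1⁻¹ * w * g.1 * t) * g.1⁻¹ = w * (g.1 * t * g.1⁻¹) by group, hgt,
          mul_inv_cancel_right]
      rw [hk2, show v * (g.1 * τ * g.1⁻¹) * w * (v * (g.1 * τ * g.1⁻¹))⁻¹ =
          v * (g.1 * τ * g.1⁻¹ * w * (g.1 * τ * g.1⁻¹)⁻¹) * v⁻¹ by group, hτg,
        hcent v hker (w * t) (mul_mem hwV (self_mem_kerOf t)), mul_inv_cancel_right] at hsq
      exact ht.2.1 (mul_eq_left.1 hsq)
    · rw [← map_mul, ← map_one (img Ω t)]; exact congrArg _ (Subtype.ext (sq_conj hτ.1 g.1))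
    · rw [map_mul, map_mul, map_inv]; exact fun e => hrτ1 (conj_eq_one_iff.1 e)
    · rw [map_mul, map_mul, map_inv, ← hr, mul_smul]
      show (img Ω t g * img Ω t ⟨τ, hτC⟩) • (img Ω t g)⁻¹ • (img Ω t g • p) = img Ω t g • p
      rw [inv_smul_smul, mul_smul, hp]
  -- the Sylow 2-subgroups have order eight
  obtain ⟨P⟩ := (inferInstance : Nonempty (Sylow 2 G))
  have hD8 : Nat.card D = 8 := by rw [Nat.card_congr eD.toEquiv, DihedralGroup.nat_card]
  obtain ⟨Q, hDQ⟩ := (IsPGroup.of_card (p := 2) (n := 3) (by rw [hD8]; norm_num) : IsPGroup 2 D).exists_le_sylow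
  haveI : Nontrivial ↥(Q : Subgroup G) := Finite.one_lt_card_iff_nontrivial.1 (by
    have := Subgroup.card_le_of_le hDQ; omega)
  haveI : Nontrivial (Subgroup.center ↥(Q : Subgroup G)) := Q.2.center_nontrivial
  obtain ⟨c, hc⟩ := exists_prime_orderOf_dvd_card' (G := Subgroup.center ↥(Q : Subgroup G)) 2 (by
    obtain ⟨j, hj⟩ := IsPGroup.iff_card.1 (Q.2.to_subgroup (Subgroup.center ↥(Q : Subgroup G)))
    have := Finite.one_lt_card (α := Subgroup.center ↥(Q : Subgroup G))
    rcases j with _ | j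
    · rw [pow_zero] at hj; omega
    · rw [hj, pow_succ]; exact Dvd.intro_left _ rfl)
  set u : G := c.1.1 with hu
  have hu2 : orderOf u = 2 := by rw [hu, orderOf_coe, orderOf_coe, hc]
  have hud := hall u (InvolCalc.sq_of_order_two hu2) (InvolCalc.ne_one_of_order_two hu2)
  obtain ⟨g, hg⟩ := h.doubles_conj hud ht
  set Q' := (Q : Subgroup G).map (MulAut.conj g).toMonoidHom
  have hQ'C : Q' ≤ C := by
    rintro _ ⟨x, hx, rfl⟩
    refine mem_centralizer_singleton_iff.2 ?_
    show g * x * g⁻¹ * t = t * (g * x * g⁻¹)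
    have hxu : x * u = u * x := congrArg Subtype.val (Subgroup.mem_center_iff.1 c.2 ⟨x, hx⟩)
    rw [← hg, show g * x * g⁻¹ * (g * u * g⁻¹) = g * (x * u) * g⁻¹ by group, hxu]
    group
  have hcardQ' : Nat.card Q' = Nat.card (Q : Subgroup G) :=
    Subgroup.card_map_of_injective (MulAut.conj g).injective
  have hQ'8 : Nat.card Q' ≤ 8 := by
    have hQ'2 : IsPGroup 2 Q' := Q.2.map _
    let f : Q' →* R := (img Ω t).comp (Subgroup.inclusion hQ'C)
    have hinvs : ∀ x : Q', f x * f x = 1 := fun x => by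
      obtain ⟨j, hj⟩ := hQ'2 x
      exact hexp _ ⟨j, by rw [← map_pow, ← map_pow, hj, map_one, map_one]⟩
    have hker : Nat.card f.ker ≤ 4 := by
      rw [← hK t ht]
      refine Nat.card_le_card_of_injective (fun x : f.ker => (⟨x.1.1, (img_eq_one t _).1 x.2⟩ : kerOf Ω t)) ?_
      intro x y e
      exact Subtype.ext (Subtype.ext (congrArg Subtype.val e :))
    have hrange : Nat.card f.range ≤ 2 := by
      -- all the involutions of the image fix a common point
      obtain ⟨⟨p, hp⟩⟩ : Nonempty {p : fixedBy Ω t // ∀ x : Q', f x • p = p} := by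
        letI : MulAction Q' (fixedBy Ω t) := MulAction.compHom _ f
        obtain ⟨p, hp⟩ := hQ'2.nonempty_fixed_point_of_prime_not_dvd_card (fixedBy Ω t)
          (fun hd => by rw [Nat.odd_iff] at hodd'; omega)
        exact ⟨⟨p, hp⟩⟩
      by_contra hgt
      obtain ⟨x, hx⟩ : ∃ x : f.range, x ≠ 1 := by
        haveI : Nontrivial f.range := Finite.one_lt_card_iff_nontrivial.1 (by omega)
        exact exists_ne 1
      have hall' : ∀ y : f.range, y = 1 ∨ y = x := by
        intro y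
        by_cases hy : y = 1
        · exact Or.inl hy
        obtain ⟨y₀, hy₀⟩ := y.2
        obtain ⟨x₀, hx₀⟩ := x.2
        refine Or.inr (Subtype.ext ?_)
        refine hR.eq_of_fix hodd' ?_ (fun e => hy (Subtype.ext e)) ?_ (fun e => hx (Subtype.ext e)) (p := p) ?_ ?_
        · rw [← hy₀]; exact hinvs y₀
        · rw [← hx₀]; exact hinvs x₀
        · rw [← hy₀]; exact hp y₀
        · rw [← hx₀]; exact hp x₀
      have : Nat.card f.range ≤ 2 := by
        haveI := Fintype.ofFinite f.range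
        rw [Nat.card_eq_fintype_card]
        calc Fintype.card f.range ≤ ({1, x} : Finset f.range).card :=
              Finset.card_le_card fun y _ => by simpa using hall' y
          _ ≤ 2 := Finset.card_le_two
      omega
    have hmul := f.ker.card_mul_index
    rw [Subgroup.index_ker] at hmul
    calc Nat.card Q' = Nat.card f.ker * Nat.card f.range := hmul.symm
      _ ≤ 4 * 2 := Nat.mul_le_mul hker hrange
  have hQ8 : Nat.card (Q : Subgroup G) = 8 := le_antisymm (hcardQ' ▸ hQ'8) (hD8 ▸ Subgroup.card_le_of_le hDQ)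
  have hDeq : D = (Q : Subgroup G) := Subgroup.eq_of_le_of_card_ge hDQ (by omega)
  have hsq : ∀ u ∈ doubles G Ω, ∀ g : G, g * u = u * g → (∀ p : Ω, u • p = p → g • p = p) → g * g = 1 :=
    fun u hu g hg hf => h.kerOf_sq hu (mem_kerOf.2 ⟨hg, hf⟩)
  obtain ⟨l, rfl⟩ := hodd
  have hcount := h.eq_count hi hab h6
  rw [Nat.add_sub_cancel] at hcount
  have hn : Nat.card Ω = (2 * l + 1) * (4 * l + 1) := by
    ring_nf at hcount ⊢
    omega
  have hnp : ∀ p j : ℕ, p.Prime → Nat.card Ω ≠ p ^ j := hn ▸ not_prime_pow_mul hi2 (by omega) (by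
    rw [show 4 * l + 1 = 2 * l + 2 * l + 1 by ring, show 2 * l + 2 * l + 1 = 2 * l + (2 * l + 1) by ring,
      Nat.coprime_add_self_right]
    exact (Nat.coprime_self_add_left.2 (Nat.coprime_one_left _)))
  obtain ⟨h5040, hfin⟩ := h.dihedral_end hi2 hin hi hab hS ⟨l, rfl⟩ Q (m := 4) (by norm_num)
    ⟨(MulEquiv.subgroupCongr hDeq).symm.trans eD⟩ hnp hsq
  refine hfin ?_
  rw [h.card_G] at h5040 ⊢
  have h420 : Nat.card Ω * (Nat.card Ω - 1) ∣ 420 := (Nat.mul_dvd_mul_iff_right (by norm_num : 0 < 12)).1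
    (show Nat.card Ω * (Nat.card Ω - 1) * 12 ∣ 420 * 12 from h5040)
  have hle := Nat.le_of_dvd (by norm_num) h420
  rcases l with _ | _ | l
  · omega
  · rw [hn]
  · exfalso
    have h45 : 45 ≤ Nat.card Ω := by rw [hn]; exact Nat.mul_le_mul (show 5 ≤ _ by omega) (show 9 ≤ _ by omega)
    have := Nat.mul_le_mul h45 (show 44 ≤ Nat.card Ω - 1 by omega)
    omega

end

omit hi2 hin hi in
/-- Six points leave only the alternating group. -/
theorem six_alternating (hn : Nat.card Ω = 6) : Nonempty (G ≃* alternatingGroup (Fin 6)) := by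
  haveI := Fintype.ofFinite Ω
  classical
  let e : Ω ≃ Fin 6 := Fintype.equivFinOfCardEq (by rw [← Nat.card_eq_fintype_card, hn])
  let f : G →* Perm (Fin 6) := e.permCongrHom.toMonoidHom.comp (MulAction.toPermHom G Ω)
  have hf : Function.Injective f := (injective_iff_map_eq_one f).2 fun g hg => h.faith g fun p =>
    DFunLike.congr_fun (e.permCongrHom.injective (hg.trans (map_one e.permCongrHom).symm)) p
  have hr : f.range = alternatingGroup (Fin 6) := by
    refine Perm.eq_alternatingGroup_of_index_eq_two ?_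
    have h1 := f.range.card_mul_index
    rw [← Nat.card_congr (MonoidHom.ofInjective hf).toEquiv, h.card_G, hn, Nat.card_perm, Nat.card_eq_fintype_card,
      Fintype.card_fin, show Nat.factorial 6 = 6 * (6 - 1) * 12 * 2 from rfl] at h1
    exact Nat.eq_of_mul_eq_mul_left (by norm_num) h1
  exact ⟨(MonoidHom.ofInjective hf).trans (MulEquiv.subgroupCongr hr)⟩

end TwoA4

end Cfsg.Lib.TwoPointFour
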