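import Cfsg.Agent.TwoPointFour.SType

/-!
The kernel of an involution centraliser on the fixed points, and the affine case (row 3219).
-/

set_option autoImplicit false
set_option linter.unusedSectionVars false
set_option linter.style.haveILetI false

namespace Cfsg.Lib.TwoPointFour

open MulAction Subgroup Equiv Cfsg.Lib.TwoPointFive

universe u v

variable {G : Type u} {Ω : Type v} [Group G] [Finite G] [Finite Ω] [MulAction G Ω]

namespace TwoA4

variable (h : TwoA4 G Ω) {i : ℕ} (hi2 : 2 ≤ i) (hin : i < Nat.card Ω)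
  (hi : ∀ u ∈ doubles G Ω, Nat.card (fixedBy Ω u) = i)
include h hi2 hin hi

omit hi2 hin hi in
theorem kerOf_le {u : G} {a b : Ω} (ha : u • a = a) (hb : u • b = b) :
    kerOf Ω u ≤ (stabilizer G a ⊓ stabilizer G b) ⊓ centralizer ({u} : Set G) := fun x hx =>
  ⟨⟨(mem_kerOf.1 hx).2 a ha, (mem_kerOf.1 hx).2 b hb⟩, mem_centralizer_singleton_iff.2 (mem_kerOf.1 hx).1⟩

omit hi2 hin hi in
theorem kerOf_sq {u : G} (hu : u ∈ doubles G Ω) {g : G} (hg : g ∈ kerOf Ω u) : g * g = 1 := by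
  obtain ⟨a, b, hab, ha, hb⟩ := exists_two_fixed hu
  exact (h.pair_cent hab ⟨ha, hb⟩ hu.1 hu.2.1).1 g (kerOf_le h ha hb hg).1 (mem_kerOf.1 hg).1

omit hi2 hin hi in
theorem card_kerOf_dvd {u : G} (hu : u ∈ doubles G Ω) : Nat.card (kerOf Ω u) ∣ 4 := by
  obtain ⟨a, b, hab, ha, hb⟩ := exists_two_fixed hu
  rw [← (h.pair_cent hab ⟨ha, hb⟩ hu.1 hu.2.1).2]
  exact Subgroup.card_dvd_of_le (kerOf_le h ha hb)

omit hi2 hin hi in
theorem card_kerOf_eq {u u' : G} (hu : u ∈ doubles G Ω) (hu' : u' ∈ doubles G Ω) :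
    Nat.card (kerOf Ω u') = Nat.card (kerOf Ω u) := by
  obtain ⟨g, rfl⟩ := h.doubles_conj hu hu'
  have key : ∀ (c v : G) (x : G), x ∈ kerOf Ω v → c * x * c⁻¹ ∈ kerOf Ω (c * v * c⁻¹) := by
    intro c v x hx
    obtain ⟨h1, h2⟩ := mem_kerOf.1 hx
    refine mem_kerOf.2 ⟨?_, fun p hp => ?_⟩
    · rw [show c * x * c⁻¹ * (c * v * c⁻¹) = c * (x * v) * c⁻¹ by group, h1]
      group
    · have : v • c⁻¹ • p = c⁻¹ • p := by
        rw [mul_smul, mul_smul] at hp
        exact eq_inv_smul_iff.2 hp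
      rw [mul_smul, mul_smul, h2 _ this, smul_inv_smul]
  refine (Nat.card_congr
    { toFun := fun x => ⟨g * x.1 * g⁻¹, key g u x.1 x.2⟩
      invFun := fun x => ⟨g⁻¹ * x.1 * g, by
        have := key g⁻¹ (g * u * g⁻¹) x.1 x.2
        rwa [show g⁻¹ * (g * u * g⁻¹) * g⁻¹⁻¹ = u by group, inv_inv] at this⟩
      left_inv := fun x => Subtype.ext (show g⁻¹ * (g * x.1 * g⁻¹) * g = x.1 by group)
      right_inv := fun x => Subtype.ext (show g * (g⁻¹ * x.1 * g) * g⁻¹ = x.1 by group) }).symm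

omit hi2 hin hi in
theorem kerOf_cases :
    (∀ u ∈ doubles G Ω, Nat.card (kerOf Ω u) = 4) ∨
      (∀ u ∈ doubles G Ω, ∀ g ∈ kerOf Ω u, g = 1 ∨ g = u) := by
  haveI := h.nontrivial
  obtain ⟨a, b, hab⟩ := exists_pair_ne Ω
  obtain ⟨t, ht, -⟩ := h.exists_double hab
  by_cases h4 : Nat.card (kerOf Ω t) = 4
  · exact Or.inl fun u hu => (h.card_kerOf_eq ht hu).trans h4
  refine Or.inr fun u hu g hg => ?_
  have hd := h.card_kerOf_dvd hu
  have hne : Nat.card (kerOf Ω u) ≠ 4 := fun e => h4 ((h.card_kerOf_eq hu ht).trans e)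
  have h2 : Nat.card (kerOf Ω u) = 2 := by
    have hne1 : Nat.card (kerOf Ω u) ≠ 1 := fun e =>
      hu.2.1 (Subgroup.mem_bot.1 (Subgroup.eq_bot_of_card_eq _ e ▸ self_mem_kerOf u))
    have : Nat.card (kerOf Ω u) ≤ 4 := Nat.le_of_dvd (by norm_num) hd
    interval_cases hc : Nat.card (kerOf Ω u) <;> simp_all
  obtain ⟨x, -, hx⟩ := (Nat.card_eq_two_iff' (1 : ↥(kerOf Ω u))).1 h2
  by_cases hg1 : g = 1
  · exact Or.inl hg1
  · exact Or.inr (congrArg Subtype.val ((hx ⟨g, hg⟩ (fun e => hg1 (congrArg Subtype.val e))).trans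
      (hx ⟨u, self_mem_kerOf u⟩ (fun e => hu.2.1 (congrArg Subtype.val e))).symm))

/-- In a degree that is a power of two a central involution with at most one fixed point lies in a normal 2-subgroup. -/
theorem d_trick {a b : Ω} (hab : a ≠ b) {z : G} (hz : IsCentral a b z) (hzd : z ∉ doubles G Ω)
    (hzx : ∀ x ∈ stabilizer G a ⊓ stabilizer G b, x * x = 1 → x ≠ 1 → z * x ∈ doubles G Ω) {j : ℕ}
    (hn : Nat.card Ω = 2 ^ j) : ∃ N : Subgroup G, N.Normal ∧ IsPGroup 2 N ∧ z ∈ N := by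
  by_contra hrad
  haveI : Fact (Nat.Prime 2) := ⟨Nat.prime_two⟩
  obtain ⟨hzs, hz2, hzc⟩ := hz
  have hz1 : z ≠ 1 := fun e => hab (by rw [← hzs.1, e, one_smul])
  have hfree : ∀ p : Ω, z • p ≠ p := by
    intro p hp
    have h1 := fixedBy_parity (Φ := Ω) hz2
    have h2 : Nat.card (fixedBy Ω z) ≤ 1 := by
      by_contra hh
      exact hzd ⟨hz2, hz1, by omega⟩
    have heven : Nat.card Ω % 2 = 0 := by
      rw [hn]
      rcases j with _ | j
      · rw [pow_zero] at hn; have := h.two; omega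
      · rw [pow_succ]; omega
    rw [heven] at h1
    haveI : Nonempty (fixedBy Ω z) := ⟨⟨p, hp⟩⟩
    have : 0 < Nat.card (fixedBy Ω z) := Nat.card_pos
    omega
  obtain ⟨r, μ, hr, hr2, hμ, hinv⟩ := Cfsg.Lib.Fusion.exists_inverted (x := z) (by rw [pow_two]; exact hz2)
    fun N hN hN2 hzN => hrad ⟨N, hN, hN2, hzN⟩
  haveI : Fact r.Prime := ⟨hr⟩
  have hμP : IsPGroup r (Subgroup.zpowers μ) := IsPGroup.of_card (n := 1) (by rw [Nat.card_zpowers, hμ, pow_one])
  obtain ⟨p, hp⟩ := hμP.nonempty_fixed_point_of_prime_not_dvd_card Ω (by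
    rw [hn]
    exact fun hd => hr2 ((Nat.prime_dvd_prime_iff_eq hr Nat.prime_two).1 (hr.dvd_of_dvd_pow hd)))
  have hμp : μ • p = p := hp ⟨μ, Subgroup.mem_zpowers μ⟩
  have hz' : z⁻¹ = z := inv_eq_of_mul_eq_one_right hz2
  have hμq : μ • (z • p) = z • p := by
    have e : μ * z = z * μ⁻¹ := by
      rw [← hinv, hz', show z * (z * μ * z) = z * z * (μ * z) by group, hz2, one_mul]
    rw [smul_smul, e, mul_smul, inv_smul_eq_iff.2 hμp.symm]
  obtain ⟨g, hga, hgb⟩ := h.move p (z • p) a b (hfree p).symm hab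
  -- the conjugate of `z` exchanges `a` and `b` and has no two fixed points, hence it is `z`
  have hs := (swaps_invol (x := p) hz2).conj (h := g)
  rw [hga, hgb] at hs
  have hzz : g * z * g⁻¹ = z := by
    set w := g * z * g⁻¹ with hw
    have hwd : w ∉ doubles G Ω := fun hh => hzd (by
      have := doubles_closed w hh g⁻¹
      rwa [hw, show g⁻¹ * (g * z * g⁻¹) * g⁻¹⁻¹ = z by group] at this)
    have hw2 : w * w = 1 := sq_conj hz2 g
    have hx : z * w ∈ stabilizer G a ⊓ stabilizer G b :=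
      ⟨show (z * w) • a = a by rw [mul_smul, hs.1, hzs.2], show (z * w) • b = b by rw [mul_smul, hs.2, hzs.1]⟩
    by_contra hne
    have hx1 : z * w ≠ 1 := fun e => hne (by rw [← inv_eq_of_mul_eq_one_right e, hz'])
    have hcw : z * w = w * z := by
      have h1 := hzc _ hx
      rw [← mul_assoc, hz2, one_mul, mul_assoc] at h1
      calc z * w = z * (z * (w * z)) := by rw [← h1]
        _ = w * z := by rw [← mul_assoc, hz2, one_mul]
    have hx2 : z * w * (z * w) = 1 := by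
      calc z * w * (z * w) = z * w * (w * z) := by rw [hcw]
        _ = z * (w * w) * z := by group
        _ = 1 := by rw [hw2, mul_one, hz2]
    have := hzx _ hx hx2 hx1
    rw [← mul_assoc, hz2, one_mul] at this
    exact hwd this
  have hμP' : g * μ * g⁻¹ ∈ stabilizer G a ⊓ stabilizer G b :=
    ⟨show (g * μ * g⁻¹) • a = a by rw [← hga, mul_smul, inv_smul_smul, mul_smul, hμp],
      show (g * μ * g⁻¹) • b = b by rw [← hgb, mul_smul, inv_smul_smul, mul_smul, hμq]⟩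
  have hc : z * μ = μ * z := by
    have h1 := hzc _ hμP'
    conv_lhs at h1 => rw [← hzz]
    conv_rhs at h1 => rw [← hzz]
    rw [show g * z * g⁻¹ * (g * μ * g⁻¹) = g * (z * μ) * g⁻¹ by group,
      show g * μ * g⁻¹ * (g * z * g⁻¹) = g * (μ * z) * g⁻¹ by group] at h1
    exact mul_left_cancel (mul_right_cancel h1)
  rw [hc, mul_assoc, mul_inv_cancel, mul_one] at hinv
  have h2 : orderOf μ ∣ 2 := orderOf_dvd_of_pow_eq_one (by rw [pow_two]; exact eq_inv_iff_mul_eq_one.1 hinv)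
  rw [hμ] at h2
  exact hr2 ((Nat.prime_dvd_prime_iff_eq hr Nat.prime_two).1 h2)

omit hi2 hin hi in
/-- A normal 2-subgroup makes the group affine over the field of two elements. -/
theorem affine_of_two {N : Subgroup G} (hN : N.Normal) (hN2 : IsPGroup 2 N) (hne : N ≠ ⊥) :
    ∃ A : Subgroup G, A.Normal ∧ (∀ x ∈ A, x * x = 1) ∧ Nat.card A = Nat.card Ω ∧
      (∀ g ∈ A, ∀ p : Ω, g • p = p → g = 1) := by
  haveI := hN
  haveI : Fact (Nat.Prime 2) := ⟨Nat.prime_two⟩
  haveI : Nontrivial N := (Subgroup.nontrivial_iff_ne_bot N).2 hne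
  set A : Subgroup G := (Subgroup.center N).map N.subtype
  haveI hC : Nontrivial (Subgroup.center N) := hN2.center_nontrivial
  have hA : A.Normal := inferInstance
  have hAne : A ≠ ⊥ := fun e => (Subgroup.nontrivial_iff_ne_bot _).1 hC
    ((Subgroup.map_eq_bot_iff_of_injective _ N.subtype_injective).1 e)
  have hc : ∀ x ∈ A, ∀ y ∈ A, x * y = y * x := by
    rintro _ ⟨x, hx, rfl⟩ _ ⟨y, -, rfl⟩
    exact congrArg Subtype.val (Subgroup.mem_center_iff.1 hx y).symm
  obtain ⟨hfree, hcard, hmove⟩ := h.abelian_regular hA hc hAne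
  refine ⟨A, hA, fun x hx => ?_, hcard, hfree⟩
  rcases eq_or_ne x 1 with rfl | hx1
  · exact one_mul 1
  have hle : A ≤ N := Subgroup.map_subtype_le _
  haveI : Nontrivial A := (Subgroup.nontrivial_iff_ne_bot A).2 hAne
  obtain ⟨j, hj⟩ := IsPGroup.iff_card.1 (hN2.to_le hle)
  have h1 := Finite.one_lt_card (α := A)
  have hj0 : j ≠ 0 := fun e => by rw [e, pow_zero] at hj; omega
  obtain ⟨y, hy⟩ := exists_prime_orderOf_dvd_card' (G := A) 2 (by rw [hj]; exact dvd_pow_self 2 hj0)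
  rw [← Subgroup.orderOf_coe] at hy
  obtain ⟨g, -, hg⟩ := hmove (Classical.choice (h.nontrivial.to_nonempty)) y.1 y.2 x hx
    (InvolCalc.ne_one_of_order_two hy) hx1
  rw [← hg]
  exact sq_conj (InvolCalc.sq_of_order_two hy) g

end TwoA4

end Cfsg.Lib.TwoPointFour
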