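import Cfsg.Agent.TwoPointFour.Setup
import Cfsg.Agent.InvolCalc.ZStarApps

/-!
Normal subgroups, and general facts on the two-point stabiliser (row 3219).
-/

set_option autoImplicit false
set_option linter.unusedSectionVars false
set_option linter.style.haveILetI false

namespace Cfsg.Lib.TwoPointFour

open MulAction Subgroup Equiv Cfsg.Lib.TwoPointFive
open scoped commutatorElement

universe u v w

variable {G : Type u} {Ω : Type v} [Group G] [Finite G] [Finite Ω] [MulAction G Ω]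

namespace TwoA4

variable (h : TwoA4 G Ω)
include h

theorem pretransitive : MulAction.IsPretransitive G Ω := by
  haveI := h.nontrivial
  exact ⟨fun x y => by
    obtain ⟨x', hx⟩ := _root_.exists_ne x
    obtain ⟨y', hy⟩ := _root_.exists_ne y
    obtain ⟨g, hg, -⟩ := h.move x x' y y' hx.symm hy.symm
    exact ⟨g, hg⟩⟩

theorem card_stab (a : Ω) : Nat.card (stabilizer G a) = (Nat.card Ω - 1) * 12 := by
  haveI := h.pretransitive
  have h1 := (stabilizer G a).card_mul_index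
  rw [index_stabilizer_of_transitive, h.card_G, mul_comm] at h1
  rw [mul_assoc] at h1
  exact Nat.eq_of_mul_eq_mul_left (by have := h.two; omega) h1

theorem central_dichotomy :
    (∀ a b : Ω, a ≠ b → ∀ z : G, ¬ IsCentral a b z) ∨ ∀ a b : Ω, a ≠ b → ∃ z : G, IsCentral a b z := by
  by_cases hex : ∃ a b : Ω, a ≠ b ∧ ∃ z : G, IsCentral a b z
  · right
    obtain ⟨a, b, hab, z, hz⟩ := hex
    intro c d hcd
    obtain ⟨g, hgc, hgd⟩ := h.move a b c d hab hcd
    exact ⟨_, hgc ▸ hgd ▸ hz.move g⟩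
  · exact Or.inl fun a b hab z hz => hex ⟨a, b, hab, z, hz⟩

/-- The involutions of a two-point stabiliser commute. -/
theorem pair_invol_comm {a b : Ω} (hab : a ≠ b) {x y : G} (hx : x ∈ stabilizer G a ⊓ stabilizer G b)
    (hy : y ∈ stabilizer G a ⊓ stabilizer G b) (hx2 : x * x = 1) (hy2 : y * y = 1) : x * y = y * x := by
  rcases eq_or_ne x 1 with rfl | hx1
  · rw [one_mul, mul_one]
  rcases eq_or_ne y 1 with rfl | hy1
  · rw [one_mul, mul_one]
  obtain ⟨f, hf, hs, -⟩ := h.exists_perm hab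
  have hm : ∀ (z : G) (hz : z ∈ stabilizer G a ⊓ stabilizer G b), z * z = 1 → z ≠ 1 → f ⟨z, hz⟩ ∈ evenInv := by
    intro z hz h2 h1
    simp only [evenInv, Finset.mem_filter, Finset.mem_univ, true_and]
    refine ⟨?_, fun e => h1 (congrArg Subtype.val (hf (e.trans (map_one f).symm))), hs _⟩
    rw [← map_mul, show (⟨z, hz⟩ : ↥(stabilizer G a ⊓ stabilizer G b)) * ⟨z, hz⟩ = 1 from Subtype.ext h2, map_one]
  have e := evenInv_comm _ (hm x hx hx2 hx1) _ (hm y hy hy2 hy1)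
  rw [← map_mul, ← map_mul] at e
  exact congrArg Subtype.val (hf e)

/-- A homomorphism of the two-point stabiliser into a group without elements of order three is trivial. -/
theorem pair_hom_trivial {a b : Ω} (hab : a ≠ b) {M : Type w} [Group M]
    (hM : ∀ m : M, m * m * m = 1 → m = 1) (φ : ↥(stabilizer G a ⊓ stabilizer G b) →* M) : ∀ x, φ x = 1 := by
  obtain ⟨f, hf, hs, hr⟩ := h.exists_perm hab
  intro x
  obtain ⟨y, hy, y', hy', hy3, hy'3, he⟩ := evenAll_three (f x) (by simp [evenAll, hs])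
  obtain ⟨y₀, rfl⟩ := hr y (Finset.mem_filter.1 hy).2
  obtain ⟨y₁, rfl⟩ := hr y' (Finset.mem_filter.1 hy').2
  have key : ∀ v, f v * f v * f v = 1 → φ v = 1 := fun v e => hM _ (by
    rw [← map_mul, ← map_mul, ← map_one f] at e
    rw [← map_mul, ← map_mul, hf e, map_one])
  rw [← map_mul] at he
  rw [← hf he, map_mul, key _ hy3, key _ hy'3, one_mul]

theorem normal_transitive {A : Subgroup G} (hA : A.Normal) (hne : A ≠ ⊥) (p q : Ω) : ∃ g ∈ A, g • p = q := by
  obtain ⟨n₀, hn₀, hn1⟩ := (Subgroup.bot_or_exists_ne_one A).resolve_left hne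
  obtain ⟨a, ha⟩ : ∃ a : Ω, n₀ • a ≠ a := by
    by_contra! hh
    exact hn1 (h.faith n₀ hh)
  have h1 : ∀ q : Ω, ∃ g ∈ A, g • a = q := fun q => by
    rcases eq_or_ne a q with rfl | hq
    · exact ⟨1, A.one_mem, one_smul G a⟩
    · obtain ⟨c, hc1, hc2⟩ := h.move a (n₀ • a) a q ha.symm hq
      exact ⟨c * n₀ * c⁻¹, hA.conj_mem n₀ hn₀ c, by rw [mul_smul, inv_smul_eq_iff.2 hc1.symm, mul_smul, hc2]⟩
  obtain ⟨g, hg, rfl⟩ := h1 p
  obtain ⟨g', hg', rfl⟩ := h1 q
  exact ⟨g' * g⁻¹, A.mul_mem hg' (A.inv_mem hg), by rw [mul_smul, inv_smul_smul]⟩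

/-- A non-trivial abelian normal subgroup is regular, and a point stabiliser moves its elements as it moves points. -/
theorem abelian_regular {A : Subgroup G} (hA : A.Normal) (hc : ∀ x ∈ A, ∀ y ∈ A, x * y = y * x) (hne : A ≠ ⊥) :
    (∀ g ∈ A, ∀ p : Ω, g • p = p → g = 1) ∧ Nat.card A = Nat.card Ω ∧
      ∀ p : Ω, ∀ x ∈ A, ∀ y ∈ A, x ≠ 1 → y ≠ 1 → ∃ g : G, g • p = p ∧ g * x * g⁻¹ = y := by
  have htr := fun p q => h.normal_transitive hA hne p q
  have hfree : ∀ g ∈ A, ∀ p : Ω, g • p = p → g = 1 := fun g hg p hgp => h.faith g fun q => by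
    obtain ⟨c, hc', rfl⟩ := htr p q
    rw [smul_smul, hc g hg c hc', mul_smul, hgp]
  haveI := h.nontrivial
  obtain ⟨a⟩ := (inferInstance : Nonempty Ω)
  have hb : ∀ a : Ω, Function.Bijective fun g : A => (g : G) • a := fun a => by
    refine ⟨fun x y hxy => Subtype.ext ?_, fun q => ?_⟩
    · exact (inv_mul_eq_one.1 (hfree _ (A.mul_mem (A.inv_mem y.2) x.2) a
        (by rw [mul_smul, inv_smul_eq_iff]; exact hxy))).symm
    · obtain ⟨g, hg, e⟩ := htr a q
      exact ⟨⟨g, hg⟩, e⟩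
  refine ⟨hfree, Nat.card_congr (Equiv.ofBijective _ (hb a)), fun p x hx y hy hx1 hy1 => ?_⟩
  obtain ⟨g, hg1, hg2⟩ := h.move p (x • p) p (y • p) (fun e => hx1 (hfree x hx p e.symm))
    fun e => hy1 (hfree y hy p e.symm)
  exact ⟨g, hg1, congrArg Subtype.val ((hb p).1 (a₁ := ⟨g * x * g⁻¹, hA.conj_mem x hx g⟩) (a₂ := ⟨y, hy⟩)
    (show (g * x * g⁻¹) • p = y • p by rw [mul_smul, inv_smul_eq_iff.2 hg1.symm, mul_smul, hg2]))⟩

theorem no_abelian_normal (hnp : ∀ p j : ℕ, p.Prime → Nat.card Ω ≠ p ^ j) (A : Subgroup G) (hA : A.Normal)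
    (hc : ∀ x ∈ A, ∀ y ∈ A, x * y = y * x) : A = ⊥ := by
  by_contra hne
  obtain ⟨hfree, hcard, hmove⟩ := h.abelian_regular hA hc hne
  haveI := h.nontrivial
  obtain ⟨a⟩ := (inferInstance : Nonempty Ω)
  have h2 := h.two
  have hpr : (Nat.card Ω).minFac.Prime := Nat.minFac_prime (by omega)
  refine hnp _ (Nat.card Ω).primeFactorsList.length hpr
    (Nat.eq_prime_pow_of_unique_prime_dvd (by omega) fun {d} hd hdn => ?_)
  haveI := Fact.mk hd
  haveI := Fact.mk hpr
  obtain ⟨x, hx⟩ := exists_prime_orderOf_dvd_card' (G := A) d (by rw [hcard]; exact hdn)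
  obtain ⟨y, hy⟩ := exists_prime_orderOf_dvd_card' (G := A) (Nat.card Ω).minFac
    (by rw [hcard]; exact Nat.minFac_dvd _)
  rw [← Subgroup.orderOf_coe] at hx hy
  obtain ⟨g, -, hg⟩ := hmove a x.1 x.2 y.1 y.2 (fun e => hd.ne_one (by rw [← hx, e, orderOf_one]))
    fun e => hpr.ne_one (by rw [← hy, e, orderOf_one])
  rw [← hx, ← hy, ← hg]
  exact ((MulAut.conj g).orderOf_eq x.1).symm

theorem no_solvable_normal (hnp : ∀ p j : ℕ, p.Prime → Nat.card Ω ≠ p ^ j) (N : Subgroup G) (hN : N.Normal)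
    [Group.IsSolvable N] : N = ⊥ := by
  haveI := hN
  by_contra hne
  have hex : ∃ n, derivedSeries ↥N n = ⊥ := Group.IsSolvable.solvable
  classical
  obtain ⟨n, hn, hmin⟩ : ∃ n, derivedSeries ↥N n = ⊥ ∧ ∀ j, j < n → derivedSeries ↥N j ≠ ⊥ :=
    ⟨Nat.find hex, Nat.find_spec hex, fun j hj => Nat.find_min hex hj⟩
  rcases n with _ | n
  · rw [derivedSeries_zero] at hn
    exact hne ((Subgroup.eq_bot_iff_forall _).2 fun x hx => congrArg Subtype.val
      ((Subgroup.eq_bot_iff_forall _).1 hn (⟨x, hx⟩ : ↥N) (mem_top _)))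
  · have hA := h.no_abelian_normal hnp ((derivedSeries ↥N n).map N.subtype) inferInstance (by
      rintro _ ⟨x, hx, rfl⟩ _ ⟨y, hy, rfl⟩
      have hm : ⁅(x : ↥N), y⁆ ∈ derivedSeries ↥N (n + 1) := by
        rw [derivedSeries_succ]
        exact commutator_mem_commutator hx hy
      rw [hn, Subgroup.mem_bot, commutatorElement_eq_one_iff_mul_comm] at hm
      rw [← map_mul, ← map_mul, hm])
    rw [Subgroup.map_eq_bot_iff_of_injective _ N.subtype_injective] at hA
    exact hmin n (Nat.lt_succ_self n) hA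

theorem not_solvable (hnp : ∀ p j : ℕ, p.Prime → Nat.card Ω ≠ p ^ j) : ¬ Group.IsSolvable G := fun hs => by
  haveI := hs
  haveI := h.nontrivial
  obtain ⟨a, b, hab⟩ := exists_pair_ne Ω
  obtain ⟨u, hu, -⟩ := h.exists_double hab
  have htop := h.no_solvable_normal hnp ⊤ inferInstance
  exact hu.2.1 (Subgroup.mem_bot.1 (htop ▸ mem_top u))

theorem oddCore_bot (hnp : ∀ p j : ℕ, p.Prime → Nat.card Ω ≠ p ^ j) : Cfsg.oddCore G = ⊥ := by
  haveI : Group.IsSolvable ↥(Cfsg.oddCore G) :=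
    Cfsg.Agent.PF.isSolvable_of_odd _ Cfsg.Lib.ZStarApps.odd_card_pPrimeCore
  exact h.no_solvable_normal hnp _ inferInstance

end TwoA4

/-- An odd number above one times a coprime number above one is not a prime power. -/
theorem not_prime_pow_mul {a b : ℕ} (ha : 2 ≤ a) (hb : 2 ≤ b) (hab : Nat.Coprime a b) :
    ∀ p j : ℕ, p.Prime → a * b ≠ p ^ j := by
  intro p j hp he
  obtain ⟨i, -, hi⟩ := (Nat.dvd_prime_pow hp).1 (he ▸ dvd_mul_right a b)
  obtain ⟨l, -, hl⟩ := (Nat.dvd_prime_pow hp).1 (he ▸ dvd_mul_left b a)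
  have hi0 : i ≠ 0 := fun e => by rw [e, pow_zero] at hi; omega
  have hl0 : l ≠ 0 := fun e => by rw [e, pow_zero] at hl; omega
  have hd : p ∣ Nat.gcd a b := Nat.dvd_gcd (hi ▸ dvd_pow_self p hi0) (hl ▸ dvd_pow_self p hl0)
  rw [hab.gcd_eq_one] at hd
  exact hp.one_lt.ne' (Nat.dvd_one.1 hd)

end Cfsg.Lib.TwoPointFour
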