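import Cfsg.Agent.TwoPointFour.SymTwo
import Cfsg.Agent.TwoPointFour.CaseTwoCentral

/-!
Reduction to the affine case (row 3219).
-/

set_option autoImplicit false
set_option linter.unusedSectionVars false
set_option linter.style.haveILetI false

namespace Cfsg.Lib.TwoPointFour

open MulAction Subgroup Equiv Cfsg.Lib.TwoPointFive

universe u v

variable {G : Type u} {Ω : Type v} [Group G] [Finite G] [Finite Ω] [MulAction G Ω]

namespace TwoA4

variable (h : TwoA4 G Ω) {i : ℕ} (hi2 : 2 ≤ i) (hin : i < Nat.card Ω)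
  (hi : ∀ u ∈ doubles G Ω, Nat.card (fixedBy Ω u) = i)
include h hi2 hin hi

theorem main_central_two (hK : ∀ u ∈ doubles G Ω, ∀ g ∈ kerOf Ω u, g = 1 ∨ g = u) {a b : Ω} (hab : a ≠ b) {z : G}
    (hz : IsCentral a b z) : (∃ J : G, orderOf J = 2 ∧ centralizer ({J} : Set G) ⊔ Cfsg.oddCore G = ⊤) ∨
      (z ∉ doubles G Ω ∧ (∀ x ∈ stabilizer G a ⊓ stabilizer G b, x * x = 1 → x ≠ 1 → z * x ∈ doubles G Ω) ∧
        Nat.card Ω = i * i ∧ ∃ j : ℕ, i = 2 ^ j) := by
  haveI := h.nontrivial
  by_cases hO : ∀ u ∈ doubles G Ω, (others (imgGroup Ω u) ↥(fixedBy Ω u)).Nonempty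
  · rcases Nat.even_or_odd i with hpar | hpar
    · right
      by_cases hzd : z ∈ doubles G Ω
      · exact (h.central_even hi2 hin hi hK hab hz hzd hpar hO).elim
      · obtain ⟨t, ht, -⟩ := h.exists_double hab
        have hH := h.half_cent hK ht
        obtain ⟨k, hk2, hki, hk⟩ := hH.exists_k
        have hsqi := hH.card_eq_sq hk2 hki hk (hO t ht)
        rw [hi t ht] at hsqi
        have hkeven : Even k := by
          rw [hsqi] at hpar
          rcases Nat.even_mul.1 hpar with e | e <;> exact e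
        obtain ⟨j, hj⟩ := hH.k_two_pow hk2 hki hk hkeven
        rcases h.central_count hi2 hin hi hK hab hz with ⟨e, -⟩ | ⟨-, hn⟩
        · exact absurd e hzd
        · exact ⟨hzd, h.central_zx hi2 hin hi hK hab hz, hn, j + j, by rw [hsqi, hj, pow_add]⟩
    · by_cases hzd : z ∈ doubles G Ω
      · exact (h.central_fano hi2 hin hi hK hab hz hzd hpar hO).elim
      · exact Or.inl (h.central_isolated hi2 hin hi hK hab hz hzd hpar)
  · exfalso
    push Not at hO
    obtain ⟨u, hu, hemp⟩ := hO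
    have hH := h.half_cent hK hu
    obtain ⟨k, hk2, hki, hk⟩ := hH.exists_k
    rcases Nat.even_or_odd k with hpar | hpar
    · obtain ⟨j, hj⟩ := hH.k_two_pow hk2 hki hk hpar
      have hb := hH.double_even hk2 hki hk hemp hj
      have hj2 : j ≤ 2 := by
        by_contra hh
        obtain ⟨l, rfl⟩ : ∃ l, j = l + 3 := ⟨j - 3, by omega⟩
        have h1 : l < 2 ^ l := Nat.lt_two_pow_self
        rw [pow_add] at hj
        omega
      obtain ⟨c, d, hcd', hc, hd⟩ := exists_two_fixed hu
      obtain ⟨g, hga, hgb⟩ := h.move a b c d hab hcd'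
      have hz' : IsCentral c d (g * z * g⁻¹) := hga ▸ hgb ▸ hz.move g
      set w := g * z * g⁻¹
      have hwC : w ∈ centralizer ({u} : Set G) := mem_centralizer_singleton_iff.2 (hz'.2.2 u ⟨hc, hd⟩)
      have hwd : w ∈ doubles G Ω := by
        refine h.lift_double hK hu (c := ⟨w, hwC⟩) (hH.all_doubles hemp (img_sq u hz'.2.1) fun e => hcd' ?_)
        have := (mem_kerOf.1 ((img_eq_one u _).1 e)).2 c hc
        exact this.symm.trans hz'.1.1
      have hcount : 3 * (Nat.card Ω - i) = 4 * (i * (i - 1)) :=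
        ((h.central_count hi2 hin hi hK hcd' hz').resolve_right fun e => e.1 hwd).2
      have hcd := hH.card_eq_double hk2 hki hk hemp
      rw [hi u hu] at hcd
      subst hj
      interval_cases j
      · norm_num at hk2
      · norm_num at hcd
        obtain rfl : i = 6 := by omega
        exact h.not_forty_six (by omega)
      · norm_num at hcd
        obtain rfl : i = 28 := by omega
        refine h.not_ten_thirty_six hi (by omega) hK (k := 4) le_rfl fun u' hu' v hv => ?_
        have hH' := h.half_cent hK hu'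
        obtain ⟨k', hk'2, hk'i, hk'⟩ := hH'.exists_k
        rw [hk' v hv]
        rcases hH'.dichotomy hk'2 hk'i hk' with e | e
        · have h2 := e.2
          rw [hi u' hu'] at h2
          have hk'l : k' < 28 := by rw [hi u' hu'] at hk'i; exact hk'i
          interval_cases k' <;> omega
        · have h2 := e.2.1
          rw [hi u' hu'] at h2
          have hk'l : k' < 28 := by rw [hi u' hu'] at hk'i; exact hk'i
          interval_cases k' <;> omega
    · exact hH.double_odd hk2 hki hk hemp hpar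

theorem reduce : (Nat.card Ω = 6 ∧ Nonempty (G ≃* alternatingGroup (Fin 6))) ∨
    (Nat.card Ω = 15 ∧ Nonempty (G ≃* alternatingGroup (Fin 7))) ∨
    (∃ J : G, orderOf J = 2 ∧ centralizer ({J} : Set G) ⊔ Cfsg.oddCore G = ⊤) ∨
    (Nat.card Ω = i * i ∧ (∃ j : ℕ, i = 2 ^ j) ∧ ∃ A : Subgroup G, A.Normal ∧ (∀ x ∈ A, x * x = 1) ∧
      Nat.card A = Nat.card Ω ∧ ∀ g ∈ A, ∀ p : Ω, g • p = p → g = 1) := by
  haveI := h.nontrivial
  obtain ⟨a, b, hab⟩ := exists_pair_ne Ω
  have haff : ∀ {z : G}, IsCentral a b z → (z ∉ doubles G Ω ∧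
      (∀ x ∈ stabilizer G a ⊓ stabilizer G b, x * x = 1 → x ≠ 1 → z * x ∈ doubles G Ω) ∧
      Nat.card Ω = i * i ∧ ∃ j : ℕ, i = 2 ^ j) → (Nat.card Ω = i * i ∧ (∃ j : ℕ, i = 2 ^ j) ∧
      ∃ A : Subgroup G, A.Normal ∧ (∀ x ∈ A, x * x = 1) ∧
        Nat.card A = Nat.card Ω ∧ ∀ g ∈ A, ∀ p : Ω, g • p = p → g = 1) := by
    rintro z hz ⟨hzd, hzx, hn, j, hj⟩
    obtain ⟨N, hN, hN2, hzN⟩ := h.d_trick hi2 hin hi hab hz hzd hzx (j := j + j) (by rw [hn, hj, pow_add])
    refine ⟨hn, ⟨j, hj⟩, h.affine_of_two hN hN2 fun e => ?_⟩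
    rw [e, Subgroup.mem_bot] at hzN
    exact hab (by rw [← hz.1.1, hzN, one_smul])
  rcases h.kerOf_cases with hK | hK
  · rcases h.central_dichotomy with hS | hZ
    · rcases Nat.even_or_odd i with hpar | hpar
      · have hn := h.caseOne_sym_even hi2 hin hi hK hab (hS a b hab) hpar
        exact Or.inl ⟨hn, h.six_alternating hn⟩
      · exact Or.inr (Or.inl (h.caseOne_sym_odd hi2 hin hi hK hab (hS a b hab) hpar))
    · obtain ⟨z, hz⟩ := hZ a b hab
      rcases Nat.even_or_odd i with hpar | hpar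
      · exact Or.inr (Or.inr (Or.inr (haff hz (h.caseOne_central_even hi2 hin hi hK hab hz hpar))))
      · exact (h.caseOne_central_odd hi2 hin hi hK hab hz hpar).elim
  · rcases h.central_dichotomy with hS | hZ
    · exact (h.main_sym_two hi2 hin hi hK hS).elim
    · obtain ⟨z, hz⟩ := hZ a b hab
      rcases h.main_central_two hi2 hin hi hK hab hz with e | e
      · exact Or.inr (Or.inr (Or.inl e))
      · exact Or.inr (Or.inr (Or.inr (haff hz e)))

end TwoA4

end Cfsg.Lib.TwoPointFour
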