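import Cfsg.Agent.TwoPointFour.CaseTwo
import Mathlib.GroupTheory.Transfer

/-!
The symmetric case with a kernel of order two, and twenty-eight points (row 3219).
-/

set_option autoImplicit false
set_option linter.unusedSectionVars false
set_option linter.style.haveILetI false

namespace Cfsg.Lib.TwoPointFour

open MulAction Subgroup Equiv Cfsg.Lib.TwoPointFive

universe u v

variable {G : Type u} {Ω : Type v} [Group G] [Finite G] [Finite Ω] [MulAction G Ω]

set_option maxRecDepth 100000 in
theorem divisors_1296 : ∀ d ∈ (1296 : ℕ).divisors, d % 7 = 1 → ¬ 4 ∣ 9072 / d → d = 8 ∨ d = 1296 := by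
  decide +kernel

namespace TwoA4

variable (h : TwoA4 G Ω) {i : ℕ} (hi2 : 2 ≤ i) (hin : i < Nat.card Ω)
  (hi : ∀ u ∈ doubles G Ω, Nat.card (fixedBy Ω u) = i)
include h hi2 hin hi

omit hi2 hin in
/-- Twenty-eight points are impossible: the normaliser of an element of order seven is too large or too small. -/
theorem twenty_eight (hall : ∀ u : G, u * u = 1 → u ≠ 1 → u ∈ doubles G Ω) (hn : Nat.card Ω = 28) (hi4 : i = 4) :
    False := by
  classical
  haveI := h.nontrivial
  haveI : Fact (Nat.Prime 7) := ⟨by norm_num⟩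
  haveI : Fact (Nat.Prime 3) := ⟨by norm_num⟩
  have hG : Nat.card G = 9072 := by rw [h.card_G, hn]
  obtain ⟨Q⟩ := (inferInstance : Nonempty (Sylow 7 G))
  have hQ : Nat.card (Q : Subgroup G) = 7 := by
    obtain ⟨j, hj⟩ := IsPGroup.iff_card.1 Q.2
    have h1 := Q.dvd_card_of_dvd_card (show 7 ∣ Nat.card G by rw [hG]; norm_num)
    have h2 := Subgroup.card_subgroup_dvd_card (Q : Subgroup G)
    rw [hG, hj] at h2
    rw [hj] at h1
    rcases j with _ | _ | j
    · norm_num at h1
    · exact hj.trans (pow_one 7)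
    · have h3 : 7 * 7 ∣ 9072 := (Dvd.intro (7 ^ j) (by ring)).trans h2
      norm_num at h3
  obtain ⟨f, hf⟩ := exists_prime_orderOf_dvd_card' (G := (Q : Subgroup G)) 7 (by rw [hQ])
  rw [← Subgroup.orderOf_coe] at hf
  have hfree : ∀ p : Ω, f.1 • p ≠ p := fun p hp => by
    have h1 : orderOf f.1 ∣ Nat.card (stabilizer G p) := by
      exact Subgroup.orderOf_dvd_natCard _ (hp : f.1 ∈ stabilizer G p)
    rw [hf, h.card_stab, hn] at h1
    norm_num at h1
  set N := normalizer ((Q : Subgroup G) : Set G) with hN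
  set ψ := (Q : Subgroup G).normalizerMonoidHom
  have hrange : Nat.card ψ.range ∣ 6 := by
    haveI : IsCyclic ↥(Q : Subgroup G) := isCyclic_of_prime_card hQ
    have := Subgroup.card_subgroup_dvd_card ψ.range
    rwa [IsCyclic.card_mulAut, hQ, Nat.totient_prime (by norm_num)] at this
  have hodd : ¬ 2 ∣ Nat.card ψ.ker := fun hd => by
    haveI : Fact (Nat.Prime 2) := ⟨Nat.prime_two⟩
    obtain ⟨u, hu⟩ := exists_prime_orderOf_dvd_card' (G := ψ.ker) 2 hd
    rw [← Subgroup.orderOf_coe, ← Subgroup.orderOf_coe] at hu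
    have hud := hall u.1.1 (InvolCalc.sq_of_order_two hu) (InvolCalc.ne_one_of_order_two hu)
    have hfu : f.1 * u.1.1 = u.1.1 * f.1 := by
      have h1 : ψ u.1 f = f := by rw [show ψ u.1 = 1 from u.2]; rfl
      exact (mul_inv_eq_iff_eq_mul.1 (congrArg Subtype.val h1)).symm
    let r : ↥(zpowers f.1) →* Perm (fixedBy Ω u.1.1) := restrictHom _ _ fun g hg p hp => by
      obtain ⟨l, rfl⟩ := mem_zpowers_iff.1 hg
      exact fixed_maps u.1.1 _ (mem_centralizer_singleton_iff.2 ((show Commute f.1 u.1.1 from hfu).zpow_left l)) p hp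
    have h7 : orderOf (r ⟨f.1, mem_zpowers _⟩) ∣ 7 := by
      have := orderOf_map_dvd r ⟨f.1, mem_zpowers f.1⟩
      rwa [Subgroup.orderOf_mk, hf] at this
    have h24 : orderOf (r ⟨f.1, mem_zpowers _⟩) ∣ 24 := by
      have := orderOf_dvd_natCard (r ⟨f.1, mem_zpowers _⟩)
      rwa [Nat.card_perm, hi _ hud, hi4] at this
    have h1 : r ⟨f.1, mem_zpowers _⟩ = 1 := orderOf_eq_one_iff.1 (Nat.dvd_one.1 (by
      have := Nat.dvd_gcd h7 h24
      rwa [show Nat.gcd 7 24 = 1 from rfl] at this))
    obtain ⟨p, -, -, hp, -⟩ := exists_two_fixed hud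
    exact hfree p ((restrictHom_eq_one _).1 h1 p hp)
  have hNc : Nat.card ψ.ker * Nat.card ψ.range = Nat.card N := by
    rw [← Subgroup.index_ker]
    exact ψ.ker.card_mul_index
  have h4 : ¬ 4 ∣ Nat.card N := fun hd => by
    rw [← hNc] at hd
    have h2 := (Nat.Coprime.pow_left 2 (Nat.prime_two.coprime_iff_not_dvd.2 hodd)).dvd_of_dvd_mul_left
      (show 2 ^ 2 ∣ Nat.card ψ.ker * Nat.card ψ.range from hd)
    have := h2.trans hrange
    norm_num at this
  have hsyl : Nat.card (Sylow 7 G) = N.index := Q.card_eq_index_normalizer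
  have hidx := N.card_mul_index
  rw [← hsyl, hG] at hidx
  have hmem : Nat.card (Sylow 7 G) ∈ (1296 : ℕ).divisors := by
    have h1 := Q.card_dvd_index
    have h2 := (Q : Subgroup G).card_mul_index
    rw [hQ, hG] at h2
    rw [show (Q : Subgroup G).index = 1296 by omega] at h1
    exact Nat.mem_divisors.2 ⟨h1, by norm_num⟩
  rcases divisors_1296 _ hmem (by
      have := card_sylow_modEq_one 7 G
      unfold Nat.ModEq at this
      omega)
    (fun hd => h4 (by rwa [← hidx, Nat.mul_div_cancel _ Nat.card_pos] at hd)) with e | e <;> rw [e] at hidx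
  · -- a large 3-subgroup centralises the element
    have h1134 : Nat.card ψ.ker * Nat.card ψ.range = 1134 := by omega
    have h27 : 3 ^ 3 ∣ Nat.card ψ.ker := by
      have hle := Nat.le_of_dvd (by norm_num) hrange
      have hk := hodd
      interval_cases hr : Nat.card ψ.range <;> omega
    obtain ⟨J, hJ⟩ := Sylow.exists_subgroup_card_pow_prime 3 h27
    set J' : Subgroup G := J.map (N.subtype.comp ψ.ker.subtype) with hJ'
    have hJc : Nat.card J' = 27 := by
      have hinj : Function.Injective (N.subtype.comp ψ.ker.subtype) := fun x y e => Subtype.ext (Subtype.ext e)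
      rw [hJ', Subgroup.card_map_of_injective hinj, hJ]
      rfl
    have hcomm : ∀ x ∈ J', x * f.1 = f.1 * x := by
      rintro _ ⟨x, -, rfl⟩
      have h1 : ψ x.1 f = f := by rw [show ψ x.1 = 1 from x.2]; rfl
      exact mul_inv_eq_iff_eq_mul.1 (congrArg Subtype.val h1)
    obtain ⟨p, hp⟩ := (IsPGroup.of_card (p := 3) (n := 3) (by rw [hJc]; rfl) :
      IsPGroup 3 J').nonempty_fixed_point_of_prime_not_dvd_card Ω (by rw [hn]; norm_num)
    have hle : J' ≤ stabilizer G p ⊓ stabilizer G (f.1 • p) := fun x hx =>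
      ⟨hp ⟨x, hx⟩, show x • f.1 • p = f.1 • p by
        rw [smul_smul, hcomm x hx, mul_smul, show x • p = p from hp ⟨x, hx⟩]⟩
    have := Subgroup.card_dvd_of_le hle
    rw [hJc, h.card_pair (hfree p).symm] at this
    norm_num at this
  · -- a normal complement would be transitive
    have hN7 : Nat.card N = 7 := by omega
    have hNQ : (Q : Subgroup G) = N := Subgroup.eq_of_le_of_card_ge Subgroup.le_normalizer (by rw [hN7, hQ])
    haveI : IsCyclic ↥(Q : Subgroup G) := isCyclic_of_prime_card hQ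
    letI : CommGroup ↥(Q : Subgroup G) := IsCyclic.commGroup
    have hPC : normalizer ((Q : Subgroup G) : Set G) ≤ centralizer ((Q : Subgroup G) : Set G) := fun x hx => by
      have hxQ : x ∈ (Q : Subgroup G) := hNQ ▸ hx
      exact mem_centralizer_iff.2 fun y hy => congrArg Subtype.val (mul_comm (⟨y, hy⟩ : ↥(Q : Subgroup G)) ⟨x, hxQ⟩)
    have hcompl := MonoidHom.ker_transferSylow_isComplement' Q hPC
    set K := (MonoidHom.transferSylow Q hPC).ker
    have hK : Nat.card K = 1296 := by
      have := hcompl.card_mul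
      rw [hQ, hG] at this
      omega
    have hKn : K.Normal := inferInstance
    haveI : MulAction.IsPretransitive K Ω := ⟨fun p q => by
      obtain ⟨g, hg, e⟩ := h.normal_transitive hKn (fun e => by rw [e, Subgroup.card_bot] at hK; omega) p q
      exact ⟨⟨g, hg⟩, e⟩⟩
    obtain ⟨p⟩ := (inferInstance : Nonempty Ω)
    have := (stabilizer K p).index_dvd_card
    rw [index_stabilizer_of_transitive, hn, hK] at this
    norm_num at this

theorem main_sym_two (hK : ∀ u ∈ doubles G Ω, ∀ g ∈ kerOf Ω u, g = 1 ∨ g = u)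
    (hS : ∀ a b : Ω, a ≠ b → ∀ z : G, ¬ IsCentral a b z) : False := by
  haveI : Fact (Nat.Prime 2) := ⟨Nat.prime_two⟩
  haveI := h.nontrivial
  obtain ⟨a, b, hab⟩ := exists_pair_ne Ω
  obtain ⟨-, hall, -⟩ := h.sType_facts hi2 hin hi hab (hS a b hab)
  obtain ⟨Q⟩ := (inferInstance : Nonempty (Sylow 2 G))
  haveI : Nontrivial ↥(Q : Subgroup G) := Finite.one_lt_card_iff_nontrivial.1 (by
    have h2 : 2 ∣ Nat.card G := ⟨Nat.card Ω * (Nat.card Ω - 1) * 6, by rw [h.card_G]; ring⟩
    have := Q.dvd_card_of_dvd_card h2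
    have := Nat.card_pos (α := (Q : Subgroup G))
    omega)
  haveI : Nontrivial (Subgroup.center ↥(Q : Subgroup G)) := Q.2.center_nontrivial
  obtain ⟨c, hc⟩ := exists_prime_orderOf_dvd_card' (G := Subgroup.center ↥(Q : Subgroup G)) 2 (by
    obtain ⟨j, hj⟩ := IsPGroup.iff_card.1 (Q.2.to_subgroup (Subgroup.center ↥(Q : Subgroup G)))
    have := Finite.one_lt_card (α := Subgroup.center ↥(Q : Subgroup G))
    rcases j with _ | j
    · rw [pow_zero] at hj; omega
    · rw [hj, pow_succ]; exact Dvd.intro_left _ rfl)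
  have hu2 : orderOf c.1.1 = 2 := by rw [orderOf_coe, orderOf_coe, hc]
  have hud := hall c.1.1 (InvolCalc.sq_of_order_two hu2) (InvolCalc.ne_one_of_order_two hu2)
  have hQC : (Q : Subgroup G) ≤ centralizer ({c.1.1} : Set G) := fun x hx =>
    mem_centralizer_singleton_iff.2 (congrArg Subtype.val (Subgroup.mem_center_iff.1 c.2 ⟨x, hx⟩))
  obtain ⟨k, hk2, hki, hk⟩ := (h.half_cent hK hud).exists_k
  rcases Nat.even_or_odd k with hpar | hpar
  · have hn := h.caseTwo_sym_even hi2 hin hi hK hS hud hk2 hki hk hpar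
    have hcount := h.eq_count hi hab (h.sType_facts hi2 hin hi hab (hS a b hab)).1
    refine h.twenty_eight hi hall hn ?_
    obtain ⟨l, rfl⟩ : ∃ l, i = l + 1 := ⟨i - 1, by omega⟩
    rw [hn, Nat.add_sub_cancel] at hcount
    rcases (show l ≤ 2 ∨ l = 3 ∨ 4 ≤ l by omega) with hl | hl | hl
    · interval_cases l <;> omega
    · omega
    · have := Nat.mul_le_mul (show 5 ≤ l + 1 by omega) hl
      omega
  · exact (h.caseTwo_sym_odd hi2 hin hi hK hS hud Q hQC hk2 hki hk hpar).elim

end TwoA4

end Cfsg.Lib.TwoPointFour
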